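import Mathlib
import Groth.Prelude.Def_BlowUp2
import Groth.Agent.H9.EffCartier
import Groth.Agent.H9.BlowUp
import Groth.Agent.H9.ComapIdeal
import Groth.Agent.S5434

set_option autoImplicit false
universe u
open CategoryTheory CategoryTheory.Limits AlgebraicGeometry TopologicalSpace

namespace Groth.Agent.H94.EffCartierDense

variable {X : Scheme.{u}}

theorem compl_inf_eq_basicOpen (I : X.IdealSheafData) (V : X.affineOpens) (t : Γ(X, V.1))
    (h : I.ideal V = Ideal.span {t}) : I.support.compl ⊓ V.1 = X.basicOpen t := by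
  have h1 := I.coe_support_inter V
  rw [h, Scheme.zeroLocus_span, Scheme.zeroLocus_singleton] at h1
  ext x
  simp only [Opens.coe_inf, Closeds.coe_compl, Set.mem_inter_iff, Set.mem_compl_iff, SetLike.mem_coe]
  constructor
  · rintro ⟨hx1, hx2⟩
    by_contra hx3
    have : x ∈ (I.support : Set X) ∩ V := by rw [h1]; exact ⟨hx3, hx2⟩
    exact hx1 this.1
  · intro hx
    have hxV : x ∈ V.1 := X.basicOpen_le t hx
    refine ⟨fun hx1 => ?_, hxV⟩
    have : x ∈ (X.basicOpen t : Set X)ᶜ ∩ V := by rw [← h1]; exact ⟨hx1, hxV⟩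
    exact this.1 hx

/-- Local criterion for scheme-theoretic dominance of an open immersion. -/
theorem schDom_of_affine_cover (U : X.Opens)
    (h : ∀ x : X, ∃ V : X.affineOpens, x ∈ V.1 ∧
      Function.Injective (X.presheaf.map (homOfLE (inf_le_left : V.1 ⊓ U ≤ V.1)).op)) :
    IsSchemeTheoreticallyDominant U.ι := by
  constructor
  choose V hxV hV using h
  apply Scheme.IdealSheafData.ext_of_iSup_eq_top V
  · rw [eq_top_iff]
    intro x _
    exact Opens.mem_iSup.2 ⟨x, hxV x⟩
  intro x
  rw [Scheme.IdealSheafData.ideal_bot]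
  show (Scheme.Hom.ker U.ι).ideal (V x) = ⊥
  rw [eq_bot_iff]
  refine (Scheme.Hom.ideal_ker_le U.ι (V x)).trans ?_
  have hinj : Function.Injective (U.ι.app (V x).1) := by
    rw [Scheme.Opens.ι_app]
    refine Groth.Agent.S5434.inj_transport ?_ inf_le_left _ (hV x)
    rw [Scheme.Hom.image_preimage_eq_opensRange_inf, Scheme.Opens.opensRange_ι, inf_comm]
  intro a ha
  rw [RingHom.mem_ker] at ha
  have : a = 0 := hinj (by rw [map_zero]; exact ha)
  simp [this]

theorem injective_of_isPrincipalNZD (I : X.IdealSheafData) (V : X.affineOpens)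
    (h : Groth.Agent.H9.IsPrincipalNZD I V) :
    Function.Injective
      (X.presheaf.map (homOfLE (inf_le_left : V.1 ⊓ I.support.compl ≤ V.1)).op) := by
  obtain ⟨t, ht, hI⟩ := h
  have heq : X.basicOpen t = V.1 ⊓ I.support.compl := by
    rw [inf_comm, compl_inf_eq_basicOpen I V t hI]
  refine Groth.Agent.S5434.inj_transport heq (X.basicOpen_le t) _ ?_
  haveI := V.2.isLocalization_basicOpen t
  have := IsLocalization.injective (M := Submonoid.powers t) Γ(X, X.basicOpen t)
    (Submonoid.powers_le.2 ht)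
  exact this

theorem dominant_compl_of_isEffCartier (I : X.IdealSheafData) (hI : BlowUp.IsEffCartierIdeal I) :
    IsSchemeTheoreticallyDominant (Scheme.Opens.ι I.support.compl) := by
  apply schDom_of_affine_cover
  intro x
  obtain ⟨V, hxV, -, hV⟩ := Groth.Agent.H9.exists_affine_isPrincipalNZD hI ⊤ x trivial
  exact ⟨V, hxV, injective_of_isPrincipalNZD I V hV⟩

end Groth.Agent.H94.EffCartierDense
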