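import Groth.Agent.H25.LocRingedEt

/-! (COVTOP) for helper96's S10741/S10744 squad: affine objects cover the final object of the
small etale site of a sheaf `X`. -/

set_option autoImplicit false
universe u
open CategoryTheory AlgebraicGeometry AlgSp

namespace Groth.Agent.H94.FPres_COVTOP

/-- affine objects cover the final object of the small etale site. -/
theorem coversTop_affine {S : Scheme.{u}} (X : AlgSp.Sp S) :
    (AlgSp.etTop X).CoversTop
      (fun i : {E : AlgSp.EtOver X // IsAffine E.obj.left.left} => i.1) := by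
  intro E
  have hcov : Sieve.ofArrows
      (fun O : E.obj.left.left.affineOpens => Groth.Agent.H25.LocRingedEt.openSub E O.1)
      (fun O => Groth.Agent.H25.LocRingedEt.openIncl E O.1) ∈ AlgSp.etTop X E := by
    apply AlgSp.ofArrows_mem_etTop
    intro x
    obtain ⟨O, hO, hxO, -⟩ :=
      (TopologicalSpace.Opens.isBasis_iff_nbhd.1 E.obj.left.left.isBasis_affineOpens)
        (show x ∈ (⊤ : E.obj.left.left.Opens) from trivial)
    refine ⟨⟨O, hO⟩, ?_⟩
    rw [Groth.Agent.H25.LocRingedEt.range_openIncl]
    exact hxO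
  refine (AlgSp.etTop X).superset_covering ?_ hcov
  rintro V f ⟨Z, h, g, ⟨O⟩, rfl⟩
  have hO : IsAffine (Groth.Agent.H25.LocRingedEt.openSub E O.1).obj.left.left := O.2
  exact ⟨⟨Groth.Agent.H25.LocRingedEt.openSub E O.1, hO⟩, ⟨h⟩⟩

end Groth.Agent.H94.FPres_COVTOP
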