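import Mathlib.RingTheory.Length
import Mathlib.LinearAlgebra.Isomorphisms
import Mathlib.Order.ModularLattice
import Mathlib.Tactic

/-!
# Relative lengths of subquotients and the six-term length identity for 2-periodic complexes

`relLen A B` is the length of `A / (A ∩ B)` for submodules `A B` of a module.  We prove the
chain rule, invariance under maps and the second isomorphism theorem, and derive the
"half hexagon" length identities for a short exact sequence of 2-periodic complexes.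
-/

set_option autoImplicit false

namespace Groth.Agent.H94.RelLen

universe u v

variable {R : Type u} [CommRing R] {M : Type v} [AddCommGroup M] [Module R M]

/-- The length of `A / (A ∩ B)`. -/
noncomputable def relLen (A B : Submodule R M) : ℕ∞ :=
  Module.length R (↥A ⧸ B.submoduleOf A)

theorem relLen_congr_right (A : Submodule R M) {B B' : Submodule R M} (h : A ⊓ B = A ⊓ B') :
    relLen A B = relLen A B' := by
  have hsub : B.submoduleOf A = B'.submoduleOf A := by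
    ext x
    have hx : (x : M) ∈ A := x.2
    constructor
    · intro hb
      have hb' : (x : M) ∈ B := hb
      have h1 : (x : M) ∈ A ⊓ B' := h ▸ Submodule.mem_inf.mpr ⟨hx, hb'⟩
      exact (Submodule.mem_inf.mp h1).2
    · intro hb
      have hb' : (x : M) ∈ B' := hb
      have h1 : (x : M) ∈ A ⊓ B := h.symm ▸ Submodule.mem_inf.mpr ⟨hx, hb'⟩
      exact (Submodule.mem_inf.mp h1).2
  unfold relLen
  rw [hsub]

theorem relLen_sup_right (A B : Submodule R M) : relLen (A ⊔ B) B = relLen A B := by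
  have e := LinearMap.quotientInfEquivSupQuotient A B
  have h : (Submodule.comap A.subtype A ⊓ Submodule.comap A.subtype B) = B.submoduleOf A := by
    rw [Submodule.comap_subtype_self, top_inf_eq]
    rfl
  calc relLen (A ⊔ B) B
      = Module.length R (↥A ⧸ (Submodule.comap A.subtype A ⊓ Submodule.comap A.subtype B)) :=
        e.length_eq.symm
    _ = relLen A B := by rw [h]; rfl

theorem relLen_chain {A B C : Submodule R M} (hBA : B ≤ A) (hCB : C ≤ B) :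
    relLen A C = relLen B C + relLen A B := by
  have h1 : C.submoduleOf B ≤ (C.submoduleOf A).comap (Submodule.inclusion hBA) := by
    intro x hx
    exact hx
  have h2 : C.submoduleOf A ≤ (B.submoduleOf A).comap (LinearMap.id) := by
    intro x hx
    exact hCB hx
  obtain ⟨i, hi⟩ : ∃ i : (↥B ⧸ C.submoduleOf B) →ₗ[R] (↥A ⧸ C.submoduleOf A),
      i = Submodule.mapQ _ _ (Submodule.inclusion hBA) h1 := ⟨_, rfl⟩
  obtain ⟨p, hp⟩ : ∃ p : (↥A ⧸ C.submoduleOf A) →ₗ[R] (↥A ⧸ B.submoduleOf A),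
      p = Submodule.mapQ _ _ LinearMap.id h2 := ⟨_, rfl⟩
  have hi_mk : ∀ b : ↥B, i (Submodule.Quotient.mk b) =
      Submodule.Quotient.mk (Submodule.inclusion hBA b) := by
    intro b
    rw [hi]
    rfl
  have hp_mk : ∀ a : ↥A, p (Submodule.Quotient.mk a) = Submodule.Quotient.mk a := by
    intro a
    rw [hp]
    rfl
  have hinj : Function.Injective i := by
    rw [injective_iff_map_eq_zero]
    intro x hx
    obtain ⟨b, rfl⟩ := Submodule.Quotient.mk_surjective _ x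
    rw [hi_mk, Submodule.Quotient.mk_eq_zero] at hx
    rw [Submodule.Quotient.mk_eq_zero]
    exact hx
  have hsurj : Function.Surjective p := by
    intro y
    obtain ⟨a, rfl⟩ := Submodule.Quotient.mk_surjective _ y
    exact ⟨Submodule.Quotient.mk a, hp_mk a⟩
  have hex : Function.Exact i p := by
    intro y
    obtain ⟨a, rfl⟩ := Submodule.Quotient.mk_surjective _ y
    rw [hp_mk, Submodule.Quotient.mk_eq_zero]
    constructor
    · intro ha
      have ha' : (a : M) ∈ B := ha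
      refine ⟨Submodule.Quotient.mk ⟨(a : M), ha'⟩, ?_⟩
      rw [hi_mk]
      rfl
    · rintro ⟨x, hx⟩
      obtain ⟨b, rfl⟩ := Submodule.Quotient.mk_surjective _ x
      rw [hi_mk, Submodule.Quotient.eq] at hx
      have hc : (b : M) - (a : M) ∈ C := hx
      have hb : (b : M) ∈ B := b.2
      have hab : (a : M) = (b : M) - ((b : M) - (a : M)) := by abel
      show (a : M) ∈ B
      rw [hab]
      exact B.sub_mem hb (hCB hc)
  exact Module.length_eq_add_of_exact i p hinj hsurj hex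

theorem relLen_map {N : Type*} [AddCommGroup N] [Module R N] (F : M →ₗ[R] N)
    {A B : Submodule R M} (hBA : B ≤ A) (hker : A ⊓ LinearMap.ker F ≤ B) :
    relLen (A.map F) (B.map F) = relLen A B := by
  obtain ⟨G, hG⟩ : ∃ G : ↥A →ₗ[R] (↥(A.map F) ⧸ (B.map F).submoduleOf (A.map F)),
      G = (Submodule.mkQ _).comp (F.submoduleMap A) := ⟨_, rfl⟩
  have hG_apply : ∀ a : ↥A, G a = Submodule.Quotient.mk (F.submoduleMap A a) := by
    intro a
    rw [hG]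
    rfl
  have hGsurj : Function.Surjective G := by
    rw [hG]
    exact (Submodule.mkQ_surjective _).comp (F.submoduleMap_surjective A)
  have hGker : LinearMap.ker G = B.submoduleOf A := by
    ext a
    rw [LinearMap.mem_ker, hG_apply, Submodule.Quotient.mk_eq_zero]
    constructor
    · intro h
      have h' : F (a : M) ∈ B.map F := h
      obtain ⟨b, hb, hbe⟩ := Submodule.mem_map.mp h'
      have hd : (a : M) - b ∈ A ⊓ LinearMap.ker F := by
        refine Submodule.mem_inf.mpr ⟨A.sub_mem a.2 (hBA hb), ?_⟩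
        rw [LinearMap.mem_ker, map_sub, hbe, sub_self]
      have hab : (a : M) = ((a : M) - b) + b := by abel
      show (a : M) ∈ B
      rw [hab]
      exact B.add_mem (hker hd) hb
    · intro h
      have h' : (a : M) ∈ B := h
      show F (a : M) ∈ B.map F
      exact Submodule.mem_map_of_mem h'
  have e : (↥A ⧸ B.submoduleOf A) ≃ₗ[R] (↥(A.map F) ⧸ (B.map F).submoduleOf (A.map F)) :=
    (Submodule.quotEquivOfEq _ _ hGker.symm).trans (G.quotKerEquivOfSurjective hGsurj)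
  exact e.length_eq.symm

section Half

variable {M₁ N₁ M₂ N₂ M₃ N₃ : Type v}
  [AddCommGroup M₁] [Module R M₁] [AddCommGroup N₁] [Module R N₁]
  [AddCommGroup M₂] [Module R M₂] [AddCommGroup N₂] [Module R N₂]
  [AddCommGroup M₃] [Module R M₃] [AddCommGroup N₃] [Module R N₃]

open LinearMap in
/-- Half of the six-term length identity for a short exact sequence of 2-periodic complexes. -/
theorem half (φ₁ : M₁ →ₗ[R] N₁) (ψ₁ : N₁ →ₗ[R] M₁) (φ₂ : M₂ →ₗ[R] N₂) (ψ₂ : N₂ →ₗ[R] M₂)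
    (φ₃ : M₃ →ₗ[R] N₃) (ψ₃ : N₃ →ₗ[R] M₃)
    (h₁ : φ₁ ∘ₗ ψ₁ = 0) (h₂ : φ₂ ∘ₗ ψ₂ = 0)
    (f₁ : M₁ →ₗ[R] M₂) (g₁ : N₁ →ₗ[R] N₂) (f₂ : M₂ →ₗ[R] M₃) (g₂ : N₂ →ₗ[R] N₃)
    (cφ₁ : φ₂ ∘ₗ f₁ = g₁ ∘ₗ φ₁) (cψ₁ : ψ₂ ∘ₗ g₁ = f₁ ∘ₗ ψ₁)
    (cφ₂ : φ₃ ∘ₗ f₂ = g₂ ∘ₗ φ₂) (cψ₂ : ψ₃ ∘ₗ g₂ = f₂ ∘ₗ ψ₂)
    (hf₁ : Function.Injective f₁) (hg₁ : Function.Injective g₁)
    (hf₂ : Function.Surjective f₂) (hg₂ : Function.Surjective g₂)
    (hM : range f₁ = ker f₂) (hN : range g₁ = ker g₂) :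
    ∃ ra rb : ℕ∞,
      relLen (ker φ₁) (range ψ₁) =
        relLen (range ψ₂ ⊓ range f₁) ((range g₁).map ψ₂) + ra ∧
      relLen (ker φ₂) (range ψ₂) = ra + rb ∧
      relLen (ker φ₃) (range ψ₃) =
        rb + relLen (range φ₂ ⊓ range g₁) ((range f₁).map φ₂) := by
  obtain ⟨Z, hZ⟩ : ∃ Z : Submodule R M₂, Z = ker φ₂ := ⟨_, rfl⟩
  obtain ⟨B, hB⟩ : ∃ B : Submodule R M₂, B = range ψ₂ := ⟨_, rfl⟩
  obtain ⟨M1, hM1⟩ : ∃ M1 : Submodule R M₂, M1 = range f₁ := ⟨_, rfl⟩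
  obtain ⟨N1, hN1⟩ : ∃ N1 : Submodule R N₂, N1 = range g₁ := ⟨_, rfl⟩
  obtain ⟨P, hP⟩ : ∃ P : Submodule R M₂, P = N1.comap φ₂ := ⟨_, rfl⟩
  have hφf : ∀ m, φ₂ (f₁ m) = g₁ (φ₁ m) := fun m => LinearMap.congr_fun cφ₁ m
  have hψg : ∀ n, ψ₂ (g₁ n) = f₁ (ψ₁ n) := fun n => LinearMap.congr_fun cψ₁ n
  have hBZ : B ≤ Z := by
    rw [hB, hZ]
    exact LinearMap.range_le_ker_iff.mpr h₂
  have hf21 : f₂ ∘ₗ f₁ = 0 := LinearMap.range_le_ker_iff.mp hM.le
  have hP' : P = (ker φ₃).comap f₂ := by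
    rw [hP, hN1, hN, ← LinearMap.ker_comp, ← cφ₂, LinearMap.ker_comp]
  have hM1P : M1 ≤ P := by
    rw [hM1, hP, hN1]
    rintro _ ⟨m, rfl⟩
    show φ₂ (f₁ m) ∈ range g₁
    exact ⟨φ₁ m, (hφf m).symm⟩
  have hZP : Z ≤ P := by
    rw [hZ, hP]
    intro x hx
    show φ₂ x ∈ N1
    rw [LinearMap.mem_ker.mp hx]
    exact zero_mem _
  -- translation of the first complex
  have hmap1 : (ker φ₁).map f₁ = Z ⊓ M1 := by
    rw [hZ, hM1]
    ext x
    constructor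
    · rintro ⟨m, hm, rfl⟩
      refine Submodule.mem_inf.mpr ⟨?_, ⟨m, rfl⟩⟩
      rw [LinearMap.mem_ker, hφf, LinearMap.mem_ker.mp hm, map_zero]
    · intro hx
      obtain ⟨hxZ, ⟨m, rfl⟩⟩ := Submodule.mem_inf.mp hx
      refine ⟨m, ?_, rfl⟩
      show m ∈ ker φ₁
      rw [LinearMap.mem_ker]
      apply hg₁
      rw [map_zero, ← hφf]
      exact LinearMap.mem_ker.mp hxZ
  have hmap1' : (range ψ₁).map f₁ = N1.map ψ₂ := by
    rw [hN1, ← LinearMap.range_comp, ← LinearMap.range_comp, cψ₁]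
  have T1 : relLen (ker φ₁) (range ψ₁) = relLen (Z ⊓ M1) (N1.map ψ₂) := by
    rw [← hmap1, ← hmap1']
    exact (relLen_map f₁ (LinearMap.range_le_ker_iff.mpr h₁)
      (by rw [LinearMap.ker_eq_bot.mpr hf₁, inf_bot_eq]; exact bot_le)).symm
  -- translation of the third complex
  have hmap3 : P.map f₂ = ker φ₃ := by
    rw [hP', Submodule.map_comap_eq_of_surjective hf₂]
  have hmap3' : (B ⊔ M1).map f₂ = range ψ₃ := by
    rw [Submodule.map_sup, hB, hM1, ← LinearMap.range_comp, ← LinearMap.range_comp, hf21, ← cψ₂,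
      LinearMap.range_comp, LinearMap.range_eq_top.mpr hg₂, Submodule.map_top, LinearMap.range_zero,
      sup_bot_eq]
  have T3 : relLen (ker φ₃) (range ψ₃) = relLen P (B ⊔ M1) := by
    rw [← hmap3, ← hmap3']
    exact relLen_map f₂ (sup_le (hBZ.trans hZP) hM1P)
      (by rw [← hM, ← hM1]; exact inf_le_right.trans le_sup_right)
  -- the connecting piece
  have hmapC : P.map φ₂ = range φ₂ ⊓ N1 := by
    rw [hP, Submodule.map_comap_eq]
  have hmapC' : (Z ⊔ M1).map φ₂ = M1.map φ₂ := by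
    rw [Submodule.map_sup, hZ, LinearMap.le_ker_iff_map.mp le_rfl, bot_sup_eq]
  have TC : relLen P (Z ⊔ M1) = relLen (range φ₂ ⊓ N1) (M1.map φ₂) := by
    rw [← hmapC, ← hmapC']
    exact (relLen_map φ₂ (sup_le hZP hM1P)
      (by rw [← hZ]; exact inf_le_right.trans le_sup_left)).symm
  -- chains
  have hψN : N1.map ψ₂ ≤ B ⊓ M1 := by
    rw [hN1, hB, hM1]
    rintro _ ⟨n, ⟨n', rfl⟩, rfl⟩
    exact Submodule.mem_inf.mpr ⟨⟨g₁ n', rfl⟩, ⟨ψ₁ n', (hψg n').symm⟩⟩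
  have chain1 : relLen (Z ⊓ M1) (N1.map ψ₂) =
      relLen (B ⊓ M1) (N1.map ψ₂) + relLen (Z ⊓ M1) (B ⊓ M1) :=
    relLen_chain (inf_le_inf_right M1 hBZ) hψN
  have chain2 : relLen Z B = relLen (B ⊔ Z ⊓ M1) B + relLen Z (B ⊔ Z ⊓ M1) :=
    relLen_chain (sup_le hBZ inf_le_left) le_sup_left
  have e2 : relLen (B ⊔ Z ⊓ M1) B = relLen (Z ⊓ M1) (B ⊓ M1) := by
    rw [sup_comm, relLen_sup_right]
    apply relLen_congr_right
    apply le_antisymm
    · exact le_inf inf_le_left (le_inf inf_le_right (inf_le_left.trans inf_le_right))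
    · exact le_inf inf_le_left (inf_le_right.trans inf_le_left)
  have chain3 : relLen P (B ⊔ M1) = relLen (Z ⊔ M1) (B ⊔ M1) + relLen P (Z ⊔ M1) :=
    relLen_chain (sup_le hZP hM1P) (sup_le_sup_right hBZ M1)
  have e3 : relLen (Z ⊔ M1) (B ⊔ M1) = relLen Z (B ⊔ Z ⊓ M1) := by
    have e : Z ⊔ (B ⊔ M1) = Z ⊔ M1 := by rw [← sup_assoc, sup_eq_left.mpr hBZ]
    rw [← e, relLen_sup_right]
    apply relLen_congr_right
    have hmod : Z ⊓ (B ⊔ M1) = B ⊔ Z ⊓ M1 := by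
      rw [inf_comm Z (B ⊔ M1), sup_inf_assoc_of_le M1 hBZ, inf_comm M1 Z]
    rw [hmod]
    exact (inf_eq_right.mpr (sup_le hBZ inf_le_left)).symm
  refine ⟨relLen (Z ⊓ M1) (B ⊓ M1), relLen Z (B ⊔ Z ⊓ M1), ?_, ?_, ?_⟩
  · rw [T1, chain1, hB, hM1, hN1]
  · rw [← hZ, ← hB, chain2, e2]
  · rw [T3, chain3, e3, TC, hM1, hN1]

end Half

/-- The arithmetic of the six-term exact hexagon. -/
theorem hex_arith (x1 x2 x3 x4 x5 x6 : ℕ∞)
    (h : ((x1 + x2 < ⊤ ∧ x4 + x5 < ⊤) ∧ (x2 + x3 < ⊤ ∧ x5 + x6 < ⊤)) ∨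
         ((x1 + x2 < ⊤ ∧ x4 + x5 < ⊤) ∧ (x3 + x4 < ⊤ ∧ x6 + x1 < ⊤)) ∨
         ((x2 + x3 < ⊤ ∧ x5 + x6 < ⊤) ∧ (x3 + x4 < ⊤ ∧ x6 + x1 < ⊤))) :
    (x1 + x2 < ⊤ ∧ x4 + x5 < ⊤) ∧ (x2 + x3 < ⊤ ∧ x5 + x6 < ⊤) ∧
      (x3 + x4 < ⊤ ∧ x6 + x1 < ⊤) ∧
      (((x2 + x3).toNat : ℤ) - ((x5 + x6).toNat : ℤ)) =
        (((x1 + x2).toNat : ℤ) - ((x4 + x5).toNat : ℤ)) +
          (((x3 + x4).toNat : ℤ) - ((x6 + x1).toNat : ℤ)) := by
  have hfin : x1 < ⊤ ∧ x2 < ⊤ ∧ x3 < ⊤ ∧ x4 < ⊤ ∧ x5 < ⊤ ∧ x6 < ⊤ := by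
    simp only [ENat.add_lt_top] at h
    tauto
  obtain ⟨h1, h2, h3, h4, h5, h6⟩ := hfin
  lift x1 to ℕ using h1.ne
  lift x2 to ℕ using h2.ne
  lift x3 to ℕ using h3.ne
  lift x4 to ℕ using h4.ne
  lift x5 to ℕ using h5.ne
  lift x6 to ℕ using h6.ne
  simp only [← Nat.cast_add, ENat.toNat_natCast, ENat.natCast_lt_top, and_self, true_and]
  push_cast
  ring

end Groth.Agent.H94.RelLen
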