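import Groth.Agent.H94.RelLen
import Mathlib.Data.ENat.BigOperators

/-!
# Herbrand quotient of `(M, φ^i, φ^(n-i))` for a nilpotent endomorphism
-/

set_option autoImplicit false

namespace Groth.Agent.H94.RelLen

universe u v

variable {R : Type u} [CommRing R] {M : Type v} [AddCommGroup M] [Module R M]

theorem relLen_eq_zero_of_le {A B : Submodule R M} (h : A ≤ B) : relLen A B = 0 := by
  unfold relLen
  rw [Module.length_eq_zero_iff]
  refine ⟨fun x y => ?_⟩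
  obtain ⟨a, rfl⟩ := Submodule.Quotient.mk_surjective _ x
  obtain ⟨b, rfl⟩ := Submodule.Quotient.mk_surjective _ y
  rw [Submodule.Quotient.eq]
  show ((a - b : ↥A) : M) ∈ B
  exact h (a - b).2

section Nil

variable (φ : M →ₗ[R] M)

/-- `ker (φ^i)`. -/
def Kk (i : ℕ) : Submodule R M := LinearMap.ker (φ ^ i)

/-- `range (φ^j)`. -/
def Ii (j : ℕ) : Submodule R M := LinearMap.range (φ ^ j)

theorem Kk_le_succ (i : ℕ) : Kk φ i ≤ Kk φ (i + 1) := by
  intro x hx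
  unfold Kk at hx ⊢
  rw [LinearMap.mem_ker] at hx ⊢
  rw [pow_succ', Module.End.mul_apply, hx, map_zero]

theorem Ii_succ_le (j : ℕ) : Ii φ (j + 1) ≤ Ii φ j := by
  rintro _ ⟨x, rfl⟩
  exact ⟨φ x, by rw [pow_succ, Module.End.mul_apply]⟩

theorem Kk_mono : Monotone (Kk φ) := monotone_nat_of_le_succ (Kk_le_succ φ)

theorem Ii_anti : Antitone (Ii φ) := antitone_nat_of_succ_le (Ii_succ_le φ)

theorem map_pow_Kk (i j : ℕ) : (Kk φ (i + j)).map (φ ^ j) = Ii φ j ⊓ Kk φ i := by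
  unfold Kk Ii
  have h : LinearMap.ker (φ ^ (i + j)) = (LinearMap.ker (φ ^ i)).comap (φ ^ j) := by
    rw [pow_add]
    rfl
  rw [h, Submodule.map_comap_eq]

theorem map_pow_Ii (j k : ℕ) : (Ii φ j).map (φ ^ k) = Ii φ (k + j) := by
  unfold Ii
  rw [← LinearMap.range_comp, pow_add]
  rfl

theorem map_pow_Kk_self (i : ℕ) : (Kk φ i).map (φ ^ i) = ⊥ :=
  LinearMap.le_ker_iff_map.mp le_rfl

theorem Ii_le_Kk {n : ℕ} (hφ : φ ^ n = 0) (i j : ℕ) (hij : n ≤ i + j) : Ii φ j ≤ Kk φ i := by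
  rintro _ ⟨x, rfl⟩
  unfold Kk
  rw [LinearMap.mem_ker, ← Module.End.mul_apply, ← pow_add]
  obtain ⟨d, hd⟩ := Nat.exists_eq_add_of_le hij
  rw [hd, pow_add, hφ, zero_mul, LinearMap.zero_apply]

theorem X_lemma (i : ℕ) :
    ∃ X : ℕ∞,
      relLen (Kk φ (i + 1)) (Ii φ 1) = relLen (Kk φ i) (Ii φ 1) + X ∧
      relLen (Kk φ 1) (Ii φ (i + 1)) = X + relLen (Kk φ 1) (Ii φ i) := by
  obtain ⟨A, hA⟩ : ∃ A : Submodule R M, A = Kk φ (i + 1) := ⟨_, rfl⟩
  obtain ⟨C, hC⟩ : ∃ C : Submodule R M, C = A ⊓ Ii φ 1 := ⟨_, rfl⟩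
  obtain ⟨B, hB⟩ : ∃ B : Submodule R M, B = Kk φ i ⊔ C := ⟨_, rfl⟩
  have hKA : Kk φ i ≤ A := by rw [hA]; exact Kk_le_succ φ i
  have hCA : C ≤ A := by rw [hC]; exact inf_le_left
  have hBA : B ≤ A := by rw [hB]; exact sup_le hKA hCA
  have hCB : C ≤ B := by rw [hB]; exact le_sup_right
  have hker : A ⊓ LinearMap.ker (φ ^ i) ≤ B := by
    rw [hB]
    exact inf_le_right.trans le_sup_left
  have hmapA : A.map (φ ^ i) = Ii φ i ⊓ Kk φ 1 := by
    rw [hA, add_comm i 1, map_pow_Kk]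
  have hCmap : C = (Kk φ (i + 1 + 1)).map (φ ^ 1) := by
    rw [hC, hA, map_pow_Kk, inf_comm]
  have hmapC : C.map (φ ^ i) = Ii φ (i + 1) ⊓ Kk φ 1 := by
    rw [hCmap, ← Submodule.map_comp]
    have h1 : (φ ^ i).comp (φ ^ 1) = φ ^ (i + 1) := by
      rw [pow_add]
      rfl
    rw [h1, add_comm (i + 1) 1, map_pow_Kk]
  have hmapB : B.map (φ ^ i) = Ii φ (i + 1) ⊓ Kk φ 1 := by
    rw [hB, Submodule.map_sup, map_pow_Kk_self, bot_sup_eq, hmapC]
  have hX : relLen (Ii φ i ⊓ Kk φ 1) (Ii φ (i + 1) ⊓ Kk φ 1) = relLen A B := by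
    rw [← hmapA, ← hmapB]
    exact relLen_map (φ ^ i) hBA hker
  have chainb : relLen A C = relLen B C + relLen A B := relLen_chain hBA hCB
  have e1 : relLen A C = relLen A (Ii φ 1) := by
    apply relLen_congr_right
    rw [hC, inf_left_idem]
  have e2 : relLen B C = relLen (Kk φ i) (Ii φ 1) := by
    rw [hB, relLen_sup_right]
    apply relLen_congr_right
    rw [hC, ← inf_assoc, inf_eq_left.mpr hKA]
  have chainc : relLen (Kk φ 1) (Ii φ (i + 1) ⊓ Kk φ 1) =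
      relLen (Ii φ i ⊓ Kk φ 1) (Ii φ (i + 1) ⊓ Kk φ 1) + relLen (Kk φ 1) (Ii φ i ⊓ Kk φ 1) :=
    relLen_chain inf_le_right (inf_le_inf_right _ (Ii_succ_le φ i))
  have e3 : ∀ j, relLen (Kk φ 1) (Ii φ j ⊓ Kk φ 1) = relLen (Kk φ 1) (Ii φ j) := by
    intro j
    apply relLen_congr_right
    rw [inf_comm (Ii φ j) (Kk φ 1), inf_left_idem]
  refine ⟨relLen A B, ?_, ?_⟩
  · rw [← hA, ← e1, chainb, e2]
  · rw [← e3 (i + 1), chainc, hX, e3 i]

theorem Y_lemma {n : ℕ} (hφ : φ ^ n = 0) (i j : ℕ) (hij : i + 1 + j = n) :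
    ∃ Y : ℕ∞,
      relLen (Kk φ (i + 1)) (Ii φ j) = relLen (Kk φ 1) (Ii φ j) + Y ∧
      relLen (Kk φ i) (Ii φ (j + 1)) = Y + relLen (Kk φ i) (Ii φ 1) := by
  obtain ⟨A, hA⟩ : ∃ A : Submodule R M, A = Kk φ (i + 1) := ⟨_, rfl⟩
  obtain ⟨B, hB⟩ : ∃ B : Submodule R M, B = Kk φ 1 ⊔ Ii φ j := ⟨_, rfl⟩
  have hIA : Ii φ j ≤ A := by rw [hA]; exact Ii_le_Kk φ hφ (i + 1) j (by omega)
  have hK1A : Kk φ 1 ≤ A := by rw [hA]; exact Kk_mono φ (by omega)
  have hBA : B ≤ A := by rw [hB]; exact sup_le hK1A hIA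
  have hker : A ⊓ LinearMap.ker (φ ^ 1) ≤ B := by
    rw [hB]
    exact inf_le_right.trans le_sup_left
  have hmapA : A.map (φ ^ 1) = Ii φ 1 ⊓ Kk φ i := by
    rw [hA, map_pow_Kk]
  have hmapB : B.map (φ ^ 1) = Ii φ (j + 1) := by
    rw [hB, Submodule.map_sup, map_pow_Kk_self, bot_sup_eq, map_pow_Ii, add_comm]
  have hY : relLen (Ii φ 1 ⊓ Kk φ i) (Ii φ (j + 1)) = relLen A B := by
    rw [← hmapA, ← hmapB]
    exact relLen_map (φ ^ 1) hBA hker
  have chaina : relLen A (Ii φ j) = relLen B (Ii φ j) + relLen A B :=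
    relLen_chain hBA (by rw [hB]; exact le_sup_right)
  have e1 : relLen B (Ii φ j) = relLen (Kk φ 1) (Ii φ j) := by
    rw [hB, relLen_sup_right]
  have hle : Ii φ (j + 1) ≤ Ii φ 1 ⊓ Kk φ i :=
    le_inf (Ii_anti φ (by omega)) (Ii_le_Kk φ hφ i (j + 1) (by omega))
  have chaini : relLen (Kk φ i) (Ii φ (j + 1)) =
      relLen (Ii φ 1 ⊓ Kk φ i) (Ii φ (j + 1)) + relLen (Kk φ i) (Ii φ 1 ⊓ Kk φ i) :=
    relLen_chain inf_le_right hle
  have e2 : relLen (Kk φ i) (Ii φ 1 ⊓ Kk φ i) = relLen (Kk φ i) (Ii φ 1) := by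
    apply relLen_congr_right
    rw [inf_comm (Ii φ 1) (Kk φ i), inf_left_idem]
  refine ⟨relLen A B, ?_, ?_⟩
  · rw [← hA, chaina, e1]
  · rw [chaini, hY, e2]

end Nil

theorem nil_arith (n : ℕ) (a b : ℕ → ℕ∞) (ha0 : a 0 = 0) (hb : ∀ l < n, b l < ⊤)
    (hrec : ∀ i < n, a (i + 1) + b i = b (n - i - 1) + a i) :
    ∀ i ≤ n, a i < ⊤ ∧ a i = a (n - i) := by
  have hafin : ∀ i ≤ n, a i < ⊤ := by
    intro i
    induction i with
    | zero =>
      intro _
      rw [ha0]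
      exact ENat.top_pos
    | succ i ih =>
      intro hi
      have h1 := hrec i (by omega)
      have h2 : b (n - i - 1) + a i < ⊤ :=
        ENat.add_lt_top.mpr ⟨hb _ (by omega), ih (by omega)⟩
      rw [← h1] at h2
      exact (ENat.add_lt_top.mp h2).1
  obtain ⟨T, hT⟩ : ∃ T : ℕ → ℕ∞, T = fun i => ∑ l ∈ Finset.range i, b l := ⟨_, rfl⟩
  have hTsucc : ∀ i, T (i + 1) = T i + b i := by
    intro i
    rw [hT]
    exact Finset.sum_range_succ _ _
  have hT0 : T 0 = 0 := by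
    rw [hT]
    exact Finset.sum_range_zero _
  have hTfin : ∀ i ≤ n, T i < ⊤ := by
    intro i hi
    rw [hT]
    show ∑ l ∈ Finset.range i, b l < ⊤
    rw [ENat.sum_lt_top]
    intro l hl
    exact hb l (by have := Finset.mem_range.mp hl; omega)
  have key : ∀ i ≤ n, a i + T i + T (n - i) = T n := by
    intro i
    induction i with
    | zero =>
      intro _
      rw [ha0, hT0, zero_add, zero_add, Nat.sub_zero]
    | succ i ih =>
      intro hi
      have h1 := hrec i (by omega)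
      have h2 : n - i = (n - i - 1) + 1 := by omega
      have h3 : n - (i + 1) = n - i - 1 := by omega
      have h4 := ih (by omega)
      rw [h2, hTsucc] at h4
      rw [h3, hTsucc, ← h4]
      calc a (i + 1) + (T i + b i) + T (n - i - 1)
          = (a (i + 1) + b i) + T i + T (n - i - 1) := by ring
        _ = (b (n - i - 1) + a i) + T i + T (n - i - 1) := by rw [h1]
        _ = a i + T i + (T (n - i - 1) + b (n - i - 1)) := by ring
  intro i hi
  refine ⟨hafin i hi, ?_⟩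
  have k1 := key i hi
  have k2 := key (n - i) (Nat.sub_le n i)
  have h5 : n - (n - i) = i := by omega
  rw [h5] at k2
  have hfinT : T i + T (n - i) ≠ ⊤ :=
    (ENat.add_lt_top.mpr ⟨hTfin i hi, hTfin (n - i) (Nat.sub_le n i)⟩).ne
  apply ENat.add_left_injective_of_ne_top hfinT
  show a i + (T i + T (n - i)) = a (n - i) + (T i + T (n - i))
  rw [← add_assoc, k1, add_comm (T i) (T (n - i)), ← add_assoc, k2]

theorem nil_main (φ : M →ₗ[R] M) (n : ℕ) (hn : 0 < n) (hφ : φ ^ n = 0)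
    (hfin : relLen (Kk φ 1) (Ii φ (n - 1)) < ⊤) :
    ∀ i ≤ n, relLen (Kk φ i) (Ii φ (n - i)) < ⊤ ∧
      relLen (Kk φ i) (Ii φ (n - i)) = relLen (Kk φ (n - i)) (Ii φ (n - (n - i))) := by
  have hbc : ∀ i, relLen (Kk φ i) (Ii φ 1) = relLen (Kk φ 1) (Ii φ i) := by
    intro i
    induction i with
    | zero =>
      have h1 : Kk φ 0 ≤ Ii φ 1 := by
        intro x hx
        unfold Kk at hx
        rw [pow_zero, LinearMap.mem_ker, Module.End.one_apply] at hx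
        rw [hx]
        exact zero_mem _
      have h2 : Kk φ 1 ≤ Ii φ 0 := by
        intro x _
        exact ⟨x, by rw [pow_zero, Module.End.one_apply]⟩
      rw [relLen_eq_zero_of_le h1, relLen_eq_zero_of_le h2]
    | succ i ih =>
      obtain ⟨X, hb, hc⟩ := X_lemma φ i
      rw [hb, hc, ih, add_comm]
  have hcmono : Monotone (fun j => relLen (Kk φ 1) (Ii φ j)) := by
    apply monotone_nat_of_le_succ
    intro j
    obtain ⟨X, -, hc⟩ := X_lemma φ j
    show relLen (Kk φ 1) (Ii φ j) ≤ relLen (Kk φ 1) (Ii φ (j + 1))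
    rw [hc]
    exact le_add_self
  have hcfin : ∀ j < n, relLen (Kk φ 1) (Ii φ j) < ⊤ := by
    intro j hj
    exact lt_of_le_of_lt (hcmono (by omega : j ≤ n - 1)) hfin
  have ha0 : relLen (Kk φ 0) (Ii φ (n - 0)) = 0 := by
    apply relLen_eq_zero_of_le
    intro x hx
    unfold Kk at hx
    rw [pow_zero, LinearMap.mem_ker, Module.End.one_apply] at hx
    rw [hx]
    exact zero_mem _
  have hrec : ∀ i < n, relLen (Kk φ (i + 1)) (Ii φ (n - (i + 1))) + relLen (Kk φ i) (Ii φ 1) =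
      relLen (Kk φ (n - i - 1)) (Ii φ 1) + relLen (Kk φ i) (Ii φ (n - i)) := by
    intro i hi
    obtain ⟨Y, h1, h2⟩ := Y_lemma φ hφ i (n - i - 1) (by omega)
    have e1 : n - (i + 1) = n - i - 1 := by omega
    have e2 : n - i = n - i - 1 + 1 := by omega
    have h2' := h2
    rw [← e2] at h2'
    rw [e1, h1, hbc (n - i - 1), h2', add_assoc]
  exact nil_arith n (fun i => relLen (Kk φ i) (Ii φ (n - i))) (fun i => relLen (Kk φ i) (Ii φ 1))
    ha0 (fun l hl => by rw [hbc]; exact hcfin l hl) hrec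

end Groth.Agent.H94.RelLen
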