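import Mathlib
set_option autoImplicit false
universe u

namespace Groth.Agent.H94.TameP7

/-- (P7) fiberwise product over maximal spectra. -/
theorem finprod_fiberwise_maxSpec {B E : Type u} [CommRing B] [CommRing E] [Algebra B E]
    [Algebra.IsIntegral B E] [Finite (MaximalSpectrum B)] [Finite (MaximalSpectrum E)]
    {M : Type*} [CommMonoid M] (F : MaximalSpectrum E → M) :
    ∏ᶠ q : MaximalSpectrum B,
      ∏ᶠ q'' : {q'' : MaximalSpectrum E // q''.asIdeal.comap (algebraMap B E) = q.asIdeal}, F q''.1 =
    ∏ᶠ q'' : MaximalSpectrum E, F q'' := by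
  classical
  haveI := Fintype.ofFinite (MaximalSpectrum B)
  haveI := Fintype.ofFinite (MaximalSpectrum E)
  let g : MaximalSpectrum E → MaximalSpectrum B := fun q'' =>
    ⟨q''.asIdeal.comap (algebraMap B E),
      Ideal.isMaximal_comap_of_isIntegral_of_isMaximal (R := B) q''.asIdeal⟩
  have hg : ∀ (q : MaximalSpectrum B) (q'' : MaximalSpectrum E),
      q''.asIdeal.comap (algebraMap B E) = q.asIdeal ↔ g q'' = q := by
    intro q q''
    constructor
    · intro h
      exact MaximalSpectrum.ext h
    · intro h
      rw [← h]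
  rw [finprod_eq_prod_of_fintype, finprod_eq_prod_of_fintype]
  rw [← Fintype.prod_fiberwise g F]
  refine Finset.prod_congr rfl fun q _ => ?_
  rw [finprod_eq_prod_of_fintype]
  refine Fintype.prod_equiv (Equiv.subtypeEquivRight fun q'' => hg q q'') _ _ fun x => rfl

end Groth.Agent.H94.TameP7
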