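import Mathlib

/-!
# Existence of cofiltered limits of schemes with affine transition maps (helper94)

`Groth.Agent.H94.AffineLimit.hasLimit` : a small cofiltered diagram of schemes with affine
transition morphisms has a limit (via `Scheme.LocalRepresentability`).
`main` adds that the projections are affine.
-/

open CategoryTheory Limits AlgebraicGeometry Opposite

universe u

namespace Groth.Agent.H94.AffineLimit



variable {I : Type u} [SmallCategory I] [IsCofiltered I] (D : I ⥤ Scheme.{u})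
    [∀ (i j : I) (f : i ⟶ j), IsAffineHom (D.map f)] (i0 : I)

instance hasLimit_of_isAffine {K : Type u} [SmallCategory K] (G : K ⥤ Scheme.{u})
    [∀ k, IsAffine (G.obj k)] : HasLimit G := by
  let α : G ⟶ (G ⋙ Scheme.Γ.rightOp) ⋙ Scheme.Spec := G.whiskerLeft ΓSpec.adjunction.unit
  have (i : _) : IsIso (α.app i) := IsAffine.affine
  have : IsIso α := NatIso.isIso_of_isIso_app α
  have : HasLimit ((G ⋙ Scheme.Γ.rightOp) ⋙ Scheme.Spec) :=
    ⟨⟨⟨_, isLimitOfPreserves Scheme.Spec (limit.isLimit (G ⋙ Scheme.Γ.rightOp))⟩⟩⟩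
  exact hasLimit_of_iso (asIso α).symm

instance (U : (D.obj i0).affineOpens) (j : Over i0) : IsAffine ((opensDiagram D i0 U.1).obj j) := by
  have : IsAffineHom (D.map j.hom) := inferInstance
  exact U.2.preimage (D.map j.hom)

instance (U : (D.obj i0).affineOpens) : HasLimit (opensDiagram D i0 U.1) := inferInstance

/-- the open piece -/
noncomputable def XU (U : (D.obj i0).affineOpens) : Scheme.{u} := limit (opensDiagram D i0 U.1)

/-- the element of cones -/
noncomputable def eU (U : (D.obj i0).affineOpens) :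
    (Over.forget i0 ⋙ D).cones.obj (op (XU D i0 U)) :=
  (limit.cone (opensDiagram D i0 U.1)).π ≫ opensDiagramι D i0 U.1


variable {I : Type u} [SmallCategory I] [IsCofiltered I] (D : I ⥤ Scheme.{u})
    [∀ (i j : I) (f : i ⟶ j), IsAffineHom (D.map f)] (i0 : I)


/-- top object -/
abbrev top : Over i0 := Over.mk (𝟙 i0)

section
variable {T : Scheme.{u}} (s : (Over.forget i0 ⋙ D).cones.obj (op T)) (U : (D.obj i0).affineOpens)

/-- leg -/
def leg (j : Over i0) : T ⟶ D.obj j.left := NatTrans.app s j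

omit [IsCofiltered I] [∀ (i j : I) (f : i ⟶ j), IsAffineHom (D.map f)] in
theorem leg_comp_map {j k : Over i0} (φ : j ⟶ k) :
    leg D i0 s j ≫ D.map φ.left = leg D i0 s k := by
  have := s.naturality φ
  exact this.symm.trans (Category.id_comp _)

omit [IsCofiltered I] [∀ (i j : I) (f : i ⟶ j), IsAffineHom (D.map f)] in
theorem leg_comp_hom (j : Over i0) :
    leg D i0 s j ≫ D.map j.hom = leg D i0 s (top i0) :=
  leg_comp_map D i0 s (Over.homMk j.hom : j ⟶ top i0)

/-- the open -/
noncomputable def TU : T.Opens := (leg D i0 s (top i0)) ⁻¹ᵁ U.1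

omit [IsCofiltered I] [∀ (i j : I) (f : i ⟶ j), IsAffineHom (D.map f)] in
theorem TU_le (j : Over i0) : TU D i0 s U ≤ (leg D i0 s j) ⁻¹ᵁ (D.map j.hom ⁻¹ᵁ U.1) := by
  rw [← Scheme.Hom.comp_preimage, leg_comp_hom]
  exact le_rfl

/-- cone on opens diagram -/
noncomputable def coneTU : Cone (opensDiagram D i0 U.1) where
  pt := TU D i0 s U
  π :=
    { app := fun j => (leg D i0 s j).resLE _ _ (TU_le D i0 s U j)
      naturality := fun j k φ => by
        change 𝟙 _ ≫ (leg D i0 s k).resLE _ _ (TU_le D i0 s U k) =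
          (leg D i0 s j).resLE _ _ (TU_le D i0 s U j) ≫
            (D.map φ.left).resLE (D.map k.hom ⁻¹ᵁ U.1) (D.map j.hom ⁻¹ᵁ U.1)
              (by rw [← Scheme.Hom.comp_preimage, ← D.map_comp, Over.w φ])
        rw [Category.id_comp, ← cancel_mono (Scheme.Opens.ι _)]
        simp only [Category.assoc, Scheme.Hom.resLE_comp_ι]
        rw [Scheme.Hom.resLE_comp_ι_assoc, leg_comp_map] }

end


variable {I : Type u} [SmallCategory I] [IsCofiltered I] (D : I ⥤ Scheme.{u})
    [∀ (i j : I) (f : i ⟶ j), IsAffineHom (D.map f)] (i0 : I)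

section
variable {T : Scheme.{u}} (s : (Over.forget i0 ⋙ D).cones.obj (op T)) (U : (D.obj i0).affineOpens)

/-- projection with good type -/
noncomputable def πU (j : Over i0) : XU D i0 U ⟶ (D.map j.hom ⁻¹ᵁ U.1).toScheme :=
  limit.π (opensDiagram D i0 U.1) j

theorem XU_hom_ext {W : Scheme.{u}} {f g : W ⟶ XU D i0 U}
    (h : ∀ j, f ≫ πU D i0 U j = g ≫ πU D i0 U j) : f = g :=
  limit.hom_ext h

/-- the map to the piece -/
noncomputable def aU : (TU D i0 s U).toScheme ⟶ XU D i0 U :=
  limit.lift (opensDiagram D i0 U.1) (coneTU D i0 s U)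

theorem aU_π (j : Over i0) : aU D i0 s U ≫ πU D i0 U j =
    (leg D i0 s j).resLE _ _ (TU_le D i0 s U j) :=
  limit.lift_π _ _

theorem leg_eU (j : Over i0) : leg D i0 (eU D i0 U) j =
    πU D i0 U j ≫ (D.map j.hom ⁻¹ᵁ U.1).ι := rfl

omit [IsCofiltered I] [∀ (i j : I) (f : i ⟶ j), IsAffineHom (D.map f)] in
theorem leg_map {W : Scheme.{u}} (w : W ⟶ T) (j : Over i0) :
    leg D i0 ((Over.forget i0 ⋙ D).cones.map w.op s) j = w ≫ leg D i0 s j := rfl

omit [IsCofiltered I] [∀ (i j : I) (f : i ⟶ j), IsAffineHom (D.map f)] in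
theorem cones_ext' {W : Scheme.{u}} (s s' : (Over.forget i0 ⋙ D).cones.obj (op W))
    (h : ∀ j, leg D i0 s j = leg D i0 s' j) : s = s' :=
  NatTrans.ext (funext h)

theorem comm_aux {W : Scheme.{u}} (w : W ⟶ (TU D i0 s U).toScheme) :
    (Over.forget i0 ⋙ D).cones.map (w ≫ aU D i0 s U).op (eU D i0 U) =
      (Over.forget i0 ⋙ D).cones.map (w ≫ (TU D i0 s U).ι).op s := by
  apply cones_ext'
  intro j
  rw [leg_map, leg_map, leg_eU, Category.assoc, reassoc_of% (aU_π D i0 s U j),
    Scheme.Hom.resLE_comp_ι, Category.assoc]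

theorem surj_aux {W : Scheme.{u}} (x : W ⟶ XU D i0 U) (w : W ⟶ T)
    (h : (Over.forget i0 ⋙ D).cones.map x.op (eU D i0 U) =
      (Over.forget i0 ⋙ D).cones.map w.op s) :
    ∃ w' : W ⟶ (TU D i0 s U).toScheme, w' ≫ aU D i0 s U = x ∧ w' ≫ (TU D i0 s U).ι = w := by
  have hleg : ∀ j, x ≫ πU D i0 U j ≫ (D.map j.hom ⁻¹ᵁ U.1).ι =
      w ≫ leg D i0 s j := by
    intro j
    have := congrArg (fun t => leg D i0 t j) h
    simp only [leg_map, leg_eU] at this
    exact this
  have hrange : Set.range w ⊆ Set.range (TU D i0 s U).ι := by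
    rintro _ ⟨y, rfl⟩
    rw [Scheme.Opens.range_ι]
    change (leg D i0 s (top i0)) (w y) ∈ U.1
    rw [← Scheme.Hom.comp_apply, ← hleg (top i0)]
    rw [Scheme.Hom.comp_apply, Scheme.Hom.comp_apply]
    have h3 : (D.map (top i0).hom) ((D.map (top i0).hom ⁻¹ᵁ U.1).ι ((πU D i0 U (top i0)) (x y))) ∈ U.1 :=
      ((πU D i0 U (top i0)) (x y)).2
    have h2 : D.map (top i0).hom = 𝟙 _ := D.map_id _
    have h4 : ∀ z, (D.map (top i0).hom) z = z := fun z => by rw [h2]; rfl
    rw [h4] at h3
    exact h3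
  refine ⟨IsOpenImmersion.lift (TU D i0 s U).ι w hrange, ?_, IsOpenImmersion.lift_fac _ _ _⟩
  apply XU_hom_ext
  intro j
  rw [Category.assoc, aU_π, ← cancel_mono (D.map j.hom ⁻¹ᵁ U.1).ι, Category.assoc,
    Scheme.Hom.resLE_comp_ι, IsOpenImmersion.lift_fac_assoc, Category.assoc, hleg]

end


variable {I : Type u} [SmallCategory I] [IsCofiltered I] (D : I ⥤ Scheme.{u})
    [∀ (i j : I) (f : i ⟶ j), IsAffineHom (D.map f)] (i0 : I)

/-- the maps to the sheaf -/
noncomputable def fU (U : (D.obj i0).affineOpens) :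
    yoneda.obj (XU D i0 U) ⟶ (Over.forget i0 ⋙ D).cones :=
  yonedaEquiv.symm (eU D i0 U)

theorem fU_app (U : (D.obj i0).affineOpens) {W : Scheme.{u}} (x : W ⟶ XU D i0 U) :
    (fU D i0 U).app (op W) x = (Over.forget i0 ⋙ D).cones.map x.op (eU D i0 U) := by
  rw [fU, ← map_yonedaEquiv, Equiv.apply_symm_apply]

theorem isPullback_fU (U : (D.obj i0).affineOpens) {T : Scheme.{u}}
    (g : yoneda.obj T ⟶ (Over.forget i0 ⋙ D).cones) :
    IsPullback (yoneda.map (aU D i0 (yonedaEquiv g) U))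
      (yoneda.map (TU D i0 (yonedaEquiv g) U).ι) (fU D i0 U) g := by
  apply IsPullback.of_forall_isPullback_app
  rintro ⟨W⟩
  rw [Types.isPullback_iff]
  refine ⟨?_, ?_, ?_⟩
  · ext w
    change (fU D i0 U).app (op W) (w ≫ aU D i0 (yonedaEquiv g) U) =
      g.app (op W) (w ≫ (TU D i0 (yonedaEquiv g) U).ι)
    rw [fU_app, ← map_yonedaEquiv]
    exact comm_aux D i0 _ U w
  · rintro w₁ w₂ ⟨-, h⟩
    change w₁ ≫ (TU D i0 (yonedaEquiv g) U).ι = w₂ ≫ (TU D i0 (yonedaEquiv g) U).ι at h
    exact (cancel_mono _).mp h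
  · intro x w h
    change (fU D i0 U).app (op W) x = g.app (op W) w at h
    rw [fU_app, ← map_yonedaEquiv] at h
    obtain ⟨w', h1, h2⟩ := surj_aux D i0 _ U x w h
    exact ⟨w', h1, h2⟩

theorem isOpenImmersion_fU (U : (D.obj i0).affineOpens) :
    IsOpenImmersion.presheaf (fU D i0 U) := by
  apply MorphismProperty.relative.of_exists
  intro T g
  exact ⟨_, _, _, isPullback_fU D i0 U g, inferInstance⟩


variable {I : Type u} [SmallCategory I] [IsCofiltered I] (D : I ⥤ Scheme.{u})
    [∀ (i j : I) (f : i ⟶ j), IsAffineHom (D.map f)] (i0 : I)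

omit [IsCofiltered I] [∀ (i j : I) (f : i ⟶ j), IsAffineHom (D.map f)] in
theorem isOpenCover_TU {T : Scheme.{u}} (s : (Over.forget i0 ⋙ D).cones.obj (op T)) :
    TopologicalSpace.IsOpenCover (fun U : (D.obj i0).affineOpens => TU D i0 s U) := by
  rw [TopologicalSpace.IsOpenCover]
  rw [eq_top_iff]
  intro x _
  rw [TopologicalSpace.Opens.mem_iSup]
  have hx : (leg D i0 s (top i0)) x ∈ (⊤ : (D.obj i0).Opens) := trivial
  rw [← iSup_affineOpens_eq_top, TopologicalSpace.Opens.mem_iSup] at hx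
  obtain ⟨U, hU⟩ := hx
  exact ⟨U, hU⟩

theorem mem_imageSieve {T : Scheme.{u}} (s : (Over.forget i0 ⋙ D).cones.obj (op T))
    (U : (D.obj i0).affineOpens) :
    (Presheaf.imageSieve (Limits.Sigma.desc (fU D i0)) s).arrows (TU D i0 s U).ι := by
  refine ⟨(Limits.Sigma.ι (fun U => yoneda.obj (XU D i0 U)) U).app _ (aU D i0 s U), ?_⟩
  have h1 : (Limits.Sigma.desc (fU D i0)).app (op (TU D i0 s U).toScheme)
      ((Limits.Sigma.ι (fun U => yoneda.obj (XU D i0 U)) U).app _ (aU D i0 s U)) =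
      (fU D i0 U).app _ (aU D i0 s U) := by
    rw [← Limits.Sigma.ι_desc (fU D i0) U]
    rfl
  have := comm_aux D i0 s U (𝟙 _)
  rw [Category.id_comp, Category.id_comp] at this
  exact h1.trans ((fU_app D i0 U (aU D i0 s U)).trans this)

instance locSurj : Presheaf.IsLocallySurjective Scheme.zariskiTopology.{u}
    (Limits.Sigma.desc (fU D i0)) := by
  constructor
  intro T s
  let 𝒰 := T.openCoverOfIsOpenCover _ (isOpenCover_TU D i0 s)
  refine GrothendieckTopology.superset_covering _ ?_ 𝒰.mem_grothendieckTopology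
  rw [Sieve.generate_le_iff, Presieve.ofArrows_le_iff]
  intro U
  exact mem_imageSieve D i0 s U


section
variable {J : Type u} [SmallCategory J] (G : J ⥤ Scheme.{u})

theorem cones_map_app {V W : Scheme.{u}} (f : V ⟶ W) (s : G.cones.obj (op W)) (j : J) :
    NatTrans.app (G.cones.map f.op s) j = f ≫ NatTrans.app s j := by
  rfl

theorem cones_ext {W : Scheme.{u}} (s s' : G.cones.obj (op W))
    (h : ∀ j, NatTrans.app s j = NatTrans.app s' j) : s = s' :=
  NatTrans.ext (funext h)

theorem isSheaf_cones : Presheaf.IsSheaf Scheme.zariskiTopology.{u} G.cones := by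
  rw [isSheaf_iff_isSheaf_of_type]
  intro W S hS x hx
  -- for each j, amalgamate
  have hj : ∀ j : J, Presieve.IsSheafFor (yoneda.obj (G.obj j)) S.arrows :=
    fun j => GrothendieckTopology.Subcanonical.isSheaf_of_isRepresentable
      (J := Scheme.zariskiTopology.{u}) (yoneda.obj (G.obj j)) S hS
  let xj : ∀ j : J, Presieve.FamilyOfElements (yoneda.obj (G.obj j)) S.arrows :=
    fun j V f hf => NatTrans.app (x f hf) j
  have hxj : ∀ j, (xj j).Compatible := by
    intro j V₁ V₂ Z g₁ g₂ f₁ f₂ h₁ h₂ e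
    have := hx g₁ g₂ h₁ h₂ e
    have := congrArg (fun t => NatTrans.app t j) this
    exact this
  choose t ht htu using fun j => hj j (xj j) (hxj j)
  have ht' : ∀ j {V : Scheme.{u}} (f : V ⟶ W) (hf : S.arrows f), f ≫ t j = NatTrans.app (x f hf) j :=
    fun j V f hf => ht j f hf
  have hnat : ∀ {j k : J} (φ : j ⟶ k), t j ≫ G.map φ = t k := by
    intro j k φ
    apply htu k
    intro V f hf
    have h1 := ht' j f hf
    have h2 := (x f hf).naturality φ
    change f ≫ t j ≫ G.map φ = NatTrans.app (x f hf) k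
    rw [← Category.assoc, h1]
    simpa using h2.symm
  refine ⟨{ app := t, naturality := fun j k φ => by simpa using (hnat φ).symm }, ?_, ?_⟩
  · intro V f hf
    apply cones_ext
    intro j
    rw [cones_map_app]
    exact ht' j f hf
  · intro y hy
    apply cones_ext
    intro j
    apply htu j
    intro V f hf
    have := hy f hf
    have := congrArg (fun t => NatTrans.app t j) this
    exact this


end

variable {I : Type u} [SmallCategory I] [IsCofiltered I] (D : I ⥤ Scheme.{u})
    [∀ (i j : I) (f : i ⟶ j), IsAffineHom (D.map f)]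

theorem hasLimit_over (i0 : I) : HasLimit (Over.forget i0 ⋙ D) := by
  let F : Sheaf Scheme.zariskiTopology.{u} (Type u) :=
    ⟨(Over.forget i0 ⋙ D).cones, isSheaf_cones _⟩
  have hrep : F.1.IsRepresentable :=
    Scheme.LocalRepresentability.isRepresentable (F := F) (f := fU D i0) (isOpenImmersion_fU D i0)
  exact ⟨⟨⟨_, IsLimit.ofRepresentableBy (Functor.representableBy F.1)⟩⟩⟩

theorem hasLimit : HasLimit D := by
  obtain ⟨i0⟩ := IsCofiltered.nonempty (C := I)
  have := hasLimit_over D i0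
  exact Functor.Initial.hasLimit_of_comp (Over.forget i0)

theorem main : ∃ (c : Limits.Cone D) (_ : Limits.IsLimit c), ∀ i, IsAffineHom (c.π.app i) := by
  have := hasLimit D
  exact ⟨limit.cone D, limit.isLimit D, fun i => isAffineHom_π_app D _ (limit.isLimit D) i⟩


end Groth.Agent.H94.AffineLimit
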