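import Mathlib
import Groth.Prelude.Def_AlgSp4
import Groth.Agent.H52.Iso
import Groth.Agent.H50.Basic
set_option autoImplicit false
universe u
open CategoryTheory CategoryTheory.Limits AlgebraicGeometry
open AlgSp
namespace Groth.Agent.H94.AlgSpLimit3

variable {S : Scheme.{u}}

/-- a commutative square of fppf sheaves is a pullback if it has the universal property for scheme
valued points. -/
theorem isPullback_of_forall_yon {P X Y Z' : Sp S} (fst : P ⟶ X) (snd : P ⟶ Y) (f : X ⟶ Z')
    (g : Y ⟶ Z') (w : fst ≫ f = snd ≫ g)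
    (h : ∀ (T : Over S) (u : (yon S).obj T ⟶ X) (v : (yon S).obj T ⟶ Y), u ≫ f = v ≫ g →
      ∃! r : (yon S).obj T ⟶ P, r ≫ fst = u ∧ r ≫ snd = v) :
    IsPullback fst snd f g := by
  let ψ : P ⟶ pullback f g := pullback.lift fst snd w
  haveI : IsIso ψ := by
    apply Groth.Agent.H52.isIso_of_bijective_yon
    intro T
    constructor
    · intro a b hab
      dsimp only at hab
      obtain ⟨r, -, hr⟩ := h T (a ≫ fst) (a ≫ snd) (by rw [Category.assoc, w, Category.assoc])
      have ha := hr a ⟨rfl, rfl⟩
      have hb := hr b ⟨by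
        have := congrArg (· ≫ pullback.fst f g) hab
        dsimp only [ψ] at this
        rw [Category.assoc, Category.assoc, pullback.lift_fst] at this
        exact this.symm, by
        have := congrArg (· ≫ pullback.snd f g) hab
        dsimp only [ψ] at this
        rw [Category.assoc, Category.assoc, pullback.lift_snd] at this
        exact this.symm⟩
      rw [ha, hb]
    · intro q
      obtain ⟨r, ⟨h1, h2⟩, -⟩ := h T (q ≫ pullback.fst f g) (q ≫ pullback.snd f g)
        (by rw [Category.assoc, pullback.condition, Category.assoc])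
      refine ⟨r, ?_⟩
      dsimp only
      apply pullback.hom_ext
      · rw [Category.assoc, pullback.lift_fst, h1]
      · rw [Category.assoc, pullback.lift_snd, h2]
  exact IsPullback.of_iso_pullback ⟨w⟩ (asIso ψ) (pullback.lift_fst _ _ _) (pullback.lift_snd _ _ _)


section
variable {I : Type u} [SmallCategory I]

theorem closedImmersion_limMap (DX DY : I ⥤ Sp S) (τ : DX ⟶ DY)
    (hτ : ∀ i, RepWith @IsClosedImmersion (τ.app i))
    (cX : Cone DX) (hcX : IsLimit cX) (cY : Cone DY) (hcY : IsLimit cY)
    (g : cX.pt ⟶ cY.pt) (hg : ∀ i, g ≫ cY.π.app i = cX.π.app i ≫ τ.app i) :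
    RepWith @IsClosedImmersion g := by
  refine MorphismProperty.relative.of_exists (fun T y => ?_)
  have hrep : ∀ i, Representable (τ.app i) := fun i => (hτ i).rep
  let yi : ∀ i, (yon S).obj T ⟶ DY.obj i := fun i => y ≫ cY.π.app i
  let Ti : I → Over S := fun i => (hrep i).pullback (yi i)
  let sndi : ∀ i, Ti i ⟶ T := fun i => (hrep i).snd (yi i)
  let fsti : ∀ i, (yon S).obj (Ti i) ⟶ DX.obj i := fun i => (hrep i).fst (yi i)
  have sqi : ∀ i, IsPullback (fsti i) ((yon S).map (sndi i)) (τ.app i) (yi i) :=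
    fun i => (hrep i).isPullback (yi i)
  haveI hci : ∀ i, IsClosedImmersion (sndi i).left := fun i => (hτ i).property_snd (yi i)
  haveI hmono : ∀ i, Mono (τ.app i) := fun i =>
    Groth.Agent.H50.mono_of_repWith (fun _ _ g hg => by haveI := hg; infer_instance) (hτ i)
  let K : T.left.IdealSheafData := ⨆ i, (sndi i).left.ker
  let Tinf : Over S := Over.mk (K.subschemeι ≫ T.hom)
  let ιinf : Tinf ⟶ T := Over.homMk K.subschemeι rfl
  have hlift : ∀ (Z : Over S) (v : Z ⟶ T), (∀ i, ∃ vi : Z ⟶ Ti i, vi ≫ sndi i = v) →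
      ∃ v' : Z ⟶ Tinf, v' ≫ ιinf = v := by
    intro Z v hv
    have hK : K.subschemeι.ker ≤ v.left.ker := by
      rw [Scheme.IdealSheafData.ker_subschemeι]
      refine iSup_le (fun i => ?_)
      obtain ⟨vi, rfl⟩ := hv i
      exact Scheme.Hom.le_ker_comp vi.left (sndi i).left
    refine ⟨Over.homMk (IsClosedImmersion.lift K.subschemeι v.left hK) ?_, ?_⟩
    · change _ ≫ K.subschemeι ≫ T.hom = Z.hom
      rw [IsClosedImmersion.lift_fac_assoc, Over.w v]
    · ext
      exact IsClosedImmersion.lift_fac _ _ _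
  have hιmono : ∀ (Z : Over S) (a b : Z ⟶ Tinf), a ≫ ιinf = b ≫ ιinf → a = b := by
    intro Z a b hab
    ext
    have := congrArg (fun f => f.left) hab
    change a.left ≫ K.subschemeι = b.left ≫ K.subschemeι at this
    exact (cancel_mono K.subschemeι).1 this
  have hsndmono : ∀ i (Z : Over S) (a b : Z ⟶ Ti i), a ≫ sndi i = b ≫ sndi i → a = b := by
    intro i Z a b hab
    ext
    have := congrArg (fun f => f.left) hab
    change a.left ≫ (sndi i).left = b.left ≫ (sndi i).left at this
    exact (cancel_mono (sndi i).left).1 this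
  have hri : ∀ i, ∃ ri : Tinf ⟶ Ti i, ri ≫ sndi i = ιinf := by
    intro i
    have hK : (sndi i).left.ker ≤ K.subschemeι.ker := by
      rw [Scheme.IdealSheafData.ker_subschemeι]
      exact le_iSup (fun i => (sndi i).left.ker) i
    refine ⟨Over.homMk (IsClosedImmersion.lift (sndi i).left K.subschemeι hK) ?_, ?_⟩
    · change _ ≫ (Ti i).hom = K.subschemeι ≫ T.hom
      rw [← Over.w (sndi i), IsClosedImmersion.lift_fac_assoc]
    · ext
      exact IsClosedImmersion.lift_fac _ _ _
  choose ri hri using hri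
  have key : ∀ i, (yon S).map (ri i) ≫ fsti i ≫ τ.app i = (yon S).map ιinf ≫ y ≫ cY.π.app i := by
    intro i
    rw [(sqi i).w, ← Category.assoc, ← Functor.map_comp, hri i]
  let coneX : Cone DX :=
    { pt := (yon S).obj Tinf
      π :=
        { app := fun i => (yon S).map (ri i) ≫ fsti i
          naturality := by
            intro i j φ
            rw [← cancel_mono (τ.app j)]
            change (𝟙 _ ≫ (yon S).map (ri j) ≫ fsti j) ≫ τ.app j =
              (((yon S).map (ri i) ≫ fsti i) ≫ DX.map φ) ≫ τ.app j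
            simp only [Category.assoc, Category.id_comp]
            rw [key j, τ.naturality φ, reassoc_of% (key i), cY.w φ] } }
  let a : (yon S).obj Tinf ⟶ cX.pt := hcX.lift coneX
  have ha : ∀ i, a ≫ cX.π.app i = (yon S).map (ri i) ≫ fsti i := fun i => hcX.fac coneX i
  have w : a ≫ g = (yon S).map ιinf ≫ y := by
    apply hcY.hom_ext
    intro i
    rw [Category.assoc, hg i, ← Category.assoc, ha i, Category.assoc, key i, Category.assoc]
  refine ⟨Tinf, a, ιinf, ?_, ?_⟩
  · apply isPullback_of_forall_yon _ _ _ _ w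
    intro Z u v huv
    obtain ⟨v', rfl⟩ := (yon S).map_surjective v
    have hcond : ∀ i, (u ≫ cX.π.app i) ≫ τ.app i = (yon S).map v' ≫ yi i := by
      intro i
      rw [Category.assoc, ← hg i, ← Category.assoc, huv, Category.assoc]
    have hm : ∀ i, ∃ vi : Z ⟶ Ti i, (yon S).map vi ≫ fsti i = u ≫ cX.π.app i ∧ vi ≫ sndi i = v' := by
      intro i
      obtain ⟨vi, hvi⟩ := (yon S).map_surjective ((sqi i).lift (u ≫ cX.π.app i) ((yon S).map v') (hcond i))
      refine ⟨vi, ?_, ?_⟩
      · rw [hvi, (sqi i).lift_fst]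
      · apply (yon S).map_injective
        rw [Functor.map_comp, hvi, (sqi i).lift_snd]
    choose vi hvi1 hvi2 using hm
    obtain ⟨vinf, hvinf⟩ := hlift Z v' (fun i => ⟨vi i, hvi2 i⟩)
    refine ⟨(yon S).map vinf, ⟨?_, ?_⟩, ?_⟩
    · apply hcX.hom_ext
      intro i
      have h1 : vinf ≫ ri i = vi i := by
        apply hsndmono
        rw [Category.assoc, hri i, hvinf, hvi2 i]
      rw [Category.assoc, ha i, ← Category.assoc, ← Functor.map_comp, h1, hvi1 i]
    · rw [← Functor.map_comp, hvinf]
    · rintro r' ⟨-, hr'⟩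
      obtain ⟨ρ, rfl⟩ := (yon S).map_surjective r'
      congr 1
      apply hιmono
      rw [hvinf]
      apply (yon S).map_injective
      rw [Functor.map_comp, hr']
  · show IsClosedImmersion ιinf.left
    exact inferInstanceAs (IsClosedImmersion K.subschemeι)
end

end Groth.Agent.H94.AlgSpLimit3
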