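import Groth.Agent.H52.SL.Defs
import Groth.Agent.H51.LqfDescGen
import Groth.Agent.H51.LargestScheme
import Groth.Agent.H51.EtaleMono
import Groth.Agent.H50.MonoPts
set_option autoImplicit false
universe u
open CategoryTheory CategoryTheory.Limits AlgebraicGeometry Opposite AlgSp
open Groth.Agent.H52.SL Groth.Agent.H50
namespace Groth.Agent.H94.SL_P5
variable {S : Scheme.{u}}

theorem exists_rep_openSub_of_forall {X : Sp S} (hX : IsAlgSpace X) (V : Set (Points X)) (hV : IsOpen V)
    (h : ∀ x ∈ V, ∃ (W : Over S) (i : (yon S).obj W ⟶ X), RepWith @IsOpenImmersion i ∧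
      x ∈ Set.range (Points.map i) ∧ Set.range (Points.map i) ⊆ V) :
    ∃ (W : Over S) (i : (yon S).obj W ⟶ X), RepWith @IsOpenImmersion i ∧ Set.range (Points.map i) = V := by
  have hF : IsAlgSpace (openSub X V) := isAlgSpace_openSub hV hX
  have hι : RepWith @IsOpenImmersion (openSubι X V) := repWith_isOpenImmersion_openSubι hV
  have := AlgSp.repWith_isStableUnderBaseChange (S := S) @IsOpenImmersion
  have := AlgSp.repWith_isMultiplicative (S := S) @IsOpenImmersion
  haveI : Mono (openSubι X V) := Groth.Agent.H51.mono_of_repWith_isOpenImmersion hι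
  -- every point of `F` lies in the scheme locus
  have hloc : Groth.Agent.H51.LargestScheme.schemeLocus (openSub X V) = Set.univ := by
    apply Set.eq_univ_of_forall
    intro z
    have hx : Points.map (openSubι X V) z ∈ V := Groth.Agent.H51.map_openSubι_mem X V z
    obtain ⟨W, i, hi, ⟨w, hw⟩, hsub⟩ := h _ hx
    obtain ⟨k, hk⟩ := Groth.Agent.H51.exists_factor_openSubι V i hsub
    have hko : RepWith @IsOpenImmersion k := by
      have sq := Groth.Agent.H51.isPullback_id_of_mono k (openSubι X V)
      rw [hk] at sq
      exact MorphismProperty.of_isPullback sq hi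
    refine ⟨W, k, hko, w, ?_⟩
    apply injective_map_of_mono (openSubι X V)
    rw [← Points.map_comp, hk, hw]
  obtain ⟨G, ⟨e⟩⟩ := Groth.Agent.H51.LargestScheme.exists_iso_yon_openSub_schemeLocus hF
  have hloc_open : IsOpen (Groth.Agent.H51.LargestScheme.schemeLocus (openSub X V)) :=
    Groth.Agent.H51.LargestScheme.isOpen_schemeLocus hF
  refine ⟨G, e.hom ≫ openSubι (openSub X V) _ ≫ openSubι X V, ?_, ?_⟩
  · refine (RepWith @IsOpenImmersion).comp_mem _ _
      (MorphismProperty.of_isIso (RepWith @IsOpenImmersion) e.hom) ?_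
    exact (RepWith @IsOpenImmersion).comp_mem _ _ (repWith_isOpenImmersion_openSubι hloc_open) hι
  · apply Set.Subset.antisymm
    · rintro _ ⟨y, rfl⟩
      rw [Points.map_comp, Points.map_comp]
      exact Groth.Agent.H51.map_openSubι_mem X V _
    · intro x hx
      rw [← range_map_openSubι X V] at hx
      obtain ⟨z, rfl⟩ := hx
      have hz : z ∈ Set.range (Points.map (openSubι (openSub X V)
          (Groth.Agent.H51.LargestScheme.schemeLocus (openSub X V)))) := by
        rw [range_map_openSubι, hloc]; trivial
      obtain ⟨z', rfl⟩ := hz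
      refine ⟨Points.map e.inv z', ?_⟩
      rw [Points.map_comp, Points.map_comp, ← Points.map_comp e.inv e.hom, e.inv_hom_id, Points.map_id]

end Groth.Agent.H94.SL_P5
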