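import Groth.Agent.H52.SL.Defs
import Groth.Agent.H51.LqfDescGen
import Groth.Agent.H51.LargestScheme
import Groth.Agent.H51.EtaleMono
import Groth.Agent.H51.OpenIso
import Groth.Agent.H51.ThickSep
import Groth.Agent.H50.MonoPts
import Groth.Agent.H50.Where2
import Groth.Agent.H52.EtLocalInst
import Groth.Agent.H52.LocPBC
set_option autoImplicit false
universe u
open CategoryTheory CategoryTheory.Limits AlgebraicGeometry Opposite AlgSp
open Groth.Agent.H52.SL Groth.Agent.H50
namespace Groth.Agent.H94.SL_P6a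
variable {S : Scheme.{u}}

/-- the range of the second projection of a pullback square of sheaves is the preimage of the range. -/
theorem range_snd_eq_preimage {A B C Q : Sp S} {f : A ⟶ C} {g : B ⟶ C} {fst : Q ⟶ A} {snd : Q ⟶ B}
    (sq : IsPullback fst snd f g) :
    Set.range (Points.map snd) = Points.map g ⁻¹' Set.range (Points.map f) := by
  ext y
  constructor
  · rintro ⟨z, rfl⟩
    exact ⟨Points.map fst z, by rw [← Points.map_comp, sq.w, Points.map_comp]⟩
  · rintro ⟨x, hx⟩
    obtain ⟨z, -, hz⟩ := exists_point_of_isPullback sq x y hx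
    exact ⟨z, hz⟩

theorem descend_of_surjective {T T' : Over S} [IsAffine T.left] [IsAffine T'.left] (e : T' ⟶ T)
    [Etale e.left] [Surjective e.left]
    {X P : Sp S} (hX : IsAlgSpace X) (f : X ⟶ (yon S).obj T) (hsep : IsSeparatedMor f)
    (hqf : LocP (@LocallyQuasiFinite ⊓ @LocallyOfFiniteType) f)
    (p1 : P ⟶ (yon S).obj T') (p2 : P ⟶ X) (sq : IsPullback p2 p1 f ((yon S).map e))
    {W' : Over S} (i' : (yon S).obj W' ⟶ P) (hi' : RepWith @IsOpenImmersion i')
    (V : Set (Points X)) (hV : IsOpen V)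
    (hsat : Set.range (Points.map i') = Points.map p2 ⁻¹' V) :
    ∃ (W : Over S) (i : (yon S).obj W ⟶ X), RepWith @IsOpenImmersion i ∧ Set.range (Points.map i) = V := by
  have hP : IsAlgSpace P :=
    Groth.Agent.H52.isAlgSpace_of_isPullback sq (IsAlgSpace.yon_obj T).diag hX (IsAlgSpace.yon_obj T')
  have hF : IsAlgSpace (openSub X V) := isAlgSpace_openSub hV hX
  have hι : RepWith @IsOpenImmersion (openSubι X V) := repWith_isOpenImmersion_openSubι hV
  have inst1 := AlgSp.repWith_isStableUnderBaseChange (S := S) @IsOpenImmersion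
  have inst2 := AlgSp.repWith_isMultiplicative (S := S) @IsOpenImmersion
  have inst3 := AlgSp.repWith_isStableUnderBaseChange (S := S) @IsClosedImmersion
  have inst4 := AlgSp.repWith_isMultiplicative (S := S) @IsClosedImmersion
  haveI : Mono (openSubι X V) := Groth.Agent.H51.mono_of_repWith_isOpenImmersion hι
  haveI : Mono i' := Groth.Agent.H51.mono_of_repWith_isOpenImmersion hi'
  -- `Q = F ×_X P`
  have sqQ := IsPullback.of_hasPullback (openSubι X V) p2
  have hQ : IsAlgSpace (pullback (openSubι X V) p2) :=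
    Groth.Agent.H52.isAlgSpace_of_isPullback sqQ hX.diag hF hP
  have hqP : RepWith @IsOpenImmersion (pullback.snd (openSubι X V) p2) :=
    MorphismProperty.of_isPullback sqQ hι
  have hrange : Set.range (Points.map (pullback.snd (openSubι X V) p2)) = Set.range (Points.map i') := by
    rw [range_snd_eq_preimage sqQ, range_map_openSubι, hsat]
  obtain ⟨ε, hε⟩ := Groth.Agent.H51.exists_iso_of_range_eq
    (X := ⟨P, hP⟩) (U₁ := ⟨(yon S).obj W', IsAlgSpace.yon_obj W'⟩)
    (U₂ := ⟨pullback (openSubι X V) p2, hQ⟩)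
    (ObjectProperty.homMk i') (ObjectProperty.homMk (pullback.snd (openSubι X V) p2)) hi' hqP hrange.symm
  have hε' : ε.hom.hom ≫ pullback.snd (openSubι X V) p2 = i' := congrArg (fun k => k.hom) hε
  haveI : IsIso ε.hom.hom := ⟨ε.inv.hom, by
    constructor
    · exact congrArg (fun k => k.hom) ε.hom_inv_id
    · exact congrArg (fun k => k.hom) ε.inv_hom_id⟩
  -- the pullback square over `T' ⟶ T`
  obtain ⟨b', hb'⟩ : ∃ b' : W' ⟶ T', (yon S).map b' = i' ≫ p1 := ⟨(yon S).preimage (i' ≫ p1), (yon S).map_preimage _⟩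
  have sqbig : IsPullback (pullback.fst (openSubι X V) p2) (pullback.snd (openSubι X V) p2 ≫ p1)
      (openSubι X V ≫ f) ((yon S).map e) := sqQ.paste_vert sq
  have sqiso : IsPullback ε.hom.hom (ε.hom.hom ≫ pullback.snd (openSubι X V) p2 ≫ p1)
      (pullback.snd (openSubι X V) p2 ≫ p1) (𝟙 _) :=
    IsPullback.of_horiz_isIso ⟨by rw [Category.comp_id]⟩
  have sq0' := sqiso.paste_horiz sqbig
  have sq0 : IsPullback (ε.hom.hom ≫ pullback.fst (openSubι X V) p2) ((yon S).map b')
      (openSubι X V ≫ f) ((yon S).map e) := by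
    have h1 : ε.hom.hom ≫ pullback.snd (openSubι X V) p2 ≫ p1 = (yon S).map b' := by
      rw [← Category.assoc, hε', hb']
    rw [h1, Category.id_comp] at sq0'
    exact sq0'
  -- properties of `b'`
  have hp1 : LocP (@LocallyQuasiFinite ⊓ @LocallyOfFiniteType) p1 :=
    Groth.Agent.H52.locP_baseChange Groth.Agent.H52.etLocal_lqf hX (IsAlgSpace.yon_obj T)
      (IsAlgSpace.yon_obj T') sq hqf
  have inst5 := AlgSp.repWith_isMultiplicative (S := S) @Etale
  have hidT : RepWith @Etale (𝟙 ((yon S).obj T')) := (RepWith @Etale).id_mem _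
  have hb'P : (@LocallyQuasiFinite ⊓ @LocallyOfFiniteType : MorphismProperty Scheme.{u}) b'.left :=
    hp1 i' (𝟙 _) b' (Groth.Agent.H50.repWith_etale_of_isOpenImmersion hi') hidT
      (by rw [hb', Category.comp_id])
  have : LocallyQuasiFinite b'.left := hb'P.1
  have : LocallyOfFiniteType b'.left := hb'P.2
  have hp1sep : IsSeparatedMor p1 :=
    MorphismProperty.of_isPullback (P := (RepWith (S := S) @IsClosedImmersion).diagonal) sq hsep
  have hi'sep : IsSeparatedMor i' :=
    MorphismProperty.of_isIso (RepWith @IsClosedImmersion) (pullback.diagonal i')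
  have hb'sep : IsSeparatedMor ((yon S).map b') := by
    rw [hb']
    exact Groth.Agent.H51.isSeparatedMor_comp (X := ⟨(yon S).obj W', IsAlgSpace.yon_obj W'⟩)
      (Y := ⟨P, hP⟩) (Z := ⟨(yon S).obj T', IsAlgSpace.yon_obj T'⟩)
      (ObjectProperty.homMk i') (ObjectProperty.homMk p1) hi'sep hp1sep
  have : IsSeparated b'.left := (isSeparatedMor_yon_map_iff b').1 hb'sep
  obtain ⟨W, w, k, ψ, -, -, -⟩ := Groth.Agent.H51.LqfDescGen.exists_rep_of_sep_lqf e b'
    (openSubι X V ≫ f) (ε.hom.hom ≫ pullback.fst (openSubι X V) p2) sq0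
  refine ⟨W, ψ.inv ≫ openSubι X V, ?_, ?_⟩
  · exact (RepWith @IsOpenImmersion).comp_mem _ _
      (MorphismProperty.of_isIso (RepWith @IsOpenImmersion) ψ.inv) hι
  · apply Set.Subset.antisymm
    · rintro _ ⟨y, rfl⟩
      rw [Points.map_comp]
      exact Groth.Agent.H51.map_openSubι_mem X V _
    · intro x hx
      rw [← range_map_openSubι X V] at hx
      obtain ⟨z, rfl⟩ := hx
      refine ⟨Points.map ψ.hom z, ?_⟩
      rw [Points.map_comp, ← Points.map_comp ψ.hom ψ.inv, ψ.hom_inv_id, Points.map_id]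

end Groth.Agent.H94.SL_P6a
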