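import Groth.Agent.H94.SL_P5
import Groth.Agent.H94.SL_P6a
import Groth.Agent.H52.Topology
set_option autoImplicit false
universe u
open CategoryTheory CategoryTheory.Limits AlgebraicGeometry Opposite AlgSp
open Groth.Agent.H52.SL Groth.Agent.H50
namespace Groth.Agent.H94.SL_P6b
variable {S : Scheme.{u}}

/-- Around a point in the image of an etale morphism of affine schemes there is an affine open of the target,
contained in the image, with affine preimage, over which the morphism is etale and surjective. -/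
theorem exists_restrict {T T' : Over S} [IsAffine T.left] [IsAffine T'.left] (e : T' ⟶ T) [Etale e.left]
    (t : ↥T.left) (ht : t ∈ Set.range e.left) :
    ∃ (O : T.left.Opens) (eg : opensOver T' (e.left ⁻¹ᵁ O) ⟶ opensOver T O), t ∈ O ∧
      IsAffine (opensOver T O).left ∧ IsAffine (opensOver T' (e.left ⁻¹ᵁ O)).left ∧
      Etale eg.left ∧ Surjective eg.left ∧
      eg ≫ opensOverι T O = opensOverι T' (e.left ⁻¹ᵁ O) ≫ e := by
  have hopen : IsOpen (Set.range e.left) := e.left.isOpenMap.isOpen_range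
  obtain ⟨_, ⟨g, rfl⟩, htg, hsub⟩ := TopologicalSpace.Opens.isBasis_iff_nbhd.mp
    (isBasis_basicOpen T.left) (show t ∈ (⟨Set.range e.left, hopen⟩ : T.left.Opens) from ht)
  have hO : IsAffineOpen (T.left.basicOpen g) := (isAffineOpen_top T.left).basicOpen g
  have hO' : IsAffineOpen (e.left ⁻¹ᵁ T.left.basicOpen g) := hO.preimage e.left
  obtain ⟨eg, heg⟩ := exists_lift_opensOver (T.left.basicOpen g)
    (opensOverι T' (e.left ⁻¹ᵁ T.left.basicOpen g) ≫ e) (fun x => x.2)
  refine ⟨T.left.basicOpen g, eg, htg, hO, hO', ?_, ?_, heg⟩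
  · have h1 : eg.left ≫ (T.left.basicOpen g).ι = (e.left ⁻¹ᵁ T.left.basicOpen g).ι ≫ e.left :=
      congrArg (fun m => m.left) heg
    have h2 : Etale (eg.left ≫ (T.left.basicOpen g).ι) := by rw [h1]; infer_instance
    exact Groth.Agent.H52.etLocal_etale.of_postcomp eg.left (T.left.basicOpen g).ι inferInstance h2
  · have h1 : eg.left ≫ (T.left.basicOpen g).ι = (e.left ⁻¹ᵁ T.left.basicOpen g).ι ≫ e.left :=
      congrArg (fun m => m.left) heg
    refine ⟨fun y => ?_⟩
    obtain ⟨x, hx⟩ := hsub y.2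
    have hx' : x ∈ e.left ⁻¹ᵁ T.left.basicOpen g := by
      show e.left x ∈ T.left.basicOpen g
      rw [hx]; exact y.2
    refine ⟨⟨x, hx'⟩, ?_⟩
    apply Subtype.ext
    have h3 := congrArg (fun m : (opensOver T' (e.left ⁻¹ᵁ T.left.basicOpen g)).left ⟶ T.left => m ⟨x, hx'⟩) h1
    simp only [Scheme.Hom.comp_apply] at h3
    exact h3.trans hx

theorem descend {T T' : Over S} [IsAffine T.left] [IsAffine T'.left] (e : T' ⟶ T) [Etale e.left]
    {X P : Sp S} (hX : IsAlgSpace X) (f : X ⟶ (yon S).obj T) (hsep : IsSeparatedMor f)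
    (hqf : LocP (@LocallyQuasiFinite ⊓ @LocallyOfFiniteType) f)
    (p1 : P ⟶ (yon S).obj T') (p2 : P ⟶ X) (sq : IsPullback p2 p1 f ((yon S).map e))
    {W' : Over S} (i' : (yon S).obj W' ⟶ P) (hi' : RepWith @IsOpenImmersion i')
    (V : Set (Points X)) (hV : IsOpen V)
    (hsat : Set.range (Points.map i') = Points.map p2 ⁻¹' V)
    (hsub : V ⊆ Set.range (Points.map p2)) :
    ∃ (W : Over S) (i : (yon S).obj W ⟶ X), RepWith @IsOpenImmersion i ∧ Set.range (Points.map i) = V := by
  apply Groth.Agent.H94.SL_P5.exists_rep_openSub_of_forall hX V hV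
  intro x hxV
  have inst1 := AlgSp.repWith_isStableUnderBaseChange (S := S) @IsOpenImmersion
  have inst2 := AlgSp.repWith_isMultiplicative (S := S) @IsOpenImmersion
  have inst3 := AlgSp.repWith_isStableUnderBaseChange (S := S) @IsClosedImmersion
  obtain ⟨y, hy⟩ := hsub hxV
  obtain ⟨t', ht'⟩ := (Points.schemeEquiv T').surjective (Points.map p1 y)
  have ht'' : Points.ofScheme T' t' = Points.map p1 y := ht'
  obtain ⟨O, eg, htO, hTg, hT'g, heg_et, heg_surj, hcomm⟩ :=
    exists_restrict e (e.left t') ⟨t', rfl⟩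
  haveI := hTg
  haveI := hT'g
  haveI := heg_et
  haveI := heg_surj
  obtain ⟨ιg, hιg⟩ : ∃ ιg : opensOver T O ⟶ T, ιg = opensOverι T O := ⟨_, rfl⟩
  obtain ⟨ιg', hιg'⟩ : ∃ ιg' : opensOver T' (e.left ⁻¹ᵁ O) ⟶ T', ιg' = opensOverι T' (e.left ⁻¹ᵁ O) :=
    ⟨_, rfl⟩
  rw [← hιg, ← hιg'] at hcomm
  have hιgo : RepWith @IsOpenImmersion ((yon S).map ιg) := by
    rw [hιg]
    exact (repWith_yon_map_iff @IsOpenImmersion _).2 (inferInstance : IsOpenImmersion O.ι)
  have hιg'o : RepWith @IsOpenImmersion ((yon S).map ιg') := by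
    rw [hιg']
    exact (repWith_yon_map_iff @IsOpenImmersion _).2
      (inferInstance : IsOpenImmersion (e.left ⁻¹ᵁ O).ι)
  have hcomm' : (yon S).map eg ≫ (yon S).map ιg = (yon S).map ιg' ≫ (yon S).map e := by
    rw [← Functor.map_comp, ← Functor.map_comp, hcomm]
  -- `Xg`, `Pg`
  have sqXg := IsPullback.of_hasPullback f ((yon S).map ιg)
  have sqPg := IsPullback.of_hasPullback p1 ((yon S).map ιg')
  have hXg : IsAlgSpace (pullback f ((yon S).map ιg)) :=
    Groth.Agent.H52.isAlgSpace_of_isPullback sqXg (IsAlgSpace.yon_obj T).diag hX (IsAlgSpace.yon_obj _)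
  have hjX : RepWith @IsOpenImmersion (pullback.fst f ((yon S).map ιg)) :=
    MorphismProperty.of_isPullback sqXg.flip hιgo
  have hjP : RepWith @IsOpenImmersion (pullback.fst p1 ((yon S).map ιg')) :=
    MorphismProperty.of_isPullback sqPg.flip hιg'o
  have hsepg : IsSeparatedMor (pullback.snd f ((yon S).map ιg)) :=
    MorphismProperty.of_isPullback (P := (RepWith (S := S) @IsClosedImmersion).diagonal) sqXg hsep
  have hqfg : LocP (@LocallyQuasiFinite ⊓ @LocallyOfFiniteType) (pullback.snd f ((yon S).map ιg)) :=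
    Groth.Agent.H52.locP_baseChange Groth.Agent.H52.etLocal_lqf hX (IsAlgSpace.yon_obj T)
      (IsAlgSpace.yon_obj _) sqXg hqf
  have w2 : (pullback.fst p1 ((yon S).map ιg') ≫ p2) ≫ f =
      (pullback.snd p1 ((yon S).map ιg') ≫ (yon S).map eg) ≫ (yon S).map ιg := by
    rw [Category.assoc, sq.w, ← Category.assoc, sqPg.w, Category.assoc, Category.assoc, hcomm']
  obtain ⟨p2g, hp2g1, hp2g2⟩ : ∃ p2g : pullback p1 ((yon S).map ιg') ⟶ pullback f ((yon S).map ιg),
      p2g ≫ pullback.fst f ((yon S).map ιg) = pullback.fst p1 ((yon S).map ιg') ≫ p2 ∧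
      p2g ≫ pullback.snd f ((yon S).map ιg) = pullback.snd p1 ((yon S).map ιg') ≫ (yon S).map eg :=
    ⟨pullback.lift _ _ w2, pullback.lift_fst _ _ _, pullback.lift_snd _ _ _⟩
  have sqg : IsPullback p2g (pullback.snd p1 ((yon S).map ιg')) (pullback.snd f ((yon S).map ιg))
      ((yon S).map eg) := by
    refine IsPullback.of_right ?_ hp2g2 sqXg
    rw [hp2g1, hcomm']
    exact sqPg.paste_horiz sq
  -- `W'g`
  obtain ⟨W'g, ν, i'g, sqW⟩ := hjP.1 i'
  have hi'g : RepWith @IsOpenImmersion i'g := MorphismProperty.of_isPullback sqW.flip hi'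
  have hVg : IsOpen (Points.map (pullback.fst f ((yon S).map ιg)) ⁻¹' V) :=
    hV.preimage (Points.continuous_map _)
  have hsatg : Set.range (Points.map i'g) =
      Points.map p2g ⁻¹' (Points.map (pullback.fst f ((yon S).map ιg)) ⁻¹' V) := by
    rw [Groth.Agent.H94.SL_P6a.range_snd_eq_preimage sqW.flip, hsat]
    ext z
    simp only [Set.mem_preimage]
    rw [← Points.map_comp, ← Points.map_comp, hp2g1]
  obtain ⟨Wg, ig, hig, hrange⟩ := Groth.Agent.H94.SL_P6a.descend_of_surjective eg hXg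
    (pullback.snd f ((yon S).map ιg)) hsepg hqfg (pullback.snd p1 ((yon S).map ιg')) p2g sqg i'g hi'g
    (Points.map (pullback.fst f ((yon S).map ιg)) ⁻¹' V) hVg hsatg
  refine ⟨Wg, ig ≫ pullback.fst f ((yon S).map ιg), (RepWith @IsOpenImmersion).comp_mem _ _ hig hjX,
    ?_, ?_⟩
  · -- `x` lies in the range
    have hxX : x ∈ Set.range (Points.map (pullback.fst f ((yon S).map ιg))) := by
      rw [Groth.Agent.H94.SL_P6a.range_snd_eq_preimage sqXg.flip]
      obtain ⟨pt, hpt⟩ : ∃ pt : ↥(opensOver T O).left, ιg.left pt = e.left t' :=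
        ⟨⟨e.left t', htO⟩, by rw [hιg]; rfl⟩
      refine ⟨Points.ofScheme (opensOver T O) pt, ?_⟩
      rw [Groth.Agent.H52.map_yon_map_ofScheme, ← hy, ← Points.map_comp, sq.w, Points.map_comp, ← ht'',
        Groth.Agent.H52.map_yon_map_ofScheme, hpt]
    obtain ⟨z, hz⟩ := hxX
    have hzV : z ∈ Points.map (pullback.fst f ((yon S).map ιg)) ⁻¹' V := by
      show Points.map _ z ∈ V
      rw [hz]; exact hxV
    rw [← hrange] at hzV
    obtain ⟨w, rfl⟩ := hzV
    exact ⟨w, by rw [Points.map_comp, hz]⟩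
  · rintro _ ⟨w, rfl⟩
    rw [Points.map_comp]
    have : Points.map ig w ∈ Set.range (Points.map ig) := ⟨w, rfl⟩
    rw [hrange] at this
    exact this

end Groth.Agent.H94.SL_P6b
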