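import Groth.Agent.H52.SL.Defs
import Groth.Agent.H51.LqfDescGen
import Groth.Agent.H51.LargestScheme
import Groth.Agent.H51.EtaleMono
import Groth.Agent.H51.GraphSep
import Groth.Agent.H51.DiagOpen
import Groth.Agent.H51.EtSmoothST
set_option autoImplicit false
universe u
open CategoryTheory CategoryTheory.Limits AlgebraicGeometry Opposite AlgSp
open Groth.Agent.H52.SL Groth.Agent.H50
namespace Groth.Agent.H94.SL_P7
variable {S : Scheme.{u}}

theorem exists_open_mono {Y1 V : Over S} {P : Sp S} (hP : IsAlgSpace P) (p1 : P ⟶ (yon S).obj Y1)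
    (hsep : IsSeparatedMor p1) (w : V ⟶ Y1) [IsFinite w.left]
    (b : (yon S).obj V ⟶ P) (hb : RepWith @Etale b) (hbw : b ≫ p1 = (yon S).map w) (v : ↥V.left)
    (huniq : ∀ v' : ↥V.left, w.left v' = w.left v → v' = v)
    (hrad : ∀ (K : Type u) [Field K] (α β : Spec (CommRingCat.of K) ⟶ V.left),
      α ≫ w.left = β ≫ w.left → (∀ z, α z = v) → (∀ z, β z = v) → α = β) :
    ∃ VN : V.left.Opens, v ∈ VN ∧ RepWith @IsOpenImmersion ((yon S).map (opensOverι V VN) ≫ b) := by
  have instE2 := AlgSp.repWith_isMultiplicative (S := S) @Etale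
  have instO1 := AlgSp.repWith_isStableUnderBaseChange (S := S) @IsOpenImmersion
  have instO2 := AlgSp.repWith_isMultiplicative (S := S) @IsOpenImmersion
  have hVa : IsAlgSpace ((yon S).obj V) := IsAlgSpace.yon_obj V
  -- the kernel pair of `b`
  have sqW' : IsPullback ((yon S).map (pullback.fst w w)) ((yon S).map (pullback.snd w w))
      ((yon S).map w) ((yon S).map w) := (IsPullback.of_hasPullback w w).map (yon S)
  have sq' : IsPullback ((yon S).map (pullback.fst w w)) ((yon S).map (pullback.snd w w))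
      (b ≫ p1) (b ≫ p1) := by rw [hbw]; exact sqW'
  obtain ⟨R, j, hj, sqR⟩ := Groth.Agent.H51.exists_closedImmersion_of_isSeparatedMor b p1 hsep b
    (pullback.snd w w) ((yon S).map (pullback.fst w w)) sq'
  obtain ⟨t, ht⟩ : ∃ t : R ⟶ V, t = j ≫ pullback.fst w w := ⟨_, rfl⟩
  obtain ⟨s, hs⟩ : ∃ s : R ⟶ V, s = j ≫ pullback.snd w w := ⟨_, rfl⟩
  have sqR' : IsPullback ((yon S).map t) ((yon S).map s) b b := by
    rw [ht, hs, Functor.map_comp]; exact sqR
  have hts : t ≫ w = s ≫ w := by
    rw [ht, hs, Category.assoc, Category.assoc, pullback.condition]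
  have hsfin : IsFinite s.left := by
    have h1 : IsPullback (pullback.fst w w).left (pullback.snd w w).left w.left w.left :=
      (IsPullback.of_hasPullback w w).map (Over.forget S)
    have h2 : IsFinite (pullback.snd w w).left :=
      MorphismProperty.of_isPullback (P := @IsFinite) h1 inferInstance
    have h3 : s.left = j.left ≫ (pullback.snd w w).left := by rw [hs]; rfl
    rw [h3]
    infer_instance
  -- the diagonal
  obtain ⟨δ, hδt, hδs⟩ : ∃ δ : V ⟶ R, δ ≫ t = 𝟙 V ∧ δ ≫ s = 𝟙 V := by
    refine ⟨(yon S).preimage (sqR'.lift (𝟙 _) (𝟙 _) rfl), ?_, ?_⟩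
    · apply (yon S).map_injective
      rw [Functor.map_comp, Functor.map_preimage, sqR'.lift_fst, (yon S).map_id]
    · apply (yon S).map_injective
      rw [Functor.map_comp, Functor.map_preimage, sqR'.lift_snd, (yon S).map_id]
  have hbEt : IsEtaleMor b := fun U φ hφ => (RepWith @Etale).comp_mem _ _ hφ hb
  have hΔ : RepWith @IsOpenImmersion (pullback.diagonal b) :=
    Groth.Agent.H51.repWith_isOpenImmersion_diagonal_of_unramified hVa hP b
      (Groth.Agent.H51.locP_unramified_of_isEtaleMor b hbEt)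
  have hδo : IsOpenImmersion δ.left := by
    have h1 : (yon S).map δ ≫ sqR'.isoPullback.hom = pullback.diagonal b := by
      apply pullback.hom_ext
      · rw [Category.assoc, sqR'.isoPullback_hom_fst, ← Functor.map_comp, hδt, (yon S).map_id,
          pullback.diagonal_fst]
      · rw [Category.assoc, sqR'.isoPullback_hom_snd, ← Functor.map_comp, hδs, (yon S).map_id,
          pullback.diagonal_snd]
    rw [← h1] at hΔ
    have h2 : RepWith @IsOpenImmersion ((yon S).map δ) :=
      (MorphismProperty.cancel_right_of_respectsIso (RepWith @IsOpenImmersion) _ _).1 hΔ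
    exact (repWith_yon_map_iff @IsOpenImmersion δ).1 h2
  -- the open neighbourhood
  have hclosed : IsClosedMap s.left := s.left.isClosedMap
  have hopenδ : IsOpen (Set.range δ.left) := δ.left.isOpenEmbedding.isOpen_range
  obtain ⟨VN, hVN⟩ : ∃ VN : V.left.Opens, (VN : Set ↥V.left) = (s.left '' (Set.range δ.left)ᶜ)ᶜ :=
    ⟨⟨_, (hclosed _ hopenδ.isClosed_compl).isOpen_compl⟩, rfl⟩
  have hmem : ∀ r : ↥R.left, s.left r ∈ VN → r ∈ Set.range δ.left := by
    intro r hr
    by_contra h
    have : s.left r ∈ (VN : Set ↥V.left) := hr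
    rw [hVN] at this
    exact this ⟨r, h, rfl⟩
  have hjoint : ∀ {A : Over S} (x x' : A ⟶ R), x ≫ t = x' ≫ t → x ≫ s = x' ≫ s → x = x' := by
    intro A x x' h1 h2
    apply (yon S).map_injective
    apply sqR'.hom_ext
    · rw [← Functor.map_comp, ← Functor.map_comp, h1]
    · rw [← Functor.map_comp, ← Functor.map_comp, h2]
  have htsl : ∀ r : ↥R.left, w.left (t.left r) = w.left (s.left r) := by
    intro r
    have h1 : t.left ≫ w.left = s.left ≫ w.left := by
      rw [← Over.comp_left, ← Over.comp_left, hts]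
    have h2 := congrArg (fun m : R.left ⟶ Y1.left => m r) h1
    simpa using h2
  -- `v` lies in `VN`
  have hv : v ∈ VN := by
    show v ∈ (VN : Set ↥V.left)
    rw [hVN]
    rintro ⟨r, hr, hsr⟩
    apply hr
    have htr : t.left r = v := huniq _ (by rw [htsl, hsr])
    obtain ⟨ρ, hρ⟩ : ∃ ρ : Spec (CommRingCat.of (R.left.residueField r)) ⟶ R.left,
        ∀ z, ρ z = r :=
      ⟨R.left.fromSpecResidueField r, fun z => Scheme.fromSpecResidueField_apply r z⟩
    have hαβ : ρ ≫ s.left = ρ ≫ t.left := by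
      apply hrad (R.left.residueField r) (ρ ≫ s.left) (ρ ≫ t.left)
      · have h1 : t.left ≫ w.left = s.left ≫ w.left := by
          rw [← Over.comp_left, ← Over.comp_left, hts]
        rw [Category.assoc, Category.assoc, h1]
      · intro z
        rw [Scheme.Hom.comp_apply, hρ, hsr]
      · intro z
        rw [Scheme.Hom.comp_apply, hρ, htr]
    let A : Over S := Over.mk (ρ ≫ R.hom)
    let ρ' : A ⟶ R := Over.homMk ρ rfl
    have h1 : ρ' ≫ t = ρ' ≫ s := by
      apply Over.OverMorphism.ext
      rw [Over.comp_left, Over.comp_left]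
      exact hαβ.symm
    have h2 : ρ' = (ρ' ≫ s) ≫ δ := by
      apply hjoint
      · rw [Category.assoc, hδt, Category.comp_id, h1]
      · rw [Category.assoc, hδs, Category.comp_id]
    obtain ⟨z₀⟩ : Nonempty ↥(Spec (CommRingCat.of (R.left.residueField r))) := inferInstance
    refine ⟨(ρ' ≫ s).left z₀, ?_⟩
    have h3 := congrArg (fun m : A ⟶ R => m.left z₀) h2
    simp only [Over.comp_left, Scheme.Hom.comp_apply] at h3
    rw [← hρ z₀]
    exact h3.symm
  -- the restriction to `VN` is a monomorphism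
  have hmono : Mono ((yon S).map (opensOverι V VN) ≫ b) := by
    apply mono_of_forall_yon
    intro T x x' hxx'
    obtain ⟨x₀, rfl⟩ := (yon S).map_surjective x
    obtain ⟨x₀', rfl⟩ := (yon S).map_surjective x'
    have hc : ((yon S).map x₀ ≫ (yon S).map (opensOverι V VN)) ≫ b =
        ((yon S).map x₀' ≫ (yon S).map (opensOverι V VN)) ≫ b := by
      rw [Category.assoc, Category.assoc]; exact hxx'
    obtain ⟨ξ, hξt, hξs⟩ : ∃ ξ : T ⟶ R, ξ ≫ t = x₀ ≫ opensOverι V VN ∧
        ξ ≫ s = x₀' ≫ opensOverι V VN := by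
      refine ⟨(yon S).preimage (sqR'.lift _ _ hc), ?_, ?_⟩
      · apply (yon S).map_injective
        rw [Functor.map_comp, Functor.map_preimage, sqR'.lift_fst, Functor.map_comp]
      · apply (yon S).map_injective
        rw [Functor.map_comp, Functor.map_preimage, sqR'.lift_snd, Functor.map_comp]
    have hrange : Set.range ξ.left ⊆ Set.range δ.left := by
      rintro _ ⟨τ, rfl⟩
      apply hmem
      have h1 : s.left (ξ.left τ) = (x₀' ≫ opensOverι V VN).left τ := by
        rw [← hξs]; simp
      rw [h1]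
      show VN.ι (x₀'.left τ) ∈ VN
      exact (x₀'.left τ).2
    obtain ⟨l, hl⟩ : ∃ l : T.left ⟶ V.left, l ≫ δ.left = ξ.left :=
      ⟨IsOpenImmersion.lift δ.left ξ.left hrange, IsOpenImmersion.lift_fac _ _ _⟩
    have hδtl : δ.left ≫ t.left = 𝟙 _ := by rw [← Over.comp_left, hδt, Over.id_left]
    have hδsl : δ.left ≫ s.left = 𝟙 _ := by rw [← Over.comp_left, hδs, Over.id_left]
    have h1 : (x₀ ≫ opensOverι V VN).left = l := by
      rw [← hξt, Over.comp_left, ← hl, Category.assoc, hδtl, Category.comp_id]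
    have h2 : (x₀' ≫ opensOverι V VN).left = l := by
      rw [← hξs, Over.comp_left, ← hl, Category.assoc, hδsl, Category.comp_id]
    have h3 : x₀.left ≫ VN.ι = x₀'.left ≫ VN.ι := by
      have := h1.trans h2.symm
      simpa using this
    congr 1
    apply Over.OverMorphism.ext
    exact (cancel_mono VN.ι).1 h3
  have hιEt : RepWith @Etale ((yon S).map (opensOverι V VN)) :=
    (repWith_yon_map_iff @Etale _).2 (inferInstanceAs (Etale VN.ι))
  have hcEt : RepWith @Etale ((yon S).map (opensOverι V VN) ≫ b) :=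
    (RepWith @Etale).comp_mem _ _ hιEt hb
  have hcEtM : IsEtaleMor ((yon S).map (opensOverι V VN) ≫ b) :=
    fun U φ hφ => (RepWith @Etale).comp_mem _ _ hφ hcEt
  exact ⟨VN, hv, Groth.Agent.H51.repWith_isOpenImmersion_of_etale_mono (IsAlgSpace.yon_obj _) hP _ hcEtM⟩

end Groth.Agent.H94.SL_P7
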