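import Mathlib

/-! (LM) for the S9579 squad: semilinear map of localized modules. -/

set_option autoImplicit false
universe u

namespace Groth.Agent.H94.VerMod_LM

section
variable {A B M N : Type u} [CommRing A] [CommRing B] [AddCommGroup M] [Module A M]
    [AddCommGroup N] [Module B N] (φ : B →+* A) (v : N →ₛₗ[φ] M)
    (S : Submonoid B) (T : Submonoid A) (hST : ∀ s ∈ S, φ s ∈ T)

/-- the underlying function `m/s ↦ v m / φ s`. -/
noncomputable def locFun (q : LocalizedModule S N) : LocalizedModule T M :=
  q.liftOn (fun p => LocalizedModule.mk (v p.1) ⟨φ p.2, hST p.2 p.2.2⟩) (by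
    rintro ⟨m₁, s₁⟩ ⟨m₂, s₂⟩ ⟨u, hu⟩
    dsimp only
    rw [LocalizedModule.mk_eq]
    refine ⟨⟨φ u, hST u u.2⟩, ?_⟩
    have h := congrArg v hu
    simp only [Submonoid.smul_def, map_smulₛₗ] at h
    simpa [Submonoid.smul_def] using h)

theorem locFun_mk (m : N) (s : S) :
    locFun φ v S T hST (LocalizedModule.mk m s) = LocalizedModule.mk (v m) ⟨φ s, hST s s.2⟩ := by
  unfold locFun
  rw [LocalizedModule.liftOn_mk]

theorem locFun_add (x y : LocalizedModule S N) :
    locFun φ v S T hST (x + y) = locFun φ v S T hST x + locFun φ v S T hST y := by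
  induction x, y using LocalizedModule.induction_on₂ with
  | h m m' s s' =>
    rw [LocalizedModule.mk_add_mk, locFun_mk, locFun_mk, locFun_mk, LocalizedModule.mk_add_mk]
    congr 1
    · simp only [Submonoid.smul_def, map_add, map_smulₛₗ]
    · ext
      simp

theorem locFun_smul (b : B) (s' : S) (q : LocalizedModule S N) :
    locFun φ v S T hST ((Localization.mk b s' : Localization S) • q) =
      (Localization.mk (φ b) ⟨φ s', hST s' s'.2⟩ : Localization T) • locFun φ v S T hST q := by
  induction q using LocalizedModule.induction_on with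
  | h m s =>
    rw [LocalizedModule.mk_smul_mk, locFun_mk, locFun_mk, LocalizedModule.mk_smul_mk]
    congr 1
    · simp only [map_smulₛₗ]
    · ext
      simp

end

/-- (LM) a `φ`-semilinear map `v : N → M` induces an additive map of localized modules
`S⁻¹N → T⁻¹M`, `m/s ↦ v m/φ s`, when `φ S ⊆ T`; it is semilinear for `b/s' ↦ φ b/φ s'`. -/
theorem exists_locVM {A B M N : Type u} [CommRing A] [CommRing B] [AddCommGroup M] [Module A M]
    [AddCommGroup N] [Module B N] (φ : B →+* A) (v : N →ₛₗ[φ] M)
    (S : Submonoid B) (T : Submonoid A) (hST : ∀ s ∈ S, φ s ∈ T) :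
    ∃ L : LocalizedModule S N →+ LocalizedModule T M,
      (∀ (m : N) (s : S), L (LocalizedModule.mk m s) = LocalizedModule.mk (v m) ⟨φ s, hST s s.2⟩) ∧
      (∀ (b : B) (s' : S) (q : LocalizedModule S N),
        L ((Localization.mk b s' : Localization S) • q) =
          (Localization.mk (φ b) ⟨φ s', hST s' s'.2⟩ : Localization T) • L q) := by
  have h0 : locFun φ v S T hST 0 = 0 := by
    rw [← LocalizedModule.zero_mk (1 : S), locFun_mk, map_zero, LocalizedModule.zero_mk]
  refine ⟨⟨⟨locFun φ v S T hST, h0⟩, locFun_add φ v S T hST⟩, ?_, ?_⟩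
  · intro m s
    exact locFun_mk φ v S T hST m s
  · intro b s' q
    exact locFun_smul φ v S T hST b s' q

end Groth.Agent.H94.VerMod_LM
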