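import Mathlib
import Groth.Prelude.Def_AlgSp3
import Groth.Agent.H94.AffineLimit
import Groth.Agent.H51.ZarGlueRep
import Groth.Agent.H52.FibProd
import Groth.Agent.H50.Fibre
set_option autoImplicit false
universe u
open CategoryTheory CategoryTheory.Limits AlgebraicGeometry
open AlgSp
namespace Groth.Agent.H94.AlgSpLimit

variable {S : Scheme.{u}}

/-- An affine morphism of fppf sheaves is representable (copy of S9941 for general sheaves). -/
theorem repWith_of_isAffineMor {X Y : Sp S} (f : X ⟶ Y)
    (hf : AlgSp.IsAffineMor f) : AlgSp.RepWith @IsAffineHom f := by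
  refine MorphismProperty.relative.of_exists (fun T g => ?_)
  let 𝒰 : Scheme.OpenCover.{u} T.left := T.left.affineCover
  have hx := fun a => hf (Z := Groth.Agent.H51.ZarGlue.coverOver T 𝒰 a)
    (inferInstanceAs (IsAffine (𝒰.X a)))
    ((yon S).map (Groth.Agent.H51.ZarGlue.coverOverι T 𝒰 a) ≫ g)
  choose Wa i fst sqa haff using hx
  have hcomm : ∀ a, fst a ≫ f =
      (yon S).map (i a ≫ Groth.Agent.H51.ZarGlue.coverOverι T 𝒰 a) ≫ g := by
    intro a
    rw [(sqa a).w, Functor.map_comp, Category.assoc]
  let φ : ∀ a, (yon S).obj (Wa a) ⟶ pullback f g := fun a =>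
    pullback.lift (fst a) ((yon S).map (i a ≫ Groth.Agent.H51.ZarGlue.coverOverι T 𝒰 a)) (hcomm a)
  have sq : ∀ a, IsPullback (φ a) ((yon S).map (i a)) (pullback.snd f g)
      ((yon S).map (Groth.Agent.H51.ZarGlue.coverOverι T 𝒰 a)) := by
    intro a
    exact Groth.Agent.H52.isPullback_lift_of_comp_right (IsPullback.of_hasPullback f g) (sqa a)
      (φ a) (pullback.lift_fst _ _ _) (by rw [pullback.lift_snd, Functor.map_comp])
  obtain ⟨G, e, snd, c, he, hc, hsq⟩ :=
    Groth.Agent.H51.ZarGlue.exists_iso_yon_of_openCover (pullback.snd f g) 𝒰 Wa i φ sq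
  refine ⟨G, e.hom ≫ pullback.fst f g, snd, ?_, ?_⟩
  · rw [← he]
    exact IsPullback.of_iso (IsPullback.of_hasPullback f g) e.symm (Iso.refl _) (Iso.refl _)
      (Iso.refl _) (by simp) (by simp) (by simp) (by simp)
  · show IsAffineHom snd.left
    refine Groth.Agent.H51.ZarGlue.of_openCover_of_isPullback @IsAffineHom snd.left 𝒰
      (fun a => (c a).left) (fun a => (i a).left) hsq (fun a => ?_)
    have : IsAffine (Wa a).left := haff a
    have : IsAffine (Groth.Agent.H51.ZarGlue.coverOver T 𝒰 a).left :=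
      inferInstanceAs (IsAffine (T.left.affineCover.X a))
    exact (inferInstance : IsAffineHom (i a).left)

section
variable {I : Type u} [SmallCategory I] (D : I ⥤ Sp S) {i : I} {G : Sp S} (g : G ⟶ D.obj i)

/-- Transition maps of the base changes. -/
noncomputable def Emap {j k : Over i} (a : j ⟶ k) :
    pullback (D.map j.hom) g ⟶ pullback (D.map k.hom) g :=
  pullback.lift (pullback.fst _ _ ≫ D.map a.left) (pullback.snd _ _) (by
    rw [Category.assoc, ← D.map_comp, Over.w a, pullback.condition])

lemma Emap_fst {j k : Over i} (a : j ⟶ k) :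
    Emap D g a ≫ pullback.fst (D.map k.hom) g = pullback.fst (D.map j.hom) g ≫ D.map a.left :=
  pullback.lift_fst _ _ _

lemma Emap_snd {j k : Over i} (a : j ⟶ k) :
    Emap D g a ≫ pullback.snd (D.map k.hom) g = pullback.snd (D.map j.hom) g :=
  pullback.lift_snd _ _ _

/-- The diagram of base changes `j ↦ D_j ×_{D_i} G` indexed by `Over i`. -/
noncomputable def E : Over i ⥤ Sp S where
  obj j := pullback (D.map j.hom) g
  map {j k} a := Emap D g a
  map_id := by
    intro j
    apply pullback.hom_ext
    · rw [Emap_fst, Category.id_comp]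
      change _ ≫ D.map (𝟙 j.left) = _
      rw [D.map_id, Category.comp_id]
    · rw [Emap_snd, Category.id_comp]
  map_comp := by
    intro j k l a b
    apply pullback.hom_ext
    · rw [Emap_fst, Category.assoc, Emap_fst, ← Category.assoc, Emap_fst]
      change _ ≫ D.map (a.left ≫ b.left) = _
      rw [D.map_comp, Category.assoc]
    · rw [Emap_snd, Category.assoc, Emap_snd, Emap_snd]

variable (c : Cone D)

/-- The legs of the cone over `E` with apex `c.pt ×_{D_i} G`. -/
noncomputable def PEleg (j : Over i) : pullback (c.π.app i) g ⟶ pullback (D.map j.hom) g :=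
  pullback.lift (pullback.fst (c.π.app i) g ≫ c.π.app j.left) (pullback.snd _ _)
    (by rw [Category.assoc, c.w, pullback.condition])

lemma PEleg_fst (j : Over i) :
    PEleg D g c j ≫ pullback.fst (D.map j.hom) g = pullback.fst (c.π.app i) g ≫ c.π.app j.left :=
  pullback.lift_fst _ _ _

lemma PEleg_snd (j : Over i) :
    PEleg D g c j ≫ pullback.snd (D.map j.hom) g = pullback.snd (c.π.app i) g :=
  pullback.lift_snd _ _ _

/-- The cone over `E` with apex `c.pt ×_{D_i} G`. -/
noncomputable def PE : Cone (E D g) where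
  pt := pullback (c.π.app i) g
  π :=
    { app := fun j => PEleg D g c j
      naturality := by
        intro j k a
        apply pullback.hom_ext
        · change (𝟙 _ ≫ PEleg D g c k) ≫ _ = (PEleg D g c j ≫ Emap D g a) ≫ _
          rw [Category.id_comp, PEleg_fst, Category.assoc, Emap_fst, ← Category.assoc, PEleg_fst,
            Category.assoc, c.w]
        · change (𝟙 _ ≫ PEleg D g c k) ≫ _ = (PEleg D g c j ≫ Emap D g a) ≫ _
          rw [Category.id_comp, PEleg_snd, Category.assoc, Emap_snd, PEleg_snd] }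


variable [IsCofiltered I]

/-- the cone over `Over.forget i ⋙ D` induced by a cone over `E`. -/
noncomputable def sCone (s : Cone (E D g)) : Cone (Over.forget i ⋙ D) where
  pt := s.pt
  π :=
    { app := fun j => (show s.pt ⟶ pullback (D.map j.hom) g from s.π.app j) ≫ pullback.fst _ _
      naturality := by
        intro j k a
        have h := s.w a
        change (show s.pt ⟶ pullback (D.map j.hom) g from s.π.app j) ≫ Emap D g a =
          (show s.pt ⟶ pullback (D.map k.hom) g from s.π.app k) at h
        change 𝟙 _ ≫ (show s.pt ⟶ pullback (D.map k.hom) g from s.π.app k) ≫ pullback.fst _ _ =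
          ((show s.pt ⟶ pullback (D.map j.hom) g from s.π.app j) ≫ pullback.fst _ _) ≫ D.map a.left
        rw [Category.id_comp, ← h, Category.assoc, Emap_fst, Category.assoc] }


/-- legs of a cone over `E`, with explicit type. -/
noncomputable def sleg (s : Cone (E D g)) (j : Over i) : s.pt ⟶ pullback (D.map j.hom) g := s.π.app j

lemma sleg_w (s : Cone (E D g)) {j k : Over i} (a : j ⟶ k) :
    sleg D g s j ≫ Emap D g a = sleg D g s k := s.w a

lemma sCone_app (s : Cone (E D g)) (j : Over i) :
    (sCone D g s).π.app j = sleg D g s j ≫ pullback.fst _ _ := rfl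

/-- whiskered limit cone. -/
noncomputable def hcw (hc : IsLimit c) : IsLimit (c.whisker (Over.forget i)) :=
  (Functor.Initial.isLimitWhiskerEquiv (Over.forget i) c).symm hc

/-- the induced map to the limit. -/
noncomputable def sLift (hc : IsLimit c) (s : Cone (E D g)) : s.pt ⟶ c.pt :=
  (hcw D c hc).lift (sCone D g s)

lemma hcw_fac (hc : IsLimit c) (s : Cone (E D g)) (j : Over i) :
    sLift D g c hc s ≫ c.π.app j.left = sleg D g s j ≫ pullback.fst _ _ :=
  (hcw D c hc).fac (sCone D g s) j

lemma sLift_ext (hc : IsLimit c) {T : Sp S} (a b : T ⟶ c.pt)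
    (h : ∀ j : Over i, a ≫ c.π.app j.left = b ≫ c.π.app j.left) : a = b :=
  (hcw D c hc).hom_ext h

lemma sleg_snd_eq (s : Cone (E D g)) (j : Over i) :
    sleg D g s j ≫ pullback.snd _ _ = sleg D g s (Over.mk (𝟙 i)) ≫ pullback.snd _ _ := by
  have h := sleg_w D g s (Over.homMk j.hom : j ⟶ Over.mk (𝟙 i))
  rw [← h, Category.assoc, Emap_snd]

lemma lift_cond (hc : IsLimit c) (s : Cone (E D g)) :
    sLift D g c hc s ≫ c.π.app i =
      (sleg D g s (Over.mk (𝟙 i)) ≫ pullback.snd _ _) ≫ g := by
  have h1 := hcw_fac D g c hc s (Over.mk (𝟙 i))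
  have h2 := pullback.condition (f := D.map (Over.mk (𝟙 i)).hom) (g := g)
  change pullback.fst _ _ ≫ D.map (𝟙 i) = _ at h2
  rw [D.map_id, Category.comp_id] at h2
  change _ ≫ c.π.app i = _ at h1
  rw [h1, h2, Category.assoc]

lemma uniq_aux (hc : IsLimit c) (s : Cone (E D g)) (m : s.pt ⟶ pullback (c.π.app i) g)
    (hm' : ∀ j, m ≫ PEleg D g c j = sleg D g s j) :
    m = pullback.lift (sLift D g c hc s)
      (sleg D g s (Over.mk (𝟙 i)) ≫ pullback.snd _ _) (lift_cond D g c hc s) := by
  apply pullback.hom_ext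
  · rw [pullback.lift_fst]
    apply sLift_ext D c hc
    intro j
    rw [hcw_fac, ← hm' j, Category.assoc, Category.assoc, PEleg_fst]
  · rw [pullback.lift_snd, ← hm' (Over.mk (𝟙 i)), Category.assoc, PEleg_snd]

/-- `c.pt ×_{D_i} G` is the limit of the base changes. -/
noncomputable def isLimitPE (hc : IsLimit c) : IsLimit (PE D g c) := by
  refine IsLimit.mk (fun s => pullback.lift (sLift D g c hc s)
    (sleg D g s (Over.mk (𝟙 i)) ≫ pullback.snd _ _) (lift_cond D g c hc s)) ?_ ?_
  · intro s j
    change _ ≫ PEleg D g c j = sleg D g s j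
    apply pullback.hom_ext
    · rw [Category.assoc, PEleg_fst, pullback.lift_fst_assoc, hcw_fac]
    · rw [Category.assoc, PEleg_snd, pullback.lift_snd, ← sleg_snd_eq]
  · intro s m hm
    exact uniq_aux D g c hc s m hm

end

section
variable {I : Type u} [SmallCategory I] [IsCofiltered I] (D : I ⥤ Sp S)

theorem isAffineMor_π (hDa : ∀ (i j : I) (φ : i ⟶ j), IsAffineMor (D.map φ))
    (c : Cone D) (hc : IsLimit c) (i : I) : IsAffineMor (c.π.app i) := by
  intro Z hZ g
  have hE : ∀ j, (yon S).essImage ((E D g).obj j) := by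
    intro j
    obtain ⟨W, iW, fst, sq, hW⟩ := hDa _ _ j.hom hZ g
    exact ⟨W, ⟨sq.isoPullback⟩⟩
  let W' : Over i ⥤ Over S := Functor.essImage.liftFunctor (E D g) (yon S) hE
  let eW : W' ⋙ yon S ≅ E D g := Functor.essImage.liftFunctorCompIso (E D g) (yon S) hE
  have hWaff : ∀ j, IsAffine ((W' ⋙ Over.forget S).obj j) := by
    intro j
    obtain ⟨W, iW, fst, sq, hW⟩ := hDa _ _ j.hom hZ g
    have e : (yon S).obj (W'.obj j) ≅ (yon S).obj W := eW.app j ≪≫ sq.isoPullback.symm
    have e' : W'.obj j ≅ W := (yon S).preimageIso e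
    haveI : IsAffine ((Over.forget S).obj W) := hW
    exact IsAffine.of_isIso ((Over.forget S).mapIso e').hom
  haveI : ∀ (j k : Over i) (f : j ⟶ k), IsAffineHom ((W' ⋙ Over.forget S).map f) := by
    intro j k f
    haveI := hWaff j
    haveI := hWaff k
    infer_instance
  haveI : HasLimit (W' ⋙ Over.forget S) := Groth.Agent.H94.AffineLimit.hasLimit _
  haveI : IsConnected (Over i) := IsCofiltered.isConnected _
  haveI : HasLimit W' := hasLimit_of_created W' (Over.forget S)
  have hL : IsLimit (limit.cone W') := limit.isLimit W'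
  have hLaff : IsAffine (limit W').left :=
    Scheme.isAffine_of_isLimit ((Over.forget S).mapCone (limit.cone W')) (isLimitOfPreserves _ hL)
  have hyL : IsLimit ((yon S).mapCone (limit.cone W')) := isLimitOfPreserves _ hL
  have hyL' : IsLimit ((Cone.postcompose eW.hom).obj ((yon S).mapCone (limit.cone W'))) :=
    (IsLimit.postcomposeHomEquiv eW _).symm hyL
  let e : (yon S).obj (limit W') ≅ pullback (c.π.app i) g :=
    hyL'.conePointUniqueUpToIso (isLimitPE D g c hc)
  refine ⟨limit W', (yon S).preimage (e.hom ≫ pullback.snd _ _), e.hom ≫ pullback.fst _ _, ?_, hLaff⟩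
  rw [Functor.map_preimage]
  exact IsPullback.of_iso (IsPullback.of_hasPullback (c.π.app i) g) e.symm (Iso.refl _) (Iso.refl _)
      (Iso.refl _) (by simp) (by simp) (by simp) (by simp)

theorem main (hD : ∀ i, IsAlgSpace (D.obj i))
    (hDa : ∀ (i j : I) (φ : i ⟶ j), IsAffineMor (D.map φ))
    (c : Cone D) (hc : IsLimit c) :
    IsAlgSpace c.pt ∧ ∀ i, IsAffineMor (c.π.app i) := by
  refine ⟨?_, isAffineMor_π D hDa c hc⟩
  obtain ⟨i₀⟩ := IsCofiltered.nonempty (C := I)
  have h := repWith_of_isAffineMor _ (isAffineMor_π D hDa c hc i₀)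
  exact Groth.Agent.H50.isAlgSpace_of_representable h.rep (hD i₀)
end

end Groth.Agent.H94.AlgSpLimit
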