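import Mathlib
import Groth.Prelude.Def_AlgSp4
import Groth.Agent.H94.AlgSpLimit
import Groth.Agent.H50.InfNbhd
set_option autoImplicit false
universe u
open CategoryTheory CategoryTheory.Limits AlgebraicGeometry
open AlgSp
namespace Groth.Agent.H94.AlgSpLimit4
open Groth.Agent.H94.AlgSpLimit

variable {S : Scheme.{u}}

section
variable {I : Type u} [SmallCategory I] [IsCofiltered I] (D : I ⥤ Sp S)

/-- components of an isomorphism to `E`, with explicit type. -/
noncomputable def legE {i : I} {G : Sp S} (g : G ⟶ D.obj i) {W' : Over i ⥤ Over S}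
    (eW : W' ⋙ yon S ≅ E D g) (j : Over i) :
    (yon S).obj (W'.obj j) ⟶ pullback (D.map j.hom) g := eW.hom.app j

omit [IsCofiltered I] in
lemma legE_nat {i : I} {G : Sp S} (g : G ⟶ D.obj i) {W' : Over i ⥤ Over S}
    (eW : W' ⋙ yon S ≅ E D g) {j k : Over i} (f : j ⟶ k) :
    (yon S).map (W'.map f) ≫ legE D g eW k = legE D g eW j ≫ Emap D g f :=
  eW.hom.naturality f

/-- base change of the limit to ANY scheme chart `g : h_T ⟶ D_i`: it is the limit of a cofiltered
system of schemes, affine over `T`, representing the base changes of the `D_j`. -/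
theorem exists_limit_data' (hDa : ∀ (i j : I) (φ : i ⟶ j), IsAffineMor (D.map φ))
    (c : Cone D) (hc : IsLimit c) (i : I) (T : Over S)
    (g : (yon S).obj T ⟶ D.obj i) :
    ∃ (W' : Over i ⥤ Over S) (eW : W' ⋙ yon S ≅ E D g) (s : ∀ j, W'.obj j ⟶ T)
      (L : Cone W') (_ : IsLimit L),
      (∀ j, (yon S).map (s j) = eW.hom.app j ≫ pullback.snd (D.map j.hom) g) ∧
      (∀ j, IsAffineHom (s j).left) ∧
      (∀ (j k : Over i) (f : j ⟶ k), IsAffineHom (W'.map f).left) ∧
        Nonempty ((yon S).obj L.pt ≅ pullback (c.π.app i) g) := by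
  have hrepj : ∀ j : Over i, RepWith @IsAffineHom (D.map j.hom) :=
    fun j => repWith_of_isAffineMor _ (hDa _ _ j.hom)
  have hE : ∀ j, (yon S).essImage ((E D g).obj j) := by
    intro j
    exact ⟨(hrepj j).rep.pullback g, ⟨((hrepj j).rep.isPullback g).isoPullback⟩⟩
  let W' : Over i ⥤ Over S := Functor.essImage.liftFunctor (E D g) (yon S) hE
  let eW : W' ⋙ yon S ≅ E D g := Functor.essImage.liftFunctorCompIso (E D g) (yon S) hE
  let s : ∀ j, W'.obj j ⟶ T := fun j =>
    (yon S).preimage (eW.hom.app j ≫ pullback.snd (D.map j.hom) g)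
  have hs : ∀ j, (yon S).map (s j) = eW.hom.app j ≫ pullback.snd (D.map j.hom) g :=
    fun j => Functor.map_preimage _ _
  have hsaff : ∀ j, IsAffineHom (s j).left := by
    intro j
    have h1 : RepWith @IsAffineHom (pullback.snd (D.map j.hom) g) :=
      Groth.Agent.H50.repWith_snd_of_isPullback (IsPullback.of_hasPullback _ _) (hrepj j)
    have h2 : RepWith @IsAffineHom ((yon S).map (s j)) := by
      rw [hs j]
      exact (RepWith @IsAffineHom).comp_mem _ _ (MorphismProperty.of_isIso _ _) h1
    exact (repWith_yon_map_iff @IsAffineHom _).1 h2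
  have hsw : ∀ (j k : Over i) (f : j ⟶ k), W'.map f ≫ s k = s j := by
    intro j k f
    apply (yon S).map_injective
    rw [Functor.map_comp, hs, hs]
    change (yon S).map (W'.map f) ≫ legE D g eW k ≫ _ = legE D g eW j ≫ _
    rw [← Category.assoc, legE_nat, Category.assoc, Emap_snd]
  have htr : ∀ (j k : Over i) (f : j ⟶ k), IsAffineHom (W'.map f).left := by
    intro j k f
    haveI := hsaff k
    have h1 : IsAffineHom ((W'.map f).left ≫ (s k).left) := by
      rw [← Over.comp_left, hsw]
      exact hsaff j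
    exact MorphismProperty.of_postcomp (W := @IsAffineHom) (W' := @IsSeparated) _ (s k).left
      inferInstance h1
  haveI : ∀ (j k : Over i) (f : j ⟶ k), IsAffineHom ((W' ⋙ Over.forget S).map f) := htr
  haveI : HasLimit (W' ⋙ Over.forget S) := Groth.Agent.H94.AffineLimit.hasLimit _
  haveI : IsConnected (Over i) := IsCofiltered.isConnected _
  haveI : HasLimit W' := hasLimit_of_created W' (Over.forget S)
  have hL : IsLimit (limit.cone W') := limit.isLimit W'
  have hyL : IsLimit ((yon S).mapCone (limit.cone W')) := isLimitOfPreserves _ hL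
  have hyL' : IsLimit ((Cone.postcompose eW.hom).obj ((yon S).mapCone (limit.cone W'))) :=
    (IsLimit.postcomposeHomEquiv eW _).symm hyL
  exact ⟨W', eW, s, limit.cone W', hL, hs, hsaff, htr,
    ⟨hyL'.conePointUniqueUpToIso (isLimitPE D g c hc)⟩⟩


theorem nonempty_points_limit (hDa : ∀ (i j : I) (φ : i ⟶ j), IsAffineMor (D.map φ))
    (c : Cone D) (hc : IsLimit c)
    (hqc : ∀ i, IsQuasiCompactSp (D.obj i)) (hne : ∀ i, Nonempty (Points (D.obj i))) :
    Nonempty (Points c.pt) := by
  obtain ⟨i₀⟩ := IsCofiltered.nonempty (C := I)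
  obtain ⟨U₀, p₀, hp₀e, hp₀s, hU₀⟩ := hqc i₀
  obtain ⟨W', eW, s, L, hL, hs, hsaff, htr, ⟨e⟩⟩ := exists_limit_data' D hDa c hc i₀ U₀ p₀
  haveI : CompactSpace U₀.left := hU₀
  haveI hcomp : ∀ j, CompactSpace ((W' ⋙ Over.forget S).obj j) := fun j => by
    have h1 : IsAffineHom (s j).left := hsaff j
    have h2 : QuasiCompact (s j).left := inferInstance
    show CompactSpace (W'.obj j).left
    exact QuasiCompact.compactSpace_of_compactSpace (s j).left
  haveI hnon : ∀ j, Nonempty ((W' ⋙ Over.forget S).obj j) := by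
    intro j
    have h1 : RepWith @Surjective (pullback.fst (D.map j.hom) p₀) :=
      Groth.Agent.H50.repWith_fst_of_isPullback (IsPullback.of_hasPullback _ _) hp₀s
    have h2 : RepWith @Surjective (eW.hom.app j ≫ pullback.fst (D.map j.hom) p₀) :=
      (RepWith @Surjective).comp_mem _ _ (MorphismProperty.of_isIso _ _) h1
    obtain ⟨x⟩ := hne j.left
    obtain ⟨w, -⟩ := Groth.Agent.H50.surjective_map_of_repWith_surjective _ h2 x
    exact ⟨(Points.schemeEquiv (W'.obj j)).symm w⟩
  haveI : ∀ {j k : Over i₀} (f : j ⟶ k), IsAffineHom ((W' ⋙ Over.forget S).map f) :=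
    fun {j k} f => htr j k f
  haveI : IsConnected (Over i₀) := IsCofiltered.isConnected _
  have hne' : Nonempty ((Over.forget S).mapCone L).pt :=
    Scheme.nonempty_of_isLimit (W' ⋙ Over.forget S) _ (isLimitOfPreserves _ hL)
  obtain ⟨x⟩ := hne'
  exact ⟨Points.ofPt (e.hom ≫ pullback.fst _ _) x⟩

end

end Groth.Agent.H94.AlgSpLimit4
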