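import Mathlib
import Groth.Prelude.Def_AlgSp4
import Groth.Prelude.Def_AlgSpDec
import Groth.Agent.H94.AlgSpLimit4
import Groth.Agent.H52.Topology
set_option autoImplicit false
universe u
open CategoryTheory CategoryTheory.Limits AlgebraicGeometry
open AlgSp
namespace Groth.Agent.H94.AlgSpLimit6
open Groth.Agent.H94.AlgSpLimit Groth.Agent.H94.AlgSpLimit4

variable {S : Scheme.{u}}

section
variable {I : Type u} [SmallCategory I] [IsCofiltered I] (D : I ⥤ Sp S)

/-- refined form of `exists_limit_data'`: the atlas of the limit obtained from a scheme chart of `D_i`,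
with the pullback squares relating it to the charts of the `D_j`. -/
theorem exists_chart_limit (hDa : ∀ (i j : I) (φ : i ⟶ j), IsAffineMor (D.map φ))
    (c : Cone D) (hc : IsLimit c) (i : I) (T : Over S)
    (g : (yon S).obj T ⟶ D.obj i) :
    ∃ (W' : Over i ⥤ Over S) (b : ∀ j : Over i, (yon S).obj (W'.obj j) ⟶ D.obj j.left)
      (s : ∀ j, W'.obj j ⟶ T) (L : Cone W') (_ : IsLimit L) (a : (yon S).obj L.pt ⟶ c.pt)
      (sL : L.pt ⟶ T),
      (∀ j, IsPullback (b j) ((yon S).map (s j)) (D.map j.hom) g) ∧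
      (∀ (j k : Over i) (f : j ⟶ k), IsAffineHom (W'.map f).left) ∧
      IsPullback a ((yon S).map sL) (c.π.app i) g ∧
      (∀ j, IsPullback a ((yon S).map (L.π.app j)) (c.π.app j.left) (b j)) := by
  have hrepj : ∀ j : Over i, RepWith @IsAffineHom (D.map j.hom) :=
    fun j => repWith_of_isAffineMor _ (hDa _ _ j.hom)
  have hE : ∀ j, (yon S).essImage ((E D g).obj j) := by
    intro j
    exact ⟨(hrepj j).rep.pullback g, ⟨((hrepj j).rep.isPullback g).isoPullback⟩⟩
  let W' : Over i ⥤ Over S := Functor.essImage.liftFunctor (E D g) (yon S) hE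
  let eW : W' ⋙ yon S ≅ E D g := Functor.essImage.liftFunctorCompIso (E D g) (yon S) hE
  let s : ∀ j, W'.obj j ⟶ T := fun j =>
    (yon S).preimage (legE D g eW j ≫ pullback.snd (D.map j.hom) g)
  have hs : ∀ j, (yon S).map (s j) = legE D g eW j ≫ pullback.snd (D.map j.hom) g :=
    fun j => Functor.map_preimage _ _
  let b : ∀ j : Over i, (yon S).obj (W'.obj j) ⟶ D.obj j.left := fun j =>
    legE D g eW j ≫ pullback.fst (D.map j.hom) g
  have hiso : ∀ j, IsIso (legE D g eW j) := fun j => by
    change IsIso (eW.hom.app j)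
    infer_instance
  have hsq : ∀ j, IsPullback (b j) ((yon S).map (s j)) (D.map j.hom) g := by
    intro j
    rw [hs j]
    exact IsPullback.of_iso (IsPullback.of_hasPullback (D.map j.hom) g)
      (asIso (legE D g eW j)).symm (Iso.refl _) (Iso.refl _) (Iso.refl _)
      (by simp [b]) (by simp) (by simp) (by simp)
  have hsaff : ∀ j, IsAffineHom (s j).left := by
    intro j
    have h1 : RepWith @IsAffineHom ((yon S).map (s j)) :=
      Groth.Agent.H50.repWith_snd_of_isPullback (hsq j) (hrepj j)
    exact (repWith_yon_map_iff @IsAffineHom _).1 h1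
  have hsw : ∀ (j k : Over i) (f : j ⟶ k), W'.map f ≫ s k = s j := by
    intro j k f
    apply (yon S).map_injective
    rw [Functor.map_comp, hs, hs, ← Category.assoc, legE_nat, Category.assoc, Emap_snd]
  have htr : ∀ (j k : Over i) (f : j ⟶ k), IsAffineHom (W'.map f).left := by
    intro j k f
    haveI := hsaff k
    have h1 : IsAffineHom ((W'.map f).left ≫ (s k).left) := by
      rw [← Over.comp_left, hsw]
      exact hsaff j
    exact MorphismProperty.of_postcomp (W := @IsAffineHom) (W' := @IsSeparated) _ (s k).left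
      inferInstance h1
  have : ∀ (j k : Over i) (f : j ⟶ k), IsAffineHom ((W' ⋙ Over.forget S).map f) := htr
  haveI : HasLimit (W' ⋙ Over.forget S) := Groth.Agent.H94.AffineLimit.hasLimit _
  haveI : IsConnected (Over i) := IsCofiltered.isConnected _
  haveI : HasLimit W' := hasLimit_of_created W' (Over.forget S)
  have hL : IsLimit (limit.cone W') := limit.isLimit W'
  have hyL : IsLimit ((yon S).mapCone (limit.cone W')) := isLimitOfPreserves _ hL
  have hyL' : IsLimit ((Cone.postcompose eW.hom).obj ((yon S).mapCone (limit.cone W'))) :=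
    (IsLimit.postcomposeHomEquiv eW _).symm hyL
  let e : (yon S).obj (limit W') ≅ pullback (c.π.app i) g :=
    hyL'.conePointUniqueUpToIso (isLimitPE D g c hc)
  have he : ∀ j, e.hom ≫ PEleg D g c j = (yon S).map (limit.π W' j) ≫ legE D g eW j := fun j =>
    IsLimit.conePointUniqueUpToIso_hom_comp hyL' (isLimitPE D g c hc) j
  let a : (yon S).obj (limit W') ⟶ c.pt := e.hom ≫ pullback.fst _ _
  let sL : limit W' ⟶ T := (yon S).preimage (e.hom ≫ pullback.snd _ _)
  have hsL : (yon S).map sL = e.hom ≫ pullback.snd _ _ := Functor.map_preimage _ _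
  have hbig : IsPullback a ((yon S).map sL) (c.π.app i) g := by
    rw [hsL]
    exact IsPullback.of_iso (IsPullback.of_hasPullback (c.π.app i) g) e.symm (Iso.refl _) (Iso.refl _)
      (Iso.refl _) (by simp [a]) (by simp) (by simp) (by simp)
  refine ⟨W', b, s, limit.cone W', hL, a, sL, hsq, htr, hbig, ?_⟩
  intro j
  -- a ≫ c.π_j = yon(π_j) ≫ b_j
  have h1 : a ≫ c.π.app j.left = (yon S).map (limit.π W' j) ≫ b j := by
    change (e.hom ≫ pullback.fst _ _) ≫ _ = _ ≫ legE D g eW j ≫ _
    rw [Category.assoc, ← PEleg_fst, ← Category.assoc, he j, Category.assoc]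
  have h2 : (yon S).map sL = (yon S).map (limit.π W' j) ≫ (yon S).map (s j) := by
    rw [hsL, hs j, ← PEleg_snd D g c j, ← Category.assoc, he j, Category.assoc]
  -- pasting
  have hbig' : IsPullback a ((yon S).map (limit.π W' j) ≫ (yon S).map (s j))
      (c.π.app j.left ≫ D.map j.hom) g := by
    rw [← h2, c.w]
    exact hbig
  exact IsPullback.of_bot hbig' h1 (hsq j)


theorem points_limit_topology (hD : ∀ i, IsAlgSpace (D.obj i))
    (hDa : ∀ (i j : I) (φ : i ⟶ j), IsAffineMor (D.map φ))
    (c : Cone D) (hc : IsLimit c) :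
    Points.topologicalSpace c.pt =
      ⨅ i, TopologicalSpace.induced (Points.map (c.π.app i)) (Points.topologicalSpace (D.obj i)) := by
  apply le_antisymm
  · exact le_iInf fun i => (Points.continuous_map (c.π.app i)).le_induced
  · intro W hW
    rw [@isOpen_iff_forall_mem_open]
    intro x hxW
    obtain ⟨i₀⟩ := IsCofiltered.nonempty (C := I)
    obtain ⟨V₀, p₀, hp₀e, hp₀s⟩ := (hD i₀).atlas
    obtain ⟨W', b, s, L, hL, a, sL, hsq, htr, hbig, hsqj⟩ := exists_chart_limit D hDa c hc i₀ V₀ p₀
    have hae : RepWith @Etale a := Groth.Agent.H50.repWith_fst_of_isPullback hbig hp₀e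
    have has : RepWith @Surjective a := Groth.Agent.H50.repWith_fst_of_isPullback hbig hp₀s
    obtain ⟨ℓ, rfl⟩ := Groth.Agent.H52.surjective_ofPt_of_surjective a has x
    have hUo : IsOpen (Points.ofPt a ⁻¹' W) := (Points.isOpen_iff.1 hW) L.pt a
    haveI : ∀ {j k : Over i₀} (f : j ⟶ k), IsAffineHom ((W' ⋙ Over.forget S).map f) :=
      fun {j k} f => htr j k f
    haveI : IsConnected (Over i₀) := IsCofiltered.isConnected _
    have hbasis := isBasis_preimage_isAffineOpen (W' ⋙ Over.forget S) ((Over.forget S).mapCone L)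
      (isLimitOfPreserves _ hL)
    obtain ⟨U', ⟨j, O, hO, rfl⟩, hℓU', hU'⟩ := TopologicalSpace.Opens.isBasis_iff_nbhd.mp hbasis
      (U := ⟨Points.ofPt a ⁻¹' W, hUo⟩) (x := ℓ) hxW
    have hbe : RepWith @Etale (b j) := Groth.Agent.H50.repWith_fst_of_isPullback (hsq j) hp₀e
    let O₂ : Set ↥(W'.obj j).left := O.1
    have hO₂ : IsOpen O₂ := O.2
    have hO' : IsOpen (Points.ofPt (b j) '' O₂) :=
      Groth.Agent.H52.isOpenMap_ofPt_of_etale (b j) hbe _ hO₂
    refine ⟨Points.map (c.π.app j.left) ⁻¹' (Points.ofPt (b j) '' O₂), ?_, ?_, ?_⟩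
    · intro y hy
      obtain ⟨o, ho, hoy⟩ := hy
      have h1 : Points.map (c.π.app j.left) y = Points.map (b j) (Points.ofScheme (W'.obj j) o) := by
        rw [← Points.ofPt_eq_map_ofScheme, hoy]
      obtain ⟨z, hz1, hz2⟩ := Groth.Agent.H50.exists_point_of_isPullback (hsqj j) y _ h1
      obtain ⟨ℓ', rfl⟩ := (Points.schemeEquiv L.pt).surjective z
      change Points.map _ (Points.ofScheme L.pt ℓ') = _ at hz1
      change Points.map _ (Points.ofScheme L.pt ℓ') = _ at hz2
      rw [Groth.Agent.H52.map_yon_map_ofScheme] at hz2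
      have h2 : (L.π.app j).left ℓ' = o := Groth.Agent.H52.ofScheme_injective _ hz2
      have h3 : ℓ' ∈ (Points.ofPt a ⁻¹' W) := hU' (show (L.π.app j).left ℓ' ∈ O from h2 ▸ ho)
      rw [← hz1, ← Points.ofPt_eq_map_ofScheme]
      exact h3
    · have hle : (⨅ i, TopologicalSpace.induced (Points.map (c.π.app i))
          (Points.topologicalSpace (D.obj i))) ≤
          TopologicalSpace.induced (Points.map (c.π.app j.left)) (Points.topologicalSpace (D.obj j.left)) :=
        iInf_le _ j.left
      exact hle _ (isOpen_induced hO')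
    · refine ⟨(L.π.app j).left ℓ, hℓU', ?_⟩
      rw [Points.map_ofPt, (hsqj j).w, Groth.Agent.H52.ofPt_yon_map_comp]

end

end Groth.Agent.H94.AlgSpLimit6
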