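import Mathlib
import Groth.Prelude.Def_AlgSp4
import Groth.Agent.H94.AlgSpLimit6
import Groth.Agent.H94.AlgSpLimit3
import Groth.Agent.H52.QC
import Groth.Agent.H50.Kernel
import Groth.Agent.H50.Fppf
import Groth.Agent.H50.Affine
set_option autoImplicit false
universe u
open CategoryTheory CategoryTheory.Limits AlgebraicGeometry
open AlgSp
namespace Groth.Agent.H94.AlgSpLimit9
open Groth.Agent.H94.AlgSpLimit Groth.Agent.H94.AlgSpLimit4 Groth.Agent.H94.AlgSpLimit6

/-- cancellation: `f ≫ g` locally of finite presentation and `g` locally of finite type imply `f` locally of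
finite presentation. -/
theorem lfp_of_comp_lft {X Y Z : Scheme.{u}} (f : X ⟶ Y) (g : Y ⟶ Z) [hg : LocallyOfFiniteType g]
    (h : LocallyOfFinitePresentation (f ≫ g)) : LocallyOfFinitePresentation f := by
  wlog hZ : IsAffine Z generalizing X Y Z
  · rw [IsZariskiLocalAtTarget.iff_of_iSup_eq_top (P := @LocallyOfFinitePresentation) _
      (g.iSup_preimage_eq_top (iSup_affineOpens_eq_top Z))]
    intro U
    have H := IsZariskiLocalAtTarget.restrict h U.1
    rw [morphismRestrict_comp] at H
    exact this _ (g ∣_ U.1) H inferInstance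
  wlog hY : IsAffine Y generalizing X Y
  · rw [IsZariskiLocalAtTarget.iff_of_iSup_eq_top (P := @LocallyOfFinitePresentation) _
      (iSup_affineOpens_eq_top Y)]
    intro U
    have H : LocallyOfFinitePresentation ((f ⁻¹ᵁ U.1).ι ≫ f ≫ g) :=
      @locallyOfFinitePresentation_comp _ _ _ (f ⁻¹ᵁ U.1).ι (f ≫ g)
        (@locallyOfFinitePresentation_of_isOpenImmersion _ _ _ inferInstance) h
    rw [← morphismRestrict_ι_assoc] at H
    haveI hg' : LocallyOfFiniteType (U.1.ι ≫ g) :=
      @locallyOfFiniteType_comp _ _ _ U.1.ι g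
        (@locallyOfFiniteType_of_isOpenImmersion _ _ _ inferInstance) hg
    exact this (f ∣_ U.1) (U.1.ι ≫ g) H inferInstance
  wlog hX : IsAffine X generalizing X
  · rw [IsZariskiLocalAtSource.iff_of_iSup_eq_top (P := @LocallyOfFinitePresentation) _
      (iSup_affineOpens_eq_top X)]
    intro U
    have H : LocallyOfFinitePresentation (U.1.ι ≫ f ≫ g) :=
      @locallyOfFinitePresentation_comp _ _ _ U.1.ι (f ≫ g)
        (@locallyOfFinitePresentation_of_isOpenImmersion _ _ _ inferInstance) h
    rw [← Category.assoc] at H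
    exact this (U.1.ι ≫ f) H inferInstance
  rw [HasRingHomProperty.iff_of_isAffine (P := @LocallyOfFinitePresentation)] at h ⊢
  rw [HasRingHomProperty.iff_of_isAffine (P := @LocallyOfFiniteType)] at hg
  rw [Scheme.Hom.comp_appTop] at h
  exact RingHom.FinitePresentation.of_comp_finiteType _ h hg

section
variable {J : Type u} [SmallCategory J] [IsCofiltered J]

theorem exists_isIso_π_of_lfp (F : J ⥤ Scheme.{u}) (V : Scheme.{u}) [IsAffine V]
    (t : F ⟶ (Functor.const J).obj V) (ht : ∀ j, IsClosedImmersion (t.app j))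
    (c : Cone F) (hc : IsLimit c) (f : c.pt ⟶ V) (hf : ∀ j, c.π.app j ≫ t.app j = f)
    (hfp : LocallyOfFinitePresentation f) : ∃ j, ∀ (k : J) (_ : k ⟶ j), IsIso (c.π.app k) := by
  haveI := hfp
  haveI : ∀ j, IsAffine (((Functor.const J).obj V).obj j) := fun _ => ‹IsAffine V›
  haveI : ∀ j, IsAffine (F.obj j) := fun j => isAffine_of_isAffineHom (t.app j)
  haveI : ∀ {i j : J} (φ : i ⟶ j), IsAffineHom (F.map φ) := fun φ => inferInstance
  haveI hmono : ∀ {i j : J} (φ : i ⟶ j), Mono (F.map φ) := fun {i j} φ => by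
    have h1 : F.map φ ≫ t.app j = t.app i := by
      have := t.naturality φ
      simpa using this
    have : Mono (F.map φ ≫ t.app j) := by rw [h1]; infer_instance
    exact mono_of_mono _ (t.app j)
  obtain ⟨i, g, hg1, hg2⟩ := Scheme.exists_π_app_comp_eq_of_locallyOfFinitePresentation F t f c hc
    (𝟙 c.pt) (by ext j; simp [hf])
  haveI : Mono g := by
    have : Mono (g ≫ f) := by rw [hg2]; infer_instance
    exact mono_of_mono _ f
  haveI : IsSplitEpi g := ⟨⟨⟨(show c.pt ⟶ F.obj i from c.π.app i), hg1⟩⟩⟩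
  haveI : IsIso g := isIso_of_mono_of_isSplitEpi g
  have hπi : IsIso (c.π.app i) := by
    have : c.π.app i = inv g := by
      rw [← cancel_mono g, hg1, IsIso.inv_hom_id]
      rfl
    rw [this]
    infer_instance
  refine ⟨i, fun k φ => ?_⟩
  have hw : c.π.app k ≫ F.map φ = c.π.app i := c.w φ
  haveI : IsSplitEpi (F.map φ) := ⟨⟨⟨inv (c.π.app i) ≫ c.π.app k, by
    rw [Category.assoc, hw, IsIso.inv_hom_id]⟩⟩⟩
  haveI : IsIso (F.map φ) := isIso_of_mono_of_isSplitEpi _
  have : c.π.app k = c.π.app i ≫ inv (F.map φ) := by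
    rw [← hw, Category.assoc, IsIso.hom_inv_id, Category.comp_id]
  rw [this]
  infer_instance

end

variable {S : Scheme.{u}}

/-- a morphism of sheaves admitting sections over a jointly surjective family of etale charts of the target is an
epimorphism. -/
theorem epi_of_family_sections {F G : Sp S} (q : F ⟶ G) {A : Type u} (W : A → Over S)
    (b : ∀ α, (yon S).obj (W α) ⟶ G) (hbe : ∀ α, RepWith @Etale (b α))
    (hsurj : ∀ x : Points G, ∃ (α : A) (w : ↥(W α).left), Points.ofPt (b α) w = x)
    (hsec : ∀ α, ∃ σ : (yon S).obj (W α) ⟶ F, σ ≫ q = b α) : Epi q := by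
  apply Groth.Agent.H50.epi_of_local_lift
  intro T y
  choose σ hσ using hsec
  have hrep : ∀ α, Representable (b α) := fun α => (hbe α).rep
  let Tα : A → Over S := fun α => (hrep α).pullback y
  let ψ : ∀ α, Tα α ⟶ T := fun α => (hrep α).snd y
  let fstα : ∀ α, (yon S).obj (Tα α) ⟶ (yon S).obj (W α) := fun α => (hrep α).fst y
  have sq : ∀ α, IsPullback (fstα α) ((yon S).map (ψ α)) (b α) y := fun α => (hrep α).isPullback y
  have hψe : ∀ α, Etale (ψ α).left := fun α => (hbe α).property_snd y
  refine ⟨Sieve.generate (Presieve.ofArrows Tα ψ), ?_, ?_⟩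
  · refine Groth.Agent.H50.mem_J_of_fppf_family Tα ψ ?_ (fun α => ?_) (fun α => ?_) _
      (fun α => Sieve.le_generate (Presieve.ofArrows Tα ψ) _ _ (Presieve.ofArrows.mk α))
    · intro τ
      obtain ⟨α, w, hw⟩ := hsurj (Points.ofPt y τ)
      obtain ⟨φα, hφα⟩ := (yon S).map_surjective (fstα α)
      have sq' : IsPullback ((yon S).map φα) ((yon S).map (ψ α)) (b α) y := by
        rw [hφα]; exact sq α
      obtain ⟨v, -, hv⟩ := Groth.Agent.H52.exists_of_ofPt_eq_ofPt sq' w τ hw
      exact ⟨α, v, hv⟩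
    · haveI := hψe α
      infer_instance
    · haveI := hψe α
      infer_instance
  · intro T' f hf
    obtain ⟨T'', g, _, ⟨α⟩, rfl⟩ := hf
    refine ⟨(yon S).map g ≫ fstα α ≫ σ α, ?_⟩
    rw [Category.assoc, Category.assoc, hσ, (sq α).w, Functor.map_comp, Category.assoc]

section
variable {I : Type u} [SmallCategory I] [IsCofiltered I] (D : I ⥤ Sp S)

/-- refined form of `exists_limit_data'`: the atlas of the limit obtained from a scheme chart of `D_i`,
with the pullback squares relating it to the charts of the `D_j`. -/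
theorem exists_chart_limit' (hDa : ∀ (i j : I) (φ : i ⟶ j), IsAffineMor (D.map φ))
    (c : Cone D) (hc : IsLimit c) (i : I) (T : Over S)
    (g : (yon S).obj T ⟶ D.obj i) :
    ∃ (W' : Over i ⥤ Over S) (b : ∀ j : Over i, (yon S).obj (W'.obj j) ⟶ D.obj j.left)
      (s : ∀ j, W'.obj j ⟶ T) (L : Cone W') (_ : IsLimit L) (a : (yon S).obj L.pt ⟶ c.pt)
      (sL : L.pt ⟶ T),
      (∀ j, IsPullback (b j) ((yon S).map (s j)) (D.map j.hom) g) ∧
      (∀ (j k : Over i) (f : j ⟶ k), IsAffineHom (W'.map f).left) ∧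
      IsPullback a ((yon S).map sL) (c.π.app i) g ∧
      (∀ j, IsPullback a ((yon S).map (L.π.app j)) (c.π.app j.left) (b j)) ∧
      (∀ (j k : Over i) (f : j ⟶ k), (yon S).map (W'.map f) ≫ b k = b j ≫ D.map f.left) ∧
      (∀ (j k : Over i) (f : j ⟶ k), W'.map f ≫ s k = s j) ∧
      (∀ j, L.π.app j ≫ s j = sL) := by
  have hrepj : ∀ j : Over i, RepWith @IsAffineHom (D.map j.hom) :=
    fun j => repWith_of_isAffineMor _ (hDa _ _ j.hom)
  have hE : ∀ j, (yon S).essImage ((E D g).obj j) := by
    intro j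
    exact ⟨(hrepj j).rep.pullback g, ⟨((hrepj j).rep.isPullback g).isoPullback⟩⟩
  let W' : Over i ⥤ Over S := Functor.essImage.liftFunctor (E D g) (yon S) hE
  let eW : W' ⋙ yon S ≅ E D g := Functor.essImage.liftFunctorCompIso (E D g) (yon S) hE
  let s : ∀ j, W'.obj j ⟶ T := fun j =>
    (yon S).preimage (legE D g eW j ≫ pullback.snd (D.map j.hom) g)
  have hs : ∀ j, (yon S).map (s j) = legE D g eW j ≫ pullback.snd (D.map j.hom) g :=
    fun j => Functor.map_preimage _ _
  let b : ∀ j : Over i, (yon S).obj (W'.obj j) ⟶ D.obj j.left := fun j =>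
    legE D g eW j ≫ pullback.fst (D.map j.hom) g
  have hiso : ∀ j, IsIso (legE D g eW j) := fun j => by
    change IsIso (eW.hom.app j)
    infer_instance
  have hsq : ∀ j, IsPullback (b j) ((yon S).map (s j)) (D.map j.hom) g := by
    intro j
    rw [hs j]
    exact IsPullback.of_iso (IsPullback.of_hasPullback (D.map j.hom) g)
      (asIso (legE D g eW j)).symm (Iso.refl _) (Iso.refl _) (Iso.refl _)
      (by simp [b]) (by simp) (by simp) (by simp)
  have hsaff : ∀ j, IsAffineHom (s j).left := by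
    intro j
    have h1 : RepWith @IsAffineHom ((yon S).map (s j)) :=
      Groth.Agent.H50.repWith_snd_of_isPullback (hsq j) (hrepj j)
    exact (repWith_yon_map_iff @IsAffineHom _).1 h1
  have hsw : ∀ (j k : Over i) (f : j ⟶ k), W'.map f ≫ s k = s j := by
    intro j k f
    apply (yon S).map_injective
    rw [Functor.map_comp, hs, hs, ← Category.assoc, legE_nat, Category.assoc, Emap_snd]
  have htr : ∀ (j k : Over i) (f : j ⟶ k), IsAffineHom (W'.map f).left := by
    intro j k f
    haveI := hsaff k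
    have h1 : IsAffineHom ((W'.map f).left ≫ (s k).left) := by
      rw [← Over.comp_left, hsw]
      exact hsaff j
    exact MorphismProperty.of_postcomp (W := @IsAffineHom) (W' := @IsSeparated) _ (s k).left
      inferInstance h1
  have : ∀ (j k : Over i) (f : j ⟶ k), IsAffineHom ((W' ⋙ Over.forget S).map f) := htr
  haveI : HasLimit (W' ⋙ Over.forget S) := Groth.Agent.H94.AffineLimit.hasLimit _
  haveI : IsConnected (Over i) := IsCofiltered.isConnected _
  haveI : HasLimit W' := hasLimit_of_created W' (Over.forget S)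
  have hL : IsLimit (limit.cone W') := limit.isLimit W'
  have hyL : IsLimit ((yon S).mapCone (limit.cone W')) := isLimitOfPreserves _ hL
  have hyL' : IsLimit ((Cone.postcompose eW.hom).obj ((yon S).mapCone (limit.cone W'))) :=
    (IsLimit.postcomposeHomEquiv eW _).symm hyL
  let e : (yon S).obj (limit W') ≅ pullback (c.π.app i) g :=
    hyL'.conePointUniqueUpToIso (isLimitPE D g c hc)
  have he : ∀ j, e.hom ≫ PEleg D g c j = (yon S).map (limit.π W' j) ≫ legE D g eW j := fun j =>
    IsLimit.conePointUniqueUpToIso_hom_comp hyL' (isLimitPE D g c hc) j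
  let a : (yon S).obj (limit W') ⟶ c.pt := e.hom ≫ pullback.fst _ _
  let sL : limit W' ⟶ T := (yon S).preimage (e.hom ≫ pullback.snd _ _)
  have hsL : (yon S).map sL = e.hom ≫ pullback.snd _ _ := Functor.map_preimage _ _
  have hbig : IsPullback a ((yon S).map sL) (c.π.app i) g := by
    rw [hsL]
    exact IsPullback.of_iso (IsPullback.of_hasPullback (c.π.app i) g) e.symm (Iso.refl _) (Iso.refl _)
      (Iso.refl _) (by simp [a]) (by simp) (by simp) (by simp)
  have hbn : ∀ (j k : Over i) (f : j ⟶ k), (yon S).map (W'.map f) ≫ b k = b j ≫ D.map f.left := by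
    intro j k f
    change _ ≫ legE D g eW k ≫ _ = (legE D g eW j ≫ _) ≫ _
    rw [← Category.assoc, legE_nat, Category.assoc, Emap_fst, Category.assoc]
  have hsLs : ∀ j, limit.π W' j ≫ s j = sL := by
    intro j
    apply (yon S).map_injective
    have h2 : (yon S).map sL = (yon S).map (limit.π W' j) ≫ (yon S).map (s j) := by
      rw [hsL, hs j, ← PEleg_snd D g c j, ← Category.assoc, he j, Category.assoc]
    rw [Functor.map_comp, h2]
  refine ⟨W', b, s, limit.cone W', hL, a, sL, hsq, htr, hbig, ?_, hbn, hsw, hsLs⟩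
  intro j
  -- a ≫ c.π_j = yon(π_j) ≫ b_j
  have h1 : a ≫ c.π.app j.left = (yon S).map (limit.π W' j) ≫ b j := by
    change (e.hom ≫ pullback.fst _ _) ≫ _ = _ ≫ legE D g eW j ≫ _
    rw [Category.assoc, ← PEleg_fst, ← Category.assoc, he j, Category.assoc]
  have h2 : (yon S).map sL = (yon S).map (limit.π W' j) ≫ (yon S).map (s j) := by
    rw [hsL, hs j, ← PEleg_snd D g c j, ← Category.assoc, he j, Category.assoc]
  -- pasting
  have hbig' : IsPullback a ((yon S).map (limit.π W' j) ≫ (yon S).map (s j))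
      (c.π.app j.left ≫ D.map j.hom) g := by
    rw [← h2, c.w]
    exact hbig
  exact IsPullback.of_bot hbig' h1 (hsq j)




theorem eventually_isIso (B : Sp S) (hB : IsAlgSpace B) (hD : ∀ i, IsAlgSpace (D.obj i))
    (t : D ⟶ (Functor.const I).obj B)
    (hDc : ∀ (i j : I) (φ : i ⟶ j), RepWith @IsClosedImmersion (D.map φ))
    (c : Cone D) (hc : IsLimit c)
    (hqc : ∀ i, IsQuasiCompactSp (D.obj i)) (hft : ∀ i, LocP @LocallyOfFiniteType (t.app i)) (i₁ : I)
    (hX : LocP @LocallyOfFinitePresentation (c.π.app i₁ ≫ t.app i₁)) :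
    ∃ i₀ : I, ∀ (i : I) (_ : i ⟶ i₀), IsIso (c.π.app i) := by
  classical
  have hci : ∀ ⦃X Y : Scheme.{u}⦄ (g : X ⟶ Y), IsClosedImmersion g → IsAffineHom g :=
    fun _ _ g hg => by haveI := hg; infer_instance
  have hDa : ∀ (i j : I) (φ : i ⟶ j), IsAffineMor (D.map φ) := fun i j φ =>
    Groth.Agent.H50.isAffineMor_of_repWith (Groth.Agent.H50.repWith_mono hci (hDc i j φ))
  -- a quasi-compact chart of `D_{i₁}` and an atlas of `B`
  obtain ⟨V₀, p₀, hp₀e, hp₀s, hV₀⟩ := hqc i₁
  haveI : CompactSpace ↥V₀.left := hV₀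
  obtain ⟨B₀, β, hβe, hβs⟩ := hB.atlas
  obtain ⟨ι, hιfin, T, cT, dT, hTaff, hcTe, hcomm, hcov⟩ :=
    Groth.Agent.H52.exists_finite_affine_refinement (p₀ ≫ t.app i₁) β hβe
      (Groth.Agent.H52.surjective_ofPt_of_surjective β hβs)
  -- the charts `p α : h_{T α} ⟶ D_{i₁}`
  let p : ∀ α, (yon S).obj (T α) ⟶ D.obj i₁ := fun α => (yon S).map (cT α) ≫ p₀
  have hpe : ∀ α, RepWith @Etale (p α) := fun α =>
    Groth.Agent.H52.repWith_yon_map_comp @Etale _ (hcTe α) p₀ hp₀e
  have hpsurj : ∀ x : Points (D.obj i₁), ∃ (α : ι) (w : ↥(T α).left), Points.ofPt (p α) w = x := by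
    intro x
    obtain ⟨v, rfl⟩ := Groth.Agent.H52.surjective_ofPt_of_surjective p₀ hp₀s x
    obtain ⟨α, w, hw⟩ := hcov v
    exact ⟨α, w, by rw [Groth.Agent.H52.ofPt_yon_map_comp, hw]⟩
  have hpt : ∀ α, p α ≫ t.app i₁ = (yon S).map (dT α) ≫ β := by
    intro α
    rw [Category.assoc]
    exact hcomm α
  -- for each chart, a stage where the projection becomes an isomorphism
  have key : ∀ α : ι, ∃ jα : Over i₁, ∀ (k : Over i₁) (_ : k ⟶ jα),
      ∃ (Wk : Over S) (bk : (yon S).obj Wk ⟶ D.obj k.left) (σ : (yon S).obj Wk ⟶ c.pt),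
        RepWith @Etale bk ∧ σ ≫ c.π.app k.left = bk ∧
        ∀ x : Points (D.obj k.left), (∃ w : ↥(T α).left,
          Points.ofPt (p α) w = Points.map (D.map k.hom) x) → ∃ w' : ↥Wk.left, Points.ofPt bk w' = x := by
    intro α
    obtain ⟨W', b, s, L, hL, a, sL, hsq, htr, hbig, hsqj, hbn, hsw, hsLs⟩ :=
      exists_chart_limit' D hDa c hc i₁ (T α) (p α)
    have hae : RepWith @Etale a := Groth.Agent.H50.repWith_fst_of_isPullback hbig (hpe α)
    -- `sL` is locally of finite presentation
    have h1 : LocallyOfFiniteType (dT α).left := hft i₁ (p α) β (dT α) (hpe α) hβe (hpt α)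
    have h2 : LocallyOfFinitePresentation (sL ≫ dT α).left := by
      apply hX a β (sL ≫ dT α) hae hβe
      rw [← Category.assoc, hbig.w, Category.assoc, hpt α, Functor.map_comp, Category.assoc]
    haveI h3 : LocallyOfFinitePresentation sL.left := by
      rw [Over.comp_left] at h2
      exact lfp_of_comp_lft sL.left (dT α).left h2
    -- closed immersions
    have hscl : ∀ j, IsClosedImmersion (s j).left := by
      intro j
      have hh : RepWith @IsClosedImmersion ((yon S).map (s j)) :=
        Groth.Agent.H50.repWith_snd_of_isPullback (hsq j) (hDc _ _ j.hom)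
      exact (repWith_yon_map_iff @IsClosedImmersion _).1 hh
    haveI : IsAffine (T α).left := hTaff α
    let tt : (W' ⋙ Over.forget S) ⟶ (Functor.const (Over i₁)).obj (T α).left :=
      { app := fun j => (s j).left
        naturality := fun j k f => by
          have := congrArg (fun m => m.left) (hsw j k f)
          simpa using this }
    have hfL : ∀ j, ((Over.forget S).mapCone L).π.app j ≫ tt.app j = sL.left := by
      intro j
      have := congrArg (fun m => m.left) (hsLs j)
      simpa using this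
    obtain ⟨jα, hjα⟩ := exists_isIso_π_of_lfp (W' ⋙ Over.forget S) (T α).left tt hscl
      ((Over.forget S).mapCone L) (isLimitOfPreserves _ hL) sL.left hfL h3
    refine ⟨jα, fun k φ => ?_⟩
    have hiso : IsIso (L.π.app k).left := hjα k φ
    haveI : IsIso ((Over.forget S).map (L.π.app k)) := hiso
    haveI : IsIso (L.π.app k) := isIso_of_reflects_iso _ (Over.forget S)
    refine ⟨W'.obj k, b k, (yon S).map (inv (L.π.app k)) ≫ a,
      Groth.Agent.H50.repWith_fst_of_isPullback (hsq k) (hpe α), ?_, ?_⟩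
    · rw [Category.assoc, (hsqj k).w, ← Category.assoc, ← Functor.map_comp, IsIso.inv_hom_id,
        CategoryTheory.Functor.map_id, Category.id_comp]
    · rintro x ⟨w, hw⟩
      have h1 : Points.map (D.map k.hom) x = Points.map (p α) (Points.ofScheme (T α) w) := by
        rw [← hw, Points.ofPt_eq_map_ofScheme]
      obtain ⟨z, hz1, hz2⟩ := Groth.Agent.H50.exists_point_of_isPullback (hsq k).flip _ x h1.symm
      obtain ⟨w', rfl⟩ := (Points.schemeEquiv (W'.obj k)).surjective z
      exact ⟨w', by rw [Points.ofPt_eq_map_ofScheme]; exact hz2⟩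
  choose jα hjα using key
  haveI : Fintype ι := Fintype.ofFinite ι
  obtain ⟨k₀, hk₀⟩ := IsCofiltered.inf_objs_exists (Finset.univ.image jα)
  have fk₀ : ∀ α, k₀ ⟶ jα α := fun α => (hk₀ (Finset.mem_image_of_mem _ (Finset.mem_univ α))).some
  refine ⟨k₀.left, fun i ψ => ?_⟩
  let k : Over i₁ := Over.mk (ψ ≫ k₀.hom)
  let φk : k ⟶ k₀ := Over.homMk ψ rfl
  choose Wk bk σ hbke hσ hsurjk using fun α => hjα α k (φk ≫ fk₀ α)
  have hDm : ∀ (i j : I) (φ : i ⟶ j), Mono (D.map φ) := fun i j φ =>
    Groth.Agent.H50.mono_of_repWith (fun _ _ g hg => by haveI := hg; infer_instance) (hDc i j φ)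
  have hmono : Mono (c.π.app i) := by
    constructor
    intro Z u v huv
    apply hc.hom_ext
    intro j
    have h1 : u ≫ c.π.app (IsCofiltered.min i j) = v ≫ c.π.app (IsCofiltered.min i j) := by
      haveI := hDm _ _ (IsCofiltered.minToLeft i j)
      rw [← cancel_mono (D.map (IsCofiltered.minToLeft i j)), Category.assoc, Category.assoc, c.w]
      exact huv
    rw [← c.w (IsCofiltered.minToRight i j), ← Category.assoc, h1, Category.assoc]
  have hepi : Epi (c.π.app i) := by
    apply epi_of_family_sections (c.π.app i) Wk bk hbke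
    · intro x
      obtain ⟨α, w, hw⟩ := hpsurj (Points.map (D.map k.hom) x)
      obtain ⟨w', hw'⟩ := hsurjk α x ⟨w, hw⟩
      exact ⟨α, w', hw'⟩
    · intro α
      exact ⟨σ α, hσ α⟩
  exact isIso_of_mono_of_epi _

end

end Groth.Agent.H94.AlgSpLimit9
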