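import Mathlib
import Groth.Prelude.Def_AlgSp4
import Groth.Agent.H94.AlgSpLimit9
import Groth.Agent.H52.QC
import Groth.Agent.H52.GlueDisjoint
import Groth.Agent.H52.DescCI
import Groth.Agent.H50.Kernel
import Groth.Agent.H50.Descent
set_option autoImplicit false
universe u
open CategoryTheory CategoryTheory.Limits AlgebraicGeometry
open AlgSp
namespace Groth.Agent.H94.AlgSpLimit10
open Groth.Agent.H94.AlgSpLimit Groth.Agent.H94.AlgSpLimit4 Groth.Agent.H94.AlgSpLimit6
open Groth.Agent.H94.AlgSpLimit9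

variable {S : Scheme.{u}}

/-- morphisms out of `h` of a disjoint union are determined by their restrictions to the summands. -/
theorem hom_ext_sigmaOver {A : Type u} (Zi : A → Over S) {F : Sp S}
    (u v : (yon S).obj (Groth.Agent.H52.sigmaOver Zi) ⟶ F)
    (h : ∀ α, (yon S).map (Groth.Agent.H52.sigmaOverι Zi α) ≫ u =
      (yon S).map (Groth.Agent.H52.sigmaOverι Zi α) ≫ v) : u = v := by
  apply Groth.Agent.H50.hom_ext_of_local u v (Groth.Agent.H52.sigmaOver_mem_J Zi)
  rintro T' f ⟨T'', g, _, ⟨α⟩, rfl⟩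
  rw [Functor.map_comp, Category.assoc, Category.assoc, h α]

/-- A quasi-compact sheaf over an algebraic space `B` has a single affine etale surjective chart lying over a chart
of `B`. -/
theorem exists_affine_chart_over {X B : Sp S} (hXqc : IsQuasiCompactSp X) (hB : IsAlgSpace B)
    (t : X ⟶ B) :
    ∃ (T B₀ : Over S) (p : (yon S).obj T ⟶ X) (β : (yon S).obj B₀ ⟶ B) (d : T ⟶ B₀),
      IsAffine T.left ∧ RepWith @Etale p ∧ RepWith @Surjective p ∧ RepWith @Etale β ∧
      p ≫ t = (yon S).map d ≫ β := by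
  obtain ⟨V₀, p₀, hp₀e, hp₀s, hV₀⟩ := hXqc
  haveI : CompactSpace ↥V₀.left := hV₀
  obtain ⟨B₀, β, hβe, hβs⟩ := hB.atlas
  obtain ⟨ι, hιfin, T, cT, dT, hTaff, hcTe, hcomm, hcov⟩ :=
    Groth.Agent.H52.exists_finite_affine_refinement (p₀ ≫ t) β hβe
      (Groth.Agent.H52.surjective_ofPt_of_surjective β hβs)
  haveI := hιfin
  haveI : ∀ α, IsAffine (T α).left := hTaff
  let σ : Over S := Groth.Agent.H52.sigmaOver T
  let cσ : σ ⟶ V₀ := Over.homMk (Sigma.desc fun α => (cT α).left) (by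
    apply Sigma.hom_ext
    intro α
    simp [σ, Groth.Agent.H52.sigmaOver])
  let dσ : σ ⟶ B₀ := Over.homMk (Sigma.desc fun α => (dT α).left) (by
    apply Sigma.hom_ext
    intro α
    simp [σ, Groth.Agent.H52.sigmaOver])
  have hιc : ∀ α, Groth.Agent.H52.sigmaOverι T α ≫ cσ = cT α := by
    intro α
    apply Over.OverMorphism.ext
    rw [Over.comp_left, Groth.Agent.H52.sigmaOverι_left]
    exact Sigma.ι_desc _ _
  have hιd : ∀ α, Groth.Agent.H52.sigmaOverι T α ≫ dσ = dT α := by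
    intro α
    apply Over.OverMorphism.ext
    rw [Over.comp_left, Groth.Agent.H52.sigmaOverι_left]
    exact Sigma.ι_desc _ _
  have hcσe : Etale cσ.left := by
    show Etale (Sigma.desc fun α => (cT α).left)
    exact IsZariskiLocalAtSource.sigmaDesc hcTe
  have hcσs : Surjective cσ.left := by
    refine ⟨fun v => ?_⟩
    obtain ⟨α, tα, hα⟩ := hcov v
    refine ⟨(Groth.Agent.H52.sigmaOverι T α).left tα, ?_⟩
    rw [← Scheme.Hom.comp_apply, ← Over.comp_left, hιc α]
    exact hα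
  refine ⟨σ, B₀, (yon S).map cσ ≫ p₀, β, dσ, ?_, ?_, ?_, hβe, ?_⟩
  · show IsAffine (∐ fun α => (T α).left)
    infer_instance
  · exact Groth.Agent.H52.repWith_yon_map_comp @Etale cσ hcσe p₀ hp₀e
  · exact Groth.Agent.H52.repWith_yon_map_comp @Surjective cσ hcσs p₀ hp₀s
  · apply hom_ext_sigmaOver T
    intro α
    rw [← Category.assoc, ← Category.assoc, ← Functor.map_comp, hιc α, ← Category.assoc,
      ← Functor.map_comp, hιd α]
    exact hcomm α


section Sch
variable {J : Type u} [SmallCategory J] [IsCofiltered J]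

/-- a closed subscheme of a cofiltered limit of affine schemes over an affine `V`, locally of finite type over `V`, is
eventually a closed subscheme of the terms of the system. -/
theorem exists_isClosedImmersion_comp_π (F : J ⥤ Scheme.{u}) [∀ j, IsAffine (F.obj j)]
    (V : Scheme.{u}) [IsAffine V] (t : F ⟶ (Functor.const J).obj V) (c : Cone F) (hc : IsLimit c)
    (Z : Scheme.{u}) (ν : Z ⟶ c.pt) [IsClosedImmersion ν] (f : c.pt ⟶ V)
    (hf : ∀ j, c.π.app j ≫ t.app j = f) (hlft : LocallyOfFiniteType (ν ≫ f)) :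
    ∃ j, ∀ (k : J) (_ : k ⟶ j), IsClosedImmersion (ν ≫ c.π.app k) := by
  classical
  haveI : IsAffine c.pt := Scheme.isAffine_of_isLimit c hc
  haveI : IsAffine Z := isAffine_of_isAffineHom ν
  have hνs : Function.Surjective ν.appTop := (IsClosedImmersion.isAffine_surjective_of_isAffine ν).2
  have hft : (ν ≫ f).appTop.hom.FiniteType :=
    (HasRingHomProperty.iff_of_isAffine (P := @LocallyOfFiniteType)).1 hlft
  letI alg : Algebra Γ(V, ⊤) Γ(Z, ⊤) := (ν ≫ f).appTop.hom.toAlgebra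
  obtain ⟨G, hG⟩ := (hft : Algebra.FiniteType Γ(V, ⊤) Γ(Z, ⊤)).out
  have hlift : ∀ g : Γ(Z, ⊤), ∃ (j : J) (a : Γ(F.obj j, ⊤)), (ν ≫ c.π.app j).appTop a = g := by
    intro g
    obtain ⟨s, hs⟩ := hνs g
    obtain ⟨j, a, ha⟩ := exists_appTop_π_eq_of_isAffine_of_isLimit F c hc s
    refine ⟨j, a, ?_⟩
    rw [Scheme.Hom.comp_appTop, CommRingCat.comp_apply, ha, hs]
  choose jg ag hag using hlift
  obtain ⟨j, hj⟩ := IsCofiltered.inf_objs_exists (G.image jg)
  refine ⟨j, fun k φ => ?_⟩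
  haveI : IsAffine (F.obj k) := inferInstance
  apply IsClosedImmersion.of_surjective_of_isAffine
  let Sub : Subalgebra Γ(V, ⊤) Γ(Z, ⊤) :=
    { (ν ≫ c.π.app k).appTop.hom.range with
      algebraMap_mem' := fun r => ⟨(t.app k).appTop r, by
        show (ν ≫ c.π.app k).appTop ((t.app k).appTop r) = (ν ≫ f).appTop r
        rw [← hf k, ← Category.assoc, Scheme.Hom.comp_appTop (ν ≫ c.π.app k) (t.app k),
          CommRingCat.comp_apply]⟩ }
  have hGsub : (G : Set Γ(Z, ⊤)) ⊆ Sub := by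
    intro g hg
    obtain ⟨ψ⟩ := hj (Finset.mem_image_of_mem jg (Finset.mem_coe.1 hg))
    refine ⟨(F.map (φ ≫ ψ)).appTop (ag g), ?_⟩
    show (ν ≫ c.π.app k).appTop ((F.map (φ ≫ ψ)).appTop (ag g)) = g
    have h1 : (ν ≫ c.π.app k).appTop ((F.map (φ ≫ ψ)).appTop (ag g)) =
        (ν ≫ c.π.app (jg g)).appTop (ag g) := by
      rw [← c.w (φ ≫ ψ), ← Category.assoc, Scheme.Hom.comp_appTop (ν ≫ c.π.app k) (F.map (φ ≫ ψ)),
        CommRingCat.comp_apply]
    rw [h1]
    exact hag g
  have hle : Algebra.adjoin Γ(V, ⊤) (G : Set Γ(Z, ⊤)) ≤ Sub := Algebra.adjoin_le hGsub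
  rw [hG] at hle
  intro z
  obtain ⟨a, ha⟩ := hle (Algebra.mem_top : z ∈ (⊤ : Subalgebra Γ(V, ⊤) Γ(Z, ⊤)))
  exact ⟨a, ha⟩

end Sch

section
variable {I : Type u} [SmallCategory I] [IsCofiltered I] (D : I ⥤ Sp S)

theorem eventually_closedImmersion (B : Sp S) (hB : IsAlgSpace B) (hD : ∀ i, IsAlgSpace (D.obj i))
    (t : D ⟶ (Functor.const I).obj B)
    (hDa : ∀ (i j : I) (φ : i ⟶ j), IsAffineMor (D.map φ))
    (c : Cone D) (hc : IsLimit c)
    (hqc : ∀ i, IsQuasiCompactSp (D.obj i))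
    (Y : Sp S) (y : Y ⟶ c.pt) (hy : RepWith @IsClosedImmersion y) (i₁ : I)
    (hYB : LocP @LocallyOfFiniteType (y ≫ c.π.app i₁ ≫ t.app i₁)) :
    ∃ i₀ : I, ∀ (i : I) (_ : i ⟶ i₀), RepWith @IsClosedImmersion (y ≫ c.π.app i) := by
  have hci : ∀ ⦃X Y : Scheme.{u}⦄ (g : X ⟶ Y), IsClosedImmersion g → IsAffineHom g :=
    fun _ _ g hg => by haveI := hg; infer_instance
  obtain ⟨T, B₀, p, β, d, hTaff, hpe, hps, hβe, hpt⟩ :=
    exists_affine_chart_over (hqc i₁) hB (t.app i₁)
  obtain ⟨W', b, s, L, hL, a, sL, hsq, htr, hbig, hsqj, hbn, hsw, hsLs⟩ :=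
    exists_chart_limit' D hDa c hc i₁ T p
  have hae : RepWith @Etale a := Groth.Agent.H50.repWith_fst_of_isPullback hbig hpe
  obtain ⟨Z, ν, fst, sqZ⟩ := hy.1 a
  have hν : IsClosedImmersion ν.left := hy.2 _ _ _ sqZ
  have hfste : RepWith @Etale fst := Groth.Agent.H50.repWith_fst_of_isPullback sqZ hae
  have h2 : LocallyOfFiniteType (ν ≫ sL ≫ d).left := by
    apply hYB fst β (ν ≫ sL ≫ d) hfste hβe
    rw [← Category.assoc, sqZ.w, Category.assoc, ← Category.assoc a, hbig.w, Category.assoc, hpt,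
      Functor.map_comp, Functor.map_comp, Category.assoc, Category.assoc]
  have h3 : LocallyOfFiniteType (ν.left ≫ sL.left) := by
    have h2' : LocallyOfFiniteType ((ν.left ≫ sL.left) ≫ d.left) := by
      rw [Category.assoc]; exact h2
    exact locallyOfFiniteType_of_comp (ν.left ≫ sL.left) d.left
  have hsaff : ∀ j, IsAffineHom (s j).left := by
    intro j
    have hh : RepWith @IsAffineHom ((yon S).map (s j)) :=
      Groth.Agent.H50.repWith_snd_of_isPullback (hsq j) (repWith_of_isAffineMor _ (hDa _ _ j.hom))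
    exact (repWith_yon_map_iff @IsAffineHom _).1 hh
  haveI : IsAffine T.left := hTaff
  haveI : ∀ j, IsAffine ((W' ⋙ Over.forget S).obj j) := fun j => by
    haveI := hsaff j
    exact (isAffine_of_isAffineHom (s j).left : IsAffine (W'.obj j).left)
  let tt : (W' ⋙ Over.forget S) ⟶ (Functor.const (Over i₁)).obj T.left :=
    { app := fun j => (s j).left
      naturality := fun j k f => by
        have := congrArg (fun m => m.left) (hsw j k f)
        simpa using this }
  have hfL : ∀ j, ((Over.forget S).mapCone L).π.app j ≫ tt.app j = sL.left := by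
    intro j
    have := congrArg (fun m => m.left) (hsLs j)
    simpa using this
  haveI : IsClosedImmersion (show Z.left ⟶ ((Over.forget S).mapCone L).pt from ν.left) := hν
  obtain ⟨jα, hjα⟩ := exists_isClosedImmersion_comp_π (W' ⋙ Over.forget S) T.left tt
    ((Over.forget S).mapCone L) (isLimitOfPreserves _ hL) Z.left ν.left sL.left hfL h3
  refine ⟨jα.left, fun i ψ => ?_⟩
  let k : Over i₁ := Over.mk (ψ ≫ jα.hom)
  let φk : k ⟶ jα := Over.homMk ψ rfl
  have hcl : IsClosedImmersion (ν ≫ L.π.app k).left := hjα k φk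
  have hrep : Representable (y ≫ c.π.app i) :=
    (repWith_of_isAffineMor _ (Groth.Agent.H50.isAffineMor_comp
      (Groth.Agent.H50.isAffineMor_of_repWith (Groth.Agent.H50.repWith_mono hci hy))
      (isAffineMor_π D hDa c hc i))).rep
  have sqk : IsPullback fst ((yon S).map ν ≫ (yon S).map (L.π.app k)) (y ≫ c.π.app i) (b k) :=
    sqZ.paste_vert (hsqj k)
  have hbke : RepWith @Etale (b k) := Groth.Agent.H50.repWith_fst_of_isPullback (hsq k) hpe
  have hbks : RepWith @Surjective (b k) := Groth.Agent.H50.repWith_fst_of_isPullback (hsq k) hps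
  refine Groth.Agent.H50.repWith_of_isPullback_atlas Groth.Agent.H52.isClosedImmersion_descendsAlong_fppf
    hrep hbke hbks sqk ?_
  rw [← Functor.map_comp]
  exact (repWith_yon_map_iff @IsClosedImmersion _).2 hcl

end

end Groth.Agent.H94.AlgSpLimit10
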