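import Mathlib
import Groth.Prelude.Def_AlgSp4
import Groth.Agent.H94.AlgSpLimit10
import Groth.Agent.H52.QCQS
import Groth.Agent.H52.FibProd
set_option autoImplicit false
universe u
open CategoryTheory CategoryTheory.Limits AlgebraicGeometry Topology
open AlgSp
namespace Groth.Agent.H94.AlgSpLimit11
open Groth.Agent.H94.AlgSpLimit Groth.Agent.H94.AlgSpLimit4 Groth.Agent.H94.AlgSpLimit6
open Groth.Agent.H94.AlgSpLimit9 Groth.Agent.H94.AlgSpLimit10

variable {S : Scheme.{u}}

section Sch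
variable {J : Type u} [SmallCategory J] [IsCofiltered J]

/-- a constructible subset of a term of a cofiltered system with affine transitions whose preimage in the limit is
empty has empty preimage at some stage. -/
theorem exists_preimage_eq_empty_of_isConstructible (F : J ⥤ Scheme.{u})
    [∀ {i j : J} (f : i ⟶ j), IsAffineHom (F.map f)] (c : Cone F) (hc : IsLimit c) {i : J}
    [CompactSpace ↥(F.obj i)] [QuasiSeparatedSpace ↥(F.obj i)] (C : Set ↥(F.obj i)) (hC : IsConstructible C) (h : c.π.app i ⁻¹' C = ∅) :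
    ∃ (j : J) (f : j ⟶ i), (F.map f) ⁻¹' C = ∅ := by
  revert h
  haveI : Nonempty (F.obj i).affineOpens := ⟨⟨⊥, isAffineOpen_bot _⟩⟩
  have hbasis : TopologicalSpace.IsTopologicalBasis
      (Set.range fun U : (F.obj i).affineOpens => (U.1 : Set ↥(F.obj i))) := by
    have := (F.obj i).isBasis_affineOpens
    rw [TopologicalSpace.Opens.IsBasis, Set.image_eq_range] at this
    exact this
  refine IsConstructible.induction_of_isTopologicalBasis
    (P := fun C _ => c.π.app i ⁻¹' C = ∅ → ∃ (j : J) (f : j ⟶ i), (F.map f) ⁻¹' C = ∅)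
    (fun U : (F.obj i).affineOpens => (U.1 : Set ↥(F.obj i))) hbasis (fun U => U.2.isCompact)
    ?_ ?_ C hC
  · intro U s hs h
    let W : (F.obj i).Opens := ⨆ V ∈ s, (V : (F.obj i).affineOpens).1
    have hW : (W : Set ↥(F.obj i)) = ⋃ V ∈ s, ((V : (F.obj i).affineOpens).1 : Set ↥(F.obj i)) := by
      simp [W]
    have H : c.π.app i ⁻¹ᵁ U.1 ≤ c.π.app i ⁻¹ᵁ W := by
      intro x hx
      by_contra hxW
      have : x ∈ c.π.app i ⁻¹' ((U.1 : Set ↥(F.obj i)) \ ⋃ V ∈ s, ((V : (F.obj i).affineOpens).1 : Set _)) := by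
        refine ⟨hx, ?_⟩
        rw [← hW]
        exact hxW
      rw [h] at this
      exact this
    obtain ⟨j, f, hjf⟩ := exists_map_preimage_le_map_preimage F c hc U.2.isCompact H
    refine ⟨j, f, ?_⟩
    ext x
    simp only [Set.mem_preimage, Set.mem_diff, Set.mem_empty_iff_false, iff_false, not_and, not_not]
    intro hx
    have := hjf hx
    rw [← hW]
    exact this
  · intro s hs t ht ihs iht h
    have h1 : c.π.app i ⁻¹' s = ∅ := by
      rw [Set.preimage_union, Set.union_empty_iff] at h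
      exact h.1
    have h2 : c.π.app i ⁻¹' t = ∅ := by
      rw [Set.preimage_union, Set.union_empty_iff] at h
      exact h.2
    obtain ⟨j₁, f₁, e₁⟩ := ihs h1
    obtain ⟨j₂, f₂, e₂⟩ := iht h2
    obtain ⟨k, g₁, g₂, e⟩ := IsCofiltered.cospan f₁ f₂
    refine ⟨k, g₁ ≫ f₁, ?_⟩
    rw [Set.preimage_union, Set.union_empty_iff]
    constructor
    · rw [Functor.map_comp, Scheme.Hom.comp_base, TopCat.coe_comp, Set.preimage_comp, e₁, Set.preimage_empty]
    · rw [e, Functor.map_comp, Scheme.Hom.comp_base, TopCat.coe_comp, Set.preimage_comp, e₂, Set.preimage_empty]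

end Sch

theorem ofPt_yon_map {V T : Over S} (ψ : V ⟶ T) (v : ↥V.left) :
    Points.ofPt ((yon S).map ψ) v = Points.ofScheme T (ψ.left v) := by
  rw [Points.ofPt_eq_map_ofScheme, Groth.Agent.H52.map_yon_map_ofScheme]

section
variable {I : Type u} [SmallCategory I] [IsCofiltered I] (D : I ⥤ Sp S)

theorem descend_surjective [QuasiSeparatedSpace ↥S]
    (hDa : ∀ (i j : I) (φ : i ⟶ j), IsAffineMor (D.map φ))
    (c : Cone D) (hc : IsLimit c) (i₀ : I)
    (X₀ Y₀ : Sp S) (hX₀ : IsAlgSpace X₀) (hY₀ : IsAlgSpace Y₀) (f₀ : X₀ ⟶ Y₀) (b₀ : Y₀ ⟶ D.obj i₀)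
    (hXqc : IsQuasiCompactSp X₀) (hYqc : IsQuasiCompactSp Y₀) (hYqs : IsQuasiSeparatedSp Y₀)
    (X Y : Sp S) (f : X ⟶ Y) (pY : Y ⟶ Y₀) (qY : Y ⟶ c.pt)
    (hY : IsPullback pY qY b₀ (c.π.app i₀)) (pX : X ⟶ X₀) (hX : IsPullback pX f f₀ pY)
    (hf : IsSurjectiveMor f) (hf₀ : LocP @LocallyOfFinitePresentation f₀) :
    ∃ (i : I) (φ : i ⟶ i₀), ∀ (Xi Yi : Sp S) (fi : Xi ⟶ Yi) (pYi : Yi ⟶ Y₀) (qYi : Yi ⟶ D.obj i)
      (_ : IsPullback pYi qYi b₀ (D.map φ)) (pXi : Xi ⟶ X₀) (_ : IsPullback pXi fi f₀ pYi),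
      IsSurjectiveMor fi := by
  -- affine chart of `Y₀`
  obtain ⟨V, _, pV, _, _, hVaff, hpVe, hpVs, -, -⟩ := exists_affine_chart_over hYqc hY₀ (𝟙 Y₀)
  haveI : IsAffine V.left := hVaff
  -- the base change of `X₀` to `V`
  have sqV : IsPullback (pullback.fst f₀ pV) (pullback.snd f₀ pV) f₀ pV := IsPullback.of_hasPullback _ _
  have hqcm : IsQuasiCompactMor f₀ := Groth.Agent.H52.isQuasiCompactMor_of_qc_qs hX₀ hY₀ f₀ hXqc hYqs
  have hXVqc : IsQuasiCompactSp (pullback f₀ pV) :=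
    hqcm (IsAlgSpace.yon_obj V) (Groth.Agent.H52.isQuasiCompactSp_yon V) pV _ _ sqV
  have hXVa : IsAlgSpace (pullback f₀ pV) :=
    Groth.Agent.H52.isAlgSpace_of_isPullback sqV hY₀.diag hX₀ (IsAlgSpace.yon_obj V)
  obtain ⟨U, _, p, _, _, hUaff, hpe, hps, -, -⟩ :=
    exists_affine_chart_over hXVqc hXVa (𝟙 (pullback f₀ pV))
  haveI : IsAffine U.left := hUaff
  let h : U ⟶ V := (yon S).preimage (p ≫ pullback.snd f₀ pV)
  have hh : (yon S).map h = p ≫ pullback.snd f₀ pV := Functor.map_preimage _ _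
  have hfste : RepWith @Etale (pullback.fst f₀ pV) := Groth.Agent.H50.repWith_fst_of_isPullback sqV hpVe
  have hae : RepWith @Etale (p ≫ pullback.fst f₀ pV) := by
    have := AlgSp.repWith_isMultiplicative (S := S) @Etale
    exact (RepWith @Etale).comp_mem _ _ hpe hfste
  haveI hlfp : LocallyOfFinitePresentation h.left :=
    hf₀ (p ≫ pullback.fst f₀ pV) pV h hae hpVe (by rw [Category.assoc, sqV.w, ← Category.assoc, hh])
  have hE : IsConstructible (Set.range h.left) := by
    have := h.left.isConstructible_image (s := Set.univ) IsConstructible.univ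
    rwa [Set.image_univ] at this
  -- membership in the image
  have hmemE : ∀ v : ↥V.left, (∃ x₀ : Points X₀, Points.map f₀ x₀ = Points.ofPt pV v) →
      v ∈ Set.range h.left := by
    rintro v ⟨x₀, hx₀⟩
    obtain ⟨z, -, hz2⟩ := Groth.Agent.H50.exists_point_of_isPullback sqV x₀ (Points.ofScheme V v)
      (by rw [hx₀, Points.ofPt_eq_map_ofScheme])
    obtain ⟨u, rfl⟩ := Groth.Agent.H52.surjective_ofPt_of_surjective p hps z
    rw [Points.map_ofPt, ← hh, ofPt_yon_map] at hz2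
    exact ⟨u, Groth.Agent.H52.ofScheme_injective _ hz2⟩
  have hEmem : ∀ v : ↥V.left, v ∈ Set.range h.left →
      ∃ x₀ : Points X₀, Points.map f₀ x₀ = Points.ofPt pV v := by
    rintro _ ⟨u, rfl⟩
    refine ⟨Points.ofPt (p ≫ pullback.fst f₀ pV) u, ?_⟩
    rw [Points.map_ofPt, Category.assoc, sqV.w, ← Category.assoc, ← hh,
      Groth.Agent.H52.ofPt_yon_map_comp]
  -- the system over `V`
  obtain ⟨W', b, s, L, hL, a, sL, hsq, htr, hbig, hsqj, hbn, hsw, hsLs⟩ :=
    exists_chart_limit' D hDa c hc i₀ V (pV ≫ b₀)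
  have hsaff : ∀ j, IsAffineHom (s j).left := by
    intro j
    have hh' : RepWith @IsAffineHom ((yon S).map (s j)) :=
      Groth.Agent.H50.repWith_snd_of_isPullback (hsq j) (repWith_of_isAffineMor _ (hDa _ _ j.hom))
    exact (repWith_yon_map_iff @IsAffineHom _).1 hh'
  -- the preimage of the complement of the image in the limit is empty
  have hLE : ∀ ℓ : ↥L.pt.left, sL.left ℓ ∈ Set.range h.left := by
    intro ℓ
    apply hmemE
    have heq : Points.map b₀ (Points.ofPt pV (sL.left ℓ)) =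
        Points.map (c.π.app i₀) (Points.ofPt a ℓ) := by
      rw [Points.map_ofPt, Points.map_ofPt, hbig.w, Groth.Agent.H52.ofPt_yon_map_comp]
    obtain ⟨y, hy1, -⟩ := Groth.Agent.H50.exists_point_of_isPullback hY _ _ heq
    obtain ⟨x, hx⟩ := hf y
    refine ⟨Points.map pX x, ?_⟩
    rw [← Points.map_comp, hX.w, Points.map_comp, hx, hy1]
  let j₀ : Over i₀ := Over.mk (𝟙 i₀)
  haveI : ∀ {j k : Over i₀} (f : j ⟶ k), IsAffineHom ((W' ⋙ Over.forget S).map f) :=
    fun {j k} f => htr j k f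
  haveI hWaff : IsAffine ((W' ⋙ Over.forget S).obj j₀) := by
    haveI := hsaff j₀
    exact (isAffine_of_isAffineHom (s j₀).left : IsAffine (W'.obj j₀).left)
  have hC : IsConstructible ((s j₀).left ⁻¹' (Set.range h.left)ᶜ) :=
    (s j₀).left.isConstructible_preimage hE.compl
  obtain ⟨k, fk, hk⟩ := exists_preimage_eq_empty_of_isConstructible (W' ⋙ Over.forget S)
    ((Over.forget S).mapCone L) (isLimitOfPreserves _ hL) (i := j₀)
    ((s j₀).left ⁻¹' (Set.range h.left)ᶜ) hC (by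
      ext ℓ
      simp only [Set.mem_preimage, Set.mem_compl_iff, Set.mem_empty_iff_false, iff_false, not_not]
      have h1 : (s j₀).left ((L.π.app j₀).left ℓ) = sL.left ℓ := by
        rw [← Scheme.Hom.comp_apply, ← Over.comp_left, hsLs j₀]
      show (s j₀).left ((L.π.app j₀).left ℓ) ∈ Set.range h.left
      rw [h1]
      exact hLE ℓ)
  have hkE : ∀ w : ↥(W'.obj k).left, (s k).left w ∈ Set.range h.left := by
    intro w
    by_contra hw
    have : w ∈ ((W' ⋙ Over.forget S).map fk) ⁻¹' ((s j₀).left ⁻¹' (Set.range h.left)ᶜ) := by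
      show (s j₀).left ((W'.map fk).left w) ∉ Set.range h.left
      rw [← Scheme.Hom.comp_apply, ← Over.comp_left, hsw k j₀ fk]
      exact hw
    rw [hk] at this
    exact this
  refine ⟨k.left, k.hom, ?_⟩
  intro Xi Yi fi pYi qYi hYi pXi hXi yi
  obtain ⟨v, hv⟩ := Groth.Agent.H52.surjective_ofPt_of_surjective pV hpVs (Points.map pYi yi)
  -- a point of `W'_k` over `v`
  have heq : Points.map (D.map k.hom) (Points.map qYi yi) =
      Points.map (pV ≫ b₀) (Points.ofScheme V v) := by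
    rw [← Points.map_comp, ← hYi.w, Points.map_comp, ← hv, Points.map_ofPt,
      ← Points.ofPt_eq_map_ofScheme]
  obtain ⟨z, -, hz2⟩ := Groth.Agent.H50.exists_point_of_isPullback (hsq k) _ _ heq
  obtain ⟨w, rfl⟩ := (Points.schemeEquiv (W'.obj k)).surjective z
  change Points.map _ (Points.ofScheme (W'.obj k) w) = _ at hz2
  rw [Groth.Agent.H52.map_yon_map_ofScheme] at hz2
  have hwv : (s k).left w = v := Groth.Agent.H52.ofScheme_injective _ hz2
  obtain ⟨x₀, hx₀⟩ := hEmem v (hwv ▸ hkE w)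
  obtain ⟨xi, -, hxi⟩ := Groth.Agent.H50.exists_point_of_isPullback hXi x₀ yi (by rw [hx₀, hv])
  exact ⟨xi, hxi⟩

end

end Groth.Agent.H94.AlgSpLimit11
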