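import Mathlib
import Groth.Prelude.Def_AlgSp4
import Groth.Agent.H94.AlgSpLimit11
import Groth.Agent.H52.LocPBC
import Groth.Agent.H52.EtLocalInst
import Groth.Agent.H50.Where2
import Groth.Agent.H50.Etale
set_option autoImplicit false
universe u
open CategoryTheory CategoryTheory.Limits AlgebraicGeometry Topology
open AlgSp
namespace Groth.Agent.H94.AlgSpLimit12
open Groth.Agent.H94.AlgSpLimit Groth.Agent.H94.AlgSpLimit3 Groth.Agent.H94.AlgSpLimit11
open Groth.Agent.H50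

variable {S : Scheme.{u}}

/-- a universally injective morphism of sheaves has a diagonal which is surjective on points. -/
theorem surjective_diagonal_of_isUnivInjectiveMor {X Y : Sp S} (f : X ⟶ Y)
    (hf : IsUnivInjectiveMor f) : Function.Surjective (Points.map (pullback.diagonal f)) := by
  intro w
  obtain ⟨K, _, str, q, rfl⟩ := exists_fieldPtOfHom w
  obtain ⟨x₁, hx₁⟩ : ∃ x₁, x₁ = q ≫ pullback.fst f f := ⟨_, rfl⟩
  obtain ⟨x₂, hx₂⟩ : ∃ x₂, x₂ = q ≫ pullback.snd f f := ⟨_, rfl⟩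
  have hx : x₁ ≫ f = x₂ ≫ f := by
    rw [hx₁, hx₂, Category.assoc, Category.assoc, pullback.condition]
  obtain ⟨y, hy⟩ : ∃ y, y = x₁ ≫ f := ⟨_, rfl⟩
  have sq := IsPullback.of_hasPullback f y
  have hinj := hf (IsAlgSpace.yon_obj (Over.mk str)) y (pullback.fst f y) (pullback.snd f y) sq
  obtain ⟨σ₁, hσ₁f, hσ₁s⟩ : ∃ σ₁ : (yon S).obj (Over.mk str) ⟶ pullback f y,
      σ₁ ≫ pullback.fst f y = x₁ ∧ σ₁ ≫ pullback.snd f y = 𝟙 _ :=
    ⟨pullback.lift x₁ (𝟙 _) (by rw [Category.id_comp, hy]), pullback.lift_fst _ _ _,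
      pullback.lift_snd _ _ _⟩
  obtain ⟨σ₂, hσ₂f, hσ₂s⟩ : ∃ σ₂ : (yon S).obj (Over.mk str) ⟶ pullback f y,
      σ₂ ≫ pullback.fst f y = x₂ ∧ σ₂ ≫ pullback.snd f y = 𝟙 _ :=
    ⟨pullback.lift x₂ (𝟙 _) (by rw [Category.id_comp, hy, hx]), pullback.lift_fst _ _ _,
      pullback.lift_snd _ _ _⟩
  have h12 : Points.mk (fieldPtOfHom str σ₁) = Points.mk (fieldPtOfHom str σ₂) := by
    apply hinj
    rw [points_map_mk_fieldPtOfHom, points_map_mk_fieldPtOfHom, hσ₁s, hσ₂s]
  rw [mk_eq_mk_iff_toHom] at h12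
  obtain ⟨Ω, _, w, (a : Over.mk w ⟶ Over.mk str), (b : Over.mk w ⟶ Over.mk str), hab⟩ := h12
  have hab2 : (yon S).map a ≫ σ₁ = (yon S).map b ≫ σ₂ := by
    rw [toHom_fieldPtOfHom, toHom_fieldPtOfHom] at hab
    exact hab
  have hab' : a = b := by
    apply (yon S).map_injective
    have := congrArg (fun m => m ≫ pullback.snd f y) hab2
    simp only [Category.assoc] at this
    rw [hσ₁s, hσ₂s, Category.comp_id, Category.comp_id] at this
    exact this
  subst hab'
  have hx12 : (yon S).map a ≫ x₁ = (yon S).map a ≫ x₂ := by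
    have := congrArg (fun m => m ≫ pullback.fst f y) hab2
    simp only [Category.assoc] at this
    rw [hσ₁f, hσ₂f] at this
    exact this
  refine ⟨Points.mk (fieldPtOfHom w ((yon S).map a ≫ x₁)), ?_⟩
  rw [points_map_mk_fieldPtOfHom]
  have : ((yon S).map a ≫ x₁) ≫ pullback.diagonal f = (yon S).map a ≫ q := by
    apply pullback.hom_ext
    · rw [Category.assoc, pullback.diagonal_fst, Category.comp_id, Category.assoc, hx₁]
    · rw [Category.assoc, pullback.diagonal_snd, Category.comp_id, hx12, Category.assoc, hx₂]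
  rw [this]
  exact mk_fieldPtOfHom_comp str w a q

/-- a morphism whose diagonal is surjective on points is universally injective. -/
theorem isUnivInjectiveMor_of_surjective_diagonal {X Y : Sp S} (f : X ⟶ Y)
    (h : Function.Surjective (Points.map (pullback.diagonal f))) : IsUnivInjectiveMor f := by
  intro Z Z' hZ g fst snd sq z₁ z₂ hz
  obtain ⟨Ω, _, w, a₁, a₂, ha, rfl, rfl⟩ := exists_common_field snd snd z₁ z₂ hz
  have hcond : (a₁ ≫ fst) ≫ f = (a₂ ≫ fst) ≫ f := by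
    rw [Category.assoc, Category.assoc, sq.w, ← Category.assoc, ← Category.assoc, ha]
  obtain ⟨ℓ, hℓ1, hℓ2⟩ : ∃ ℓ : (yon S).obj (Over.mk w) ⟶ pullback f f,
      ℓ ≫ pullback.fst f f = a₁ ≫ fst ∧ ℓ ≫ pullback.snd f f = a₂ ≫ fst :=
    ⟨pullback.lift (a₁ ≫ fst) (a₂ ≫ fst) hcond, pullback.lift_fst _ _ _, pullback.lift_snd _ _ _⟩
  obtain ⟨x', hx'⟩ := h (Points.mk (fieldPtOfHom w ℓ))
  obtain ⟨K', _, str', ξ, rfl⟩ := exists_fieldPtOfHom x'
  rw [points_map_mk_fieldPtOfHom, mk_eq_mk_iff_toHom] at hx'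
  obtain ⟨Ω', _, w', (β : Over.mk w' ⟶ Over.mk str'), (α : Over.mk w' ⟶ Over.mk w), hαβ⟩ := hx'
  have hαβ2 : (yon S).map β ≫ ξ ≫ pullback.diagonal f = (yon S).map α ≫ ℓ := by
    rw [toHom_fieldPtOfHom, toHom_fieldPtOfHom] at hαβ
    exact hαβ
  have h1 : (yon S).map α ≫ a₁ ≫ fst = (yon S).map α ≫ a₂ ≫ fst := by
    have e1 := congrArg (fun m => m ≫ pullback.fst f f) hαβ2
    have e2 := congrArg (fun m => m ≫ pullback.snd f f) hαβ2
    simp only [Category.assoc] at e1 e2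
    rw [pullback.diagonal_fst, hℓ1] at e1
    rw [pullback.diagonal_snd, hℓ2] at e2
    rw [← e1, ← e2]
  have h2 : (yon S).map α ≫ a₁ = (yon S).map α ≫ a₂ := by
    apply sq.hom_ext
    · rw [Category.assoc, Category.assoc, h1]
    · rw [Category.assoc, Category.assoc, ha]
  rw [← mk_fieldPtOfHom_comp w w' α a₁, ← mk_fieldPtOfHom_comp w w' α a₂, h2]

/-- base change of the double fibre product. -/
theorem isPullback_map_diag {X₀ Y₀ B₀ B X Y : Sp S} {f₀ : X₀ ⟶ Y₀} {b₀ : Y₀ ⟶ B₀} {β : B ⟶ B₀}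
    {f : X ⟶ Y} {pY : Y ⟶ Y₀} {qY : Y ⟶ B} (hY : IsPullback pY qY b₀ β) {pX : X ⟶ X₀}
    (hX : IsPullback pX f f₀ pY) :
    IsPullback (pullback.map f f f₀ f₀ pX pX pY hX.w.symm hX.w.symm) (pullback.fst f f ≫ f ≫ qY)
      (pullback.fst f₀ f₀ ≫ f₀ ≫ b₀) β := by
  apply isPullback_of_forall_yon
  · rw [← Category.assoc, pullback.lift_fst, Category.assoc, Category.assoc, Category.assoc,
      ← Category.assoc pX, hX.w, Category.assoc, hY.w]
  · intro T u v huv
    have hy₀ : (u ≫ pullback.fst f₀ f₀ ≫ f₀) ≫ b₀ = v ≫ β := by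
      rw [Category.assoc, Category.assoc]; exact huv
    let y : (yon S).obj T ⟶ Y := hY.lift (u ≫ pullback.fst f₀ f₀ ≫ f₀) v hy₀
    have hy1 : y ≫ pY = u ≫ pullback.fst f₀ f₀ ≫ f₀ := hY.lift_fst _ _ _
    have hy2 : y ≫ qY = v := hY.lift_snd _ _ _
    let x₁ : (yon S).obj T ⟶ X := hX.lift (u ≫ pullback.fst f₀ f₀) y (by rw [Category.assoc, hy1])
    let x₂ : (yon S).obj T ⟶ X := hX.lift (u ≫ pullback.snd f₀ f₀) y
      (by rw [Category.assoc, ← pullback.condition, hy1])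
    have hx₁1 : x₁ ≫ pX = u ≫ pullback.fst f₀ f₀ := hX.lift_fst _ _ _
    have hx₁2 : x₁ ≫ f = y := hX.lift_snd _ _ _
    have hx₂1 : x₂ ≫ pX = u ≫ pullback.snd f₀ f₀ := hX.lift_fst _ _ _
    have hx₂2 : x₂ ≫ f = y := hX.lift_snd _ _ _
    refine ⟨pullback.lift x₁ x₂ (by rw [hx₁2, hx₂2]), ⟨?_, ?_⟩, ?_⟩
    · apply pullback.hom_ext
      · rw [Category.assoc, pullback.lift_fst, ← Category.assoc, pullback.lift_fst, hx₁1]
      · rw [Category.assoc, pullback.lift_snd, ← Category.assoc, pullback.lift_snd, hx₂1]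
    · rw [← Category.assoc, pullback.lift_fst, ← Category.assoc, hx₁2, hy2]
    · rintro r ⟨hr1, hr2⟩
      have hm1 : pullback.map f f f₀ f₀ pX pX pY hX.w.symm hX.w.symm ≫ pullback.fst f₀ f₀ =
          pullback.fst f f ≫ pX := pullback.lift_fst _ _ _
      have hm2 : pullback.map f f f₀ f₀ pX pX pY hX.w.symm hX.w.symm ≫ pullback.snd f₀ f₀ =
          pullback.snd f f ≫ pX := pullback.lift_snd _ _ _
      have hu1 : u ≫ pullback.fst f₀ f₀ = (r ≫ pullback.fst f f) ≫ pX := by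
        rw [← hr1, Category.assoc, hm1, Category.assoc]
      have hu2 : u ≫ pullback.snd f₀ f₀ = (r ≫ pullback.snd f f) ≫ pX := by
        rw [← hr1, Category.assoc, hm2, Category.assoc]
      have e1 : (r ≫ pullback.fst f f) ≫ f = y := by
        apply hY.hom_ext
        · rw [hy1, ← Category.assoc u, hu1, Category.assoc, Category.assoc, Category.assoc,
            Category.assoc, hX.w]
        · rw [hy2, ← hr2, Category.assoc, Category.assoc]
      apply pullback.hom_ext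
      · rw [pullback.lift_fst]
        apply hX.hom_ext
        · rw [hx₁1, hu1]
        · rw [hx₁2, e1]
      · rw [pullback.lift_snd]
        apply hX.hom_ext
        · rw [hx₂1, hu2]
        · rw [hx₂2, Category.assoc, ← pullback.condition, ← Category.assoc, e1]

/-- base change of the diagonal. -/
theorem isPullback_diag_diag {X₀ Y₀ X Y : Sp S} {f₀ : X₀ ⟶ Y₀} {f : X ⟶ Y} {pY : Y ⟶ Y₀} {pX : X ⟶ X₀}
    (hX : IsPullback pX f f₀ pY) :
    IsPullback pX (pullback.diagonal f) (pullback.diagonal f₀)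
      (pullback.map f f f₀ f₀ pX pX pY hX.w.symm hX.w.symm) := by
  apply isPullback_of_forall_yon
  · apply pullback.hom_ext
    · rw [Category.assoc, pullback.diagonal_fst, Category.assoc, pullback.lift_fst, ← Category.assoc,
        pullback.diagonal_fst, Category.comp_id, Category.id_comp]
    · rw [Category.assoc, pullback.diagonal_snd, Category.assoc, pullback.lift_snd, ← Category.assoc,
        pullback.diagonal_snd, Category.comp_id, Category.id_comp]
  · intro T u v huv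
    have e1 : u = v ≫ pullback.fst f f ≫ pX := by
      have := congrArg (fun m => m ≫ pullback.fst f₀ f₀) huv
      simp only [Category.assoc] at this
      rw [pullback.diagonal_fst, Category.comp_id, pullback.lift_fst] at this
      exact this
    have e2 : u = v ≫ pullback.snd f f ≫ pX := by
      have := congrArg (fun m => m ≫ pullback.snd f₀ f₀) huv
      simp only [Category.assoc] at this
      rw [pullback.diagonal_snd, Category.comp_id, pullback.lift_snd] at this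
      exact this
    have e3 : v ≫ pullback.fst f f = v ≫ pullback.snd f f := by
      apply hX.hom_ext
      · rw [Category.assoc, Category.assoc, ← e1, ← e2]
      · rw [Category.assoc, Category.assoc, pullback.condition]
    refine ⟨v ≫ pullback.fst f f, ⟨?_, ?_⟩, ?_⟩
    · rw [Category.assoc, ← e1]
    · apply pullback.hom_ext
      · rw [Category.assoc, pullback.diagonal_fst, Category.comp_id]
      · rw [Category.assoc, pullback.diagonal_snd, Category.comp_id, e3]
    · rintro r ⟨-, hr2⟩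
      rw [← hr2, Category.assoc, pullback.diagonal_fst, Category.comp_id]

section
variable {I : Type u} [SmallCategory I] [IsCofiltered I] (D : I ⥤ Sp S)

theorem descend_univInjective [QuasiSeparatedSpace ↥S]
    (hDa : ∀ (i j : I) (φ : i ⟶ j), IsAffineMor (D.map φ))
    (c : Cone D) (hc : IsLimit c) (i₀ : I)
    (X₀ Y₀ : Sp S) (hX₀ : IsAlgSpace X₀) (hY₀ : IsAlgSpace Y₀) (f₀ : X₀ ⟶ Y₀) (b₀ : Y₀ ⟶ D.obj i₀)
    (hXqc : IsQuasiCompactSp X₀) (hXqs : IsQuasiSeparatedSp X₀) (hYqs : IsQuasiSeparatedSp Y₀)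
    (X Y : Sp S) (f : X ⟶ Y) (pY : Y ⟶ Y₀) (qY : Y ⟶ c.pt)
    (hY : IsPullback pY qY b₀ (c.π.app i₀)) (pX : X ⟶ X₀) (hX : IsPullback pX f f₀ pY)
    (hf : IsUnivInjectiveMor f) (hf₀ : LocP @LocallyOfFiniteType f₀) :
    ∃ (i : I) (φ : i ⟶ i₀), ∀ (Xi Yi : Sp S) (fi : Xi ⟶ Yi) (pYi : Yi ⟶ Y₀) (qYi : Yi ⟶ D.obj i)
      (_ : IsPullback pYi qYi b₀ (D.map φ)) (pXi : Xi ⟶ X₀) (_ : IsPullback pXi fi f₀ pYi),
      IsUnivInjectiveMor fi := by
  have sq₀ := IsPullback.of_hasPullback f₀ f₀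
  have hZ₀ : IsAlgSpace (pullback f₀ f₀) :=
    Groth.Agent.H52.isAlgSpace_of_isPullback sq₀ hY₀.diag hX₀ hX₀
  have hqcm : IsQuasiCompactMor f₀ := Groth.Agent.H52.isQuasiCompactMor_of_qc_qs hX₀ hY₀ f₀ hXqc hYqs
  have hZ₀qc : IsQuasiCompactSp (pullback f₀ f₀) := hqcm hX₀ hXqc f₀ _ _ sq₀
  have hZ₀qs : IsQuasiSeparatedSp (pullback f₀ f₀) :=
    Groth.Agent.H52.isQuasiSeparatedSp_of_isPullback sq₀ hXqs hXqs
  -- the diagonal is locally of finite presentation
  have hΔ : LocP @LocallyOfFinitePresentation (pullback.diagonal f₀) := by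
    have hfst : LocP @LocallyOfFiniteType (pullback.fst f₀ f₀) :=
      Groth.Agent.H52.locP_baseChange Groth.Agent.H52.etLocal_lft hX₀ hY₀ hX₀ sq₀.flip hf₀
    have hid : LocP @LocallyOfFinitePresentation (𝟙 X₀) := by
      haveI : MorphismProperty.IsMultiplicative (@LocallyOfFinitePresentation : MorphismProperty Scheme.{u}) :=
        Groth.Agent.H50.isMultiplicative_of_id (fun _ => inferInstance)
      have := AlgSp.repWith_isMultiplicative (S := S) @LocallyOfFinitePresentation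
      exact locP_of_repWith (fun _ _ g hg => by haveI := hg; infer_instance)
        ((RepWith @LocallyOfFinitePresentation).id_mem X₀)
    let X₀' : AlgSp.Space S := ⟨X₀, hX₀⟩
    let Z₀' : AlgSp.Space S := ⟨pullback f₀ f₀, hZ₀⟩
    let Δ' : X₀' ⟶ Z₀' := ObjectProperty.homMk (pullback.diagonal f₀)
    let q' : Z₀' ⟶ X₀' := ObjectProperty.homMk (pullback.fst f₀ f₀)
    have hcomp : (Δ' ≫ q').hom = 𝟙 X₀ := pullback.diagonal_fst f₀
    exact locP_lfp_of_comp Δ' q' (by rw [hcomp]; exact hid) hfst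
  obtain ⟨i, φ, hi⟩ := descend_surjective D hDa c hc i₀ X₀ (pullback f₀ f₀) hX₀ hZ₀
    (pullback.diagonal f₀) (pullback.fst f₀ f₀ ≫ f₀ ≫ b₀) hXqc hZ₀qc hZ₀qs X (pullback f f)
    (pullback.diagonal f) (pullback.map f f f₀ f₀ pX pX pY hX.w.symm hX.w.symm) (pullback.fst f f ≫ f ≫ qY)
    (isPullback_map_diag hY hX) pX (isPullback_diag_diag hX)
    (surjective_diagonal_of_isUnivInjectiveMor f hf) hΔ
  refine ⟨i, φ, ?_⟩
  intro Xi Yi fi pYi qYi hYi pXi hXi
  apply isUnivInjectiveMor_of_surjective_diagonal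
  exact hi Xi (pullback fi fi) (pullback.diagonal fi)
    (pullback.map fi fi f₀ f₀ pXi pXi pYi hXi.w.symm hXi.w.symm) (pullback.fst fi fi ≫ fi ≫ qYi)
    (isPullback_map_diag hYi hXi) pXi (isPullback_diag_diag hXi)

end

end Groth.Agent.H94.AlgSpLimit12
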