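import Mathlib
import Groth.Prelude.Def_AlgSp4
import Mathlib.AlgebraicGeometry.Morphisms.QuasiSeparated
import Groth.Agent.H94.AlgSpLimit9
import Groth.Agent.H52.LocPBC
import Groth.Agent.H52.EtLocalInst
import Groth.Agent.H52.QCQS
import Groth.Agent.H52.FibProd
import Groth.Agent.H50.Where2
import Groth.Agent.H50.Etale
import Groth.Agent.H51.AffineMor
set_option autoImplicit false
universe u
open CategoryTheory CategoryTheory.Limits AlgebraicGeometry Topology
open AlgSp
namespace Groth.Agent.H94.AlgSpLimit13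
open Groth.Agent.H50

variable {S : Scheme.{u}} {I : Type u} [SmallCategory I]

/-- the functor `i ↦ Y ×_{X_i} Y`. -/
noncomputable def Zf {D : I ⥤ Sp S} (c : Cone D) {Y : Sp S} (y : Y ⟶ c.pt) : I ⥤ Sp S where
  obj i := pullback (y ≫ c.π.app i) (y ≫ c.π.app i)
  map {i j} φ := pullback.map (y ≫ c.π.app i) (y ≫ c.π.app i) (y ≫ c.π.app j) (y ≫ c.π.app j)
    (𝟙 Y) (𝟙 Y) (D.map φ) (by rw [Category.id_comp, Category.assoc, c.w]) (by rw [Category.id_comp, Category.assoc, c.w])
  map_id i := by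
    apply pullback.hom_ext
    · rw [pullback.lift_fst, Category.id_comp, Category.comp_id]
    · rw [pullback.lift_snd, Category.id_comp, Category.comp_id]
  map_comp {i j k} φ ψ := by
    apply pullback.hom_ext
    · rw [pullback.lift_fst, Category.assoc, pullback.lift_fst, pullback.lift_fst_assoc]
      simp only [Category.comp_id]
    · rw [pullback.lift_snd, Category.assoc, pullback.lift_snd, pullback.lift_snd_assoc]
      simp only [Category.comp_id]

section
variable {D : I ⥤ Sp S} (c : Cone D) {Y : Sp S} (y : Y ⟶ c.pt)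

noncomputable def fstZ (i : I) : (Zf c y).obj i ⟶ Y := pullback.fst (y ≫ c.π.app i) (y ≫ c.π.app i)
noncomputable def sndZ (i : I) : (Zf c y).obj i ⟶ Y := pullback.snd (y ≫ c.π.app i) (y ≫ c.π.app i)
noncomputable def diagZ (i : I) : Y ⟶ (Zf c y).obj i := pullback.diagonal (y ≫ c.π.app i)

lemma condZ (i : I) : fstZ c y i ≫ y ≫ c.π.app i = sndZ c y i ≫ y ≫ c.π.app i := pullback.condition

lemma isPullbackZ (i : I) : IsPullback (fstZ c y i) (sndZ c y i) (y ≫ c.π.app i) (y ≫ c.π.app i) :=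
  IsPullback.of_hasPullback _ _

lemma hom_extZ {i : I} {W : Sp S} {a b : W ⟶ (Zf c y).obj i} (h₁ : a ≫ fstZ c y i = b ≫ fstZ c y i)
    (h₂ : a ≫ sndZ c y i = b ≫ sndZ c y i) : a = b := pullback.hom_ext h₁ h₂

@[reassoc]
lemma diagZ_fst (i : I) : diagZ c y i ≫ fstZ c y i = 𝟙 Y := pullback.diagonal_fst _
@[reassoc]
lemma diagZ_snd (i : I) : diagZ c y i ≫ sndZ c y i = 𝟙 Y := pullback.diagonal_snd _

@[reassoc]
lemma Zf_map_fst {i j : I} (φ : i ⟶ j) : (Zf c y).map φ ≫ fstZ c y j = fstZ c y i :=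
  (pullback.lift_fst _ _ _).trans (Category.comp_id _)

@[reassoc]
lemma Zf_map_snd {i j : I} (φ : i ⟶ j) : (Zf c y).map φ ≫ sndZ c y j = sndZ c y i :=
  (pullback.lift_snd _ _ _).trans (Category.comp_id _)

@[reassoc]
lemma coneZ_w {i j : I} (φ : i ⟶ j) : diagZ c y i ≫ (Zf c y).map φ = diagZ c y j := by
  apply hom_extZ
  · rw [Category.assoc, Zf_map_fst, diagZ_fst, diagZ_fst]
  · rw [Category.assoc, Zf_map_snd, diagZ_snd, diagZ_snd]

/-- the cone of diagonals. -/
noncomputable def coneZ : Cone (Zf c y) where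
  pt := Y
  π :=
    { app := fun i => diagZ c y i
      naturality := fun i j φ => (Category.id_comp _).trans (coneZ_w c y φ).symm }

lemma coneZ_app (i : I) : (coneZ c y).π.app i = diagZ c y i := rfl

/-- the cone of diagonals is a limit cone when `y` is a monomorphism. -/
noncomputable def isLimitConeZ [IsCofiltered I] (hc : IsLimit c) [Mono y] : IsLimit (coneZ c y) := by
  classical
  haveI : Nonempty I := IsCofiltered.nonempty
  let i₀ : I := Classical.arbitrary I
  have key : ∀ (s : Cone (Zf c y)) (i : I),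
      s.π.app i ≫ fstZ c y i = s.π.app i₀ ≫ fstZ c y i₀ ∧
      s.π.app i ≫ sndZ c y i = s.π.app i₀ ≫ fstZ c y i₀ := by
    intro s i
    have hfst : ∀ {a b : I} (φ : a ⟶ b), s.π.app a ≫ fstZ c y a = s.π.app b ≫ fstZ c y b := by
      intro a b φ
      rw [← s.w φ, Category.assoc, Zf_map_fst]
    have hsnd : ∀ {a b : I} (φ : a ⟶ b), s.π.app a ≫ sndZ c y a = s.π.app b ≫ sndZ c y b := by
      intro a b φ
      rw [← s.w φ, Category.assoc, Zf_map_snd]
    have hall : ∀ a : I, s.π.app a ≫ fstZ c y a = s.π.app i₀ ≫ fstZ c y i₀ := fun a =>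
      (hfst (IsCofiltered.minToLeft a i₀)).symm.trans (hfst (IsCofiltered.minToRight a i₀))
    have hall2 : ∀ a : I, s.π.app a ≫ sndZ c y a = s.π.app i₀ ≫ sndZ c y i₀ := fun a =>
      (hsnd (IsCofiltered.minToLeft a i₀)).symm.trans (hsnd (IsCofiltered.minToRight a i₀))
    have heq : s.π.app i₀ ≫ fstZ c y i₀ = s.π.app i₀ ≫ sndZ c y i₀ := by
      rw [← cancel_mono y]
      apply hc.hom_ext
      intro a
      have h1 := hall a
      have h2 := hall2 a
      calc ((s.π.app i₀ ≫ fstZ c y i₀) ≫ y) ≫ c.π.app a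
          = (s.π.app a ≫ fstZ c y a) ≫ y ≫ c.π.app a := by rw [h1, Category.assoc]
        _ = (s.π.app a ≫ sndZ c y a) ≫ y ≫ c.π.app a := by
            rw [Category.assoc, condZ, Category.assoc]
        _ = ((s.π.app i₀ ≫ sndZ c y i₀) ≫ y) ≫ c.π.app a := by
            rw [h2]; simp only [Category.assoc]
    exact ⟨hall i, (hall2 i).trans heq.symm⟩
  exact
    { lift := fun s => s.π.app i₀ ≫ fstZ c y i₀
      fac := fun s i => by
        show (s.π.app i₀ ≫ fstZ c y i₀) ≫ diagZ c y i = s.π.app i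
        apply hom_extZ
        · rw [Category.assoc, diagZ_fst, Category.comp_id, (key s i).1]
        · rw [Category.assoc, diagZ_snd, Category.comp_id, (key s i).2]
      uniq := fun s m hm => by
        obtain ⟨m', hm'⟩ : ∃ m' : s.pt ⟶ Y, m' = m := ⟨m, rfl⟩
        have h : m' ≫ diagZ c y i₀ = s.π.app i₀ := by rw [hm']; exact hm i₀
        have h3 : m' = s.π.app i₀ ≫ fstZ c y i₀ := by
          rw [← h, Category.assoc, diagZ_fst, Category.comp_id]
        rw [← hm']; exact h3 }

end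

/-- base change of the diagonal. -/
lemma repWith_map_of_diag {Y A A' : Sp S} (g : Y ⟶ A) (i : A ⟶ A') (g' : Y ⟶ A') (h : g ≫ i = g')
    (hi : RepWith @IsClosedImmersion (pullback.diagonal i)) :
    RepWith @IsClosedImmersion (pullback.map g g g' g' (𝟙 Y) (𝟙 Y) i
      (by rw [Category.id_comp, h]) (by rw [Category.id_comp, h])) := by
  subst h
  exact repWith_snd_of_isPullback (pullback_map_diagonal_isPullback g g i) hi

lemma repWith_Zf_map {D : I ⥤ Sp S} (c : Cone D) {Y : Sp S} (y : Y ⟶ c.pt) {i j : I} (φ : i ⟶ j)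
    (hi : RepWith @IsClosedImmersion (pullback.diagonal (D.map φ))) :
    RepWith @IsClosedImmersion ((Zf c y).map φ) :=
  repWith_map_of_diag (y ≫ c.π.app i) (D.map φ) (y ≫ c.π.app j)
    (by rw [Category.assoc, c.w]) hi

lemma locP_lfp_id (Y : Sp S) : LocP @LocallyOfFinitePresentation (𝟙 Y) := by
  intro U V a b h ha hb comm
  haveI : Etale h.left := etale_of_charts a b ha hb h (by rw [← comm, Category.comp_id])
  infer_instance

lemma locP_lft_of_comp {X Y Z : Sp S} (hZ : IsAlgSpace Z) (f : X ⟶ Y) (q : Y ⟶ Z)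
    (hp : LocP @LocallyOfFiniteType (f ≫ q)) : LocP @LocallyOfFiniteType f := by
  obtain ⟨T, c, hce, hcs⟩ := hZ.atlas
  exact Groth.Agent.H56.LciAlgSp.locP_of_comp_cancel (P := @LocallyOfFiniteType)
    (Q := fun _ _ _ => True)
    (fun A B C k l _ hkl => by
      haveI : LocallyOfFiniteType (k ≫ l) := hkl
      exact locallyOfFiniteType_of_comp k l)
    (fun A B C k l hl hk => by
      haveI : Etale l := hl
      haveI : LocallyOfFiniteType k := hk
      exact (inferInstance : LocallyOfFiniteType (k ≫ l)))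
    Groth.Agent.H52.srcLocal_lft f q c hce hcs (fun _ _ _ _ _ _ _ _ => trivial) hp

theorem main [IsCofiltered I] [QuasiSeparatedSpace S]
    (B : AlgSp.Space S) (D : I ⥤ AlgSp.Sp S) (hD : ∀ i, AlgSp.IsAlgSpace (D.obj i))
    (t : D ⟶ (Functor.const I).obj B.obj)
    (hDa : ∀ (i j : I) (φ : i ⟶ j), AlgSp.IsAffineMor (D.map φ))
    (c : Cone D) (hc : IsLimit c)
    (hqs : ∀ i, AlgSp.IsQuasiSeparatedSp (D.obj i))
    (Y : AlgSp.Space S) (hYqc : AlgSp.IsQuasiCompactSp Y.obj) (y : Y.obj ⟶ c.pt) [Mono y] (i₁ : I)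
    (hYB : AlgSp.LocP @LocallyOfFiniteType (y ≫ c.π.app i₁ ≫ t.app i₁)) :
    ∃ i₀ : I, ∀ (i : I) (_ : i ⟶ i₀), Mono (y ≫ c.π.app i) := by
  classical
  have hZ : ∀ i, IsAlgSpace ((Zf c y).obj i) := fun i =>
    Groth.Agent.H52.isAlgSpace_of_isPullback (isPullbackZ c y i) (hD i).diag Y.property Y.property
  have hsep : ∀ {i j : I} (φ : i ⟶ j), RepWith @IsClosedImmersion (pullback.diagonal (D.map φ)) := by
    intro i j φ
    exact Groth.Agent.H51.isSeparatedMor_of_isAffineMor (X := ⟨D.obj i, hD i⟩) (Y := ⟨D.obj j, hD j⟩)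
      (ObjectProperty.homMk (D.map φ)) (hDa i j φ)
  have hci : ∀ {i j : I} (φ : i ⟶ j), RepWith @IsClosedImmersion ((Zf c y).map φ) :=
    fun φ => repWith_Zf_map c y φ (hsep φ)
  have hqc : ∀ i, IsQuasiCompactSp ((Zf c y).obj i) := fun i =>
    Groth.Agent.H52.isQuasiCompactMor_of_qc_qs Y.property (hD i) (y ≫ c.π.app i) hYqc (hqs i)
      Y.property hYqc (y ≫ c.π.app i) (fstZ c y i) (sndZ c y i) (isPullbackZ c y i)
  -- the diagram over `Over i₁`
  let D' : Over i₁ ⥤ Sp S := Over.forget i₁ ⋙ Zf c y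
  let B' : Sp S := (Zf c y).obj i₁
  have htn : ∀ {k k' : Over i₁} (f : k ⟶ k'), D'.map f ≫ (Zf c y).map k'.hom = (Zf c y).map k.hom := by
    intro k k' f
    show (Zf c y).map f.left ≫ (Zf c y).map k'.hom = (Zf c y).map k.hom
    rw [← CategoryTheory.Functor.map_comp, Over.w]
  let t' : D' ⟶ (Functor.const (Over i₁)).obj B' :=
    { app := fun k => (Zf c y).map k.hom
      naturality := fun k k' f => (htn f).trans (Category.comp_id _).symm }
  let c' : Cone D' := (coneZ c y).whisker (Over.forget i₁)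
  have hc' : IsLimit c' :=
    (Functor.Initial.isLimitWhiskerEquiv (Over.forget i₁) (coneZ c y)).symm (isLimitConeZ c y hc)
  have hlft1 : LocP @LocallyOfFiniteType (y ≫ c.π.app i₁) :=
    locP_lft_of_comp B.property (y ≫ c.π.app i₁) (t.app i₁) (by rw [Category.assoc]; exact hYB)
  have hlft2 : LocP @LocallyOfFiniteType (sndZ c y i₁) :=
    Groth.Agent.H52.locP_baseChange Groth.Agent.H52.etLocal_lft Y.property (hD i₁) Y.property
      (isPullbackZ c y i₁) hlft1
  have hlfp : LocP @LocallyOfFinitePresentation (diagZ c y i₁) := by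
    have h1 := Groth.Agent.H50.locP_lfp_of_comp (X := Y) (Y := ⟨(Zf c y).obj i₁, hZ i₁⟩) (Z := Y)
      (ObjectProperty.homMk (diagZ c y i₁)) (ObjectProperty.homMk (sndZ c y i₁))
      (by
        show LocP @LocallyOfFinitePresentation (diagZ c y i₁ ≫ sndZ c y i₁)
        rw [diagZ_snd]
        exact locP_lfp_id _) hlft2
    exact h1
  obtain ⟨k₀, hk₀⟩ := Groth.Agent.H94.AlgSpLimit9.eventually_isIso (D := D') B' (hZ i₁)
    (fun k => hZ k.left) t' (fun k k' f => hci f.left) c' hc' (fun k => hqc k.left)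
    (fun k => Groth.Agent.H50.locP_of_repWith (P := @LocallyOfFiniteType)
      (fun _ _ g (hg : Etale g) => (inferInstance : LocallyOfFiniteType g))
      (repWith_mono (fun _ _ g (hg : IsClosedImmersion g) => (inferInstance : LocallyOfFiniteType g))
        (hci k.hom)))
    (Over.mk (𝟙 i₁))
    (by
      show LocP @LocallyOfFinitePresentation (diagZ c y i₁ ≫ (Zf c y).map (𝟙 i₁))
      rw [CategoryTheory.Functor.map_id, Category.comp_id]
      exact hlfp)
  refine ⟨k₀.left, fun i ψ => ?_⟩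
  have h := hk₀ (Over.mk (ψ ≫ k₀.hom)) (Over.homMk ψ rfl)
  have h' : IsIso (pullback.diagonal (y ≫ c.π.app i)) := h
  exact (pullback.isIso_diagonal_iff _).1 h'

end Groth.Agent.H94.AlgSpLimit13
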