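import Mathlib
import Groth.Prelude.Def_AlgSp4
import Groth.Prelude.Def_AlgSpDec
import Groth.Agent.H94.AlgSpLimit6
import Groth.Agent.H94.AlgSpLimit3
import Groth.Agent.H51.OpenIso
import Groth.Agent.H50.OpenSubChart
import Groth.Agent.H52.QC
set_option autoImplicit false
universe u
open CategoryTheory CategoryTheory.Limits AlgebraicGeometry
open AlgSp
namespace Groth.Agent.H94.AlgSpLimit7
open Groth.Agent.H94.AlgSpLimit Groth.Agent.H94.AlgSpLimit4 Groth.Agent.H94.AlgSpLimit6

variable {S : Scheme.{u}}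

section
variable {I : Type u} [SmallCategory I] [IsCofiltered I] (D : I ⥤ Sp S)

/-- a morphism from a scheme whose points all land in an open subspace factors through it. -/
theorem exists_factor_of_points_mem {U X : Sp S} (j : U ⟶ X) (hj : RepWith @IsOpenImmersion j)
    {T : Over S} (u : (yon S).obj T ⟶ X)
    (hpts : ∀ t : ↥T.left, Points.ofPt u t ∈ Set.range (Points.map j)) :
    ∃ r : (yon S).obj T ⟶ U, r ≫ j = u := by
  obtain ⟨T', ψ, fst, sq⟩ := hj.1 u
  have hψ : IsOpenImmersion ψ.left := hj.2 _ _ _ sq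
  have hsurj : Function.Surjective ψ.left := by
    intro t
    obtain ⟨z, hz⟩ := hpts t
    have h1 : Points.map j z = Points.map u (Points.ofScheme T t) := by
      rw [hz, Points.ofPt_eq_map_ofScheme]
    obtain ⟨w, hw1, hw2⟩ := Groth.Agent.H50.exists_point_of_isPullback sq z _ h1
    obtain ⟨t', rfl⟩ := (Points.schemeEquiv T').surjective w
    change Points.map _ (Points.ofScheme T' t') = _ at hw2
    rw [Groth.Agent.H52.map_yon_map_ofScheme] at hw2
    exact ⟨t', Groth.Agent.H52.ofScheme_injective _ hw2⟩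
  haveI : Surjective ψ.left := ⟨hsurj⟩
  haveI : IsIso ψ.left := (isIso_iff_isOpenImmersion_and_surjective _).2 ⟨hψ, inferInstance⟩
  haveI : IsIso ((Over.forget S).map ψ) := (inferInstance : IsIso ψ.left)
  haveI : IsIso ψ := isIso_of_reflects_iso ψ (Over.forget S)
  refine ⟨(yon S).map (inv ψ) ≫ fst, ?_⟩
  rw [Category.assoc, sq.w, ← Category.assoc, ← Functor.map_comp, IsIso.inv_hom_id, CategoryTheory.Functor.map_id,
    Category.id_comp]

theorem exists_qc_open_descends (hD : ∀ i, IsAlgSpace (D.obj i))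
    (hDa : ∀ (i j : I) (φ : i ⟶ j), IsAffineMor (D.map φ))
    (c : Cone D) (hc : IsLimit c)
    (U : Sp S) (j : U ⟶ c.pt) (hj : RepWith @IsOpenImmersion j) (hU : IsQuasiCompactSp U) :
    ∃ (i : I) (Ui : Sp S) (ji : Ui ⟶ D.obj i) (q : U ⟶ Ui),
      RepWith @IsOpenImmersion ji ∧ IsQuasiCompactSp Ui ∧ IsPullback j q (c.π.app i) ji := by
  classical
  have hX : IsAlgSpace c.pt := (main D hD hDa c hc).1
  have hUa : IsAlgSpace U := Groth.Agent.H50.isAlgSpace_of_representable hj.rep hX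
  haveI hmono : Mono j := Groth.Agent.H51.mono_of_repWith_isOpenImmersion hj
  have hWo : IsOpen (Set.range (Points.map j)) :=
    Groth.Agent.H51.isOpen_range_of_repWith_isOpenImmersion hUa hX j hj
  have hWc : IsCompact (Set.range (Points.map j)) := by
    haveI := Groth.Agent.H52.compactSpace_points_of_isQuasiCompactSp hU
    exact isCompact_range (Points.continuous_map j)
  obtain ⟨i₀⟩ := IsCofiltered.nonempty (C := I)
  obtain ⟨V₀, p₀, hp₀e, hp₀s⟩ := (hD i₀).atlas
  obtain ⟨W', b, s, L, hL, a, sL, hsq, htr, hbig, hsqj⟩ := exists_chart_limit D hDa c hc i₀ V₀ p₀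
  have hae : RepWith @Etale a := Groth.Agent.H50.repWith_fst_of_isPullback hbig hp₀e
  have has : RepWith @Surjective a := Groth.Agent.H50.repWith_fst_of_isPullback hbig hp₀s
  have hUo : IsOpen (Points.ofPt a ⁻¹' (Set.range (Points.map j))) :=
    (Points.isOpen_iff.1 hWo) L.pt a
  -- key formula
  have hG : ∀ (k : Over i₀) (O : Set ↥(W'.obj k).left),
      Points.map (c.π.app k.left) ⁻¹' (Points.ofPt (b k) '' O) =
        Points.ofPt a '' ((L.π.app k).left ⁻¹' O) := by
    intro k O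
    ext y
    constructor
    · rintro ⟨o, ho, hoy⟩
      have h1 : Points.map (c.π.app k.left) y = Points.map (b k) (Points.ofScheme (W'.obj k) o) := by
        rw [← Points.ofPt_eq_map_ofScheme, hoy]
      obtain ⟨z, hz1, hz2⟩ := Groth.Agent.H50.exists_point_of_isPullback (hsqj k) y _ h1
      obtain ⟨ℓ', rfl⟩ := (Points.schemeEquiv L.pt).surjective z
      change Points.map _ (Points.ofScheme L.pt ℓ') = _ at hz1
      change Points.map _ (Points.ofScheme L.pt ℓ') = _ at hz2
      rw [Groth.Agent.H52.map_yon_map_ofScheme] at hz2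
      have h2 : (L.π.app k).left ℓ' = o := Groth.Agent.H52.ofScheme_injective _ hz2
      refine ⟨ℓ', ?_, ?_⟩
      · show (L.π.app k).left ℓ' ∈ O
        rw [h2]
        exact ho
      · rw [Points.ofPt_eq_map_ofScheme]
        exact hz1
    · rintro ⟨ℓ, hℓ, rfl⟩
      refine ⟨(L.π.app k).left ℓ, hℓ, ?_⟩
      rw [Points.map_ofPt, (hsqj k).w, Groth.Agent.H52.ofPt_yon_map_comp]
  haveI : ∀ {j k : Over i₀} (f : j ⟶ k), IsAffineHom ((W' ⋙ Over.forget S).map f) :=
    fun {j k} f => htr j k f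
  haveI : IsConnected (Over i₀) := IsCofiltered.isConnected _
  have hbasis := isBasis_preimage_isAffineOpen (W' ⋙ Over.forget S) ((Over.forget S).mapCone L)
    (isLimitOfPreserves _ hL)
  -- index type of basic opens inside the preimage of `U`
  let ι : Type u := {p : Σ k : Over i₀, (W'.obj k).left.Opens //
    IsAffineOpen p.2 ∧ ((L.π.app p.1).left ⁻¹' (p.2.1 : Set ↥(W'.obj p.1).left)) ⊆
      Points.ofPt a ⁻¹' (Set.range (Points.map j))}
  let N : ι → Set (Points c.pt) := fun p =>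
    Points.ofPt a '' ((L.π.app p.1.1).left ⁻¹' (p.1.2.1 : Set ↥(W'.obj p.1.1).left))
  have hNo : ∀ p, IsOpen (N p) := fun p =>
    Groth.Agent.H52.isOpenMap_ofPt_of_etale a hae _
      (p.1.2.2.preimage (L.π.app p.1.1).left.continuous)
  have hNsub : ∀ p, N p ⊆ Set.range (Points.map j) := by
    rintro p _ ⟨ℓ, hℓ, rfl⟩
    exact p.2.2 hℓ
  have hcov : Set.range (Points.map j) ⊆ ⋃ p, N p := by
    intro x hx
    obtain ⟨ℓ, rfl⟩ := Groth.Agent.H52.surjective_ofPt_of_surjective a has x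
    obtain ⟨U', ⟨k, O, hO, rfl⟩, hℓU', hU'⟩ := TopologicalSpace.Opens.isBasis_iff_nbhd.mp hbasis
      (U := ⟨Points.ofPt a ⁻¹' (Set.range (Points.map j)), hUo⟩) (x := ℓ) hx
    exact Set.mem_iUnion.2 ⟨⟨⟨k, O⟩, hO, hU'⟩, ℓ, hℓU', rfl⟩
  obtain ⟨F, hF⟩ := hWc.elim_finite_subcover N hNo hcov
  obtain ⟨k, hk⟩ := IsCofiltered.inf_objs_exists (F.image (fun p : ι => p.1.1))
  have fk : ∀ p : ι, p ∈ F → (k ⟶ p.1.1) := fun p hp => (hk (Finset.mem_image_of_mem _ hp)).some
  -- the compact open of `W'_k`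
  let W₀ : (W'.obj k).left.Opens :=
    ⨆ p : F, (W'.map (fk p.1 p.2)).left ⁻¹ᵁ p.1.1.2
  have hW₀c : IsCompact (W₀ : Set ↥(W'.obj k).left) := by
    simp only [W₀, TopologicalSpace.Opens.iSup_mk, TopologicalSpace.Opens.carrier_eq_coe,
      TopologicalSpace.Opens.map_coe, TopologicalSpace.Opens.coe_mk]
    exact isCompact_iUnion fun p => by
      haveI := htr _ _ (fk p.1 p.2)
      exact ((p.1.2.1.preimage (W'.map (fk p.1 p.2)).left)).isCompact
  have hbe : RepWith @Etale (b k) := Groth.Agent.H50.repWith_fst_of_isPullback (hsq k) hp₀e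
  have hpre : Points.map (c.π.app k.left) ⁻¹' (Points.ofPt (b k) '' (W₀ : Set ↥(W'.obj k).left)) =
      Set.range (Points.map j) := by
    rw [hG]
    apply Set.Subset.antisymm
    · rintro _ ⟨ℓ, hℓ, rfl⟩
      have hℓ' : (L.π.app k).left ℓ ∈ W₀ := hℓ
      simp only [W₀, TopologicalSpace.Opens.mem_iSup] at hℓ'
      obtain ⟨p, hp⟩ := hℓ'
      apply hNsub p.1
      refine ⟨ℓ, ?_, rfl⟩
      have hw : (L.π.app k ≫ W'.map (fk p.1 p.2)).left ℓ = (L.π.app p.1.1.1).left ℓ := by
        rw [L.w]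
      rw [Over.comp_left, Scheme.Hom.comp_apply] at hw
      show (L.π.app p.1.1.1).left ℓ ∈ p.1.1.2
      rw [← hw]
      exact hp
    · intro x hx
      obtain ⟨p, hpF, hxp⟩ : ∃ p ∈ F, x ∈ N p := by
        have := hF hx
        simpa only [Set.mem_iUnion, exists_prop] using this
      obtain ⟨ℓ, hℓ, rfl⟩ := hxp
      refine ⟨ℓ, ?_, rfl⟩
      show (L.π.app k).left ℓ ∈ W₀
      simp only [W₀, TopologicalSpace.Opens.mem_iSup]
      refine ⟨⟨p, hpF⟩, ?_⟩
      have hw : (L.π.app k ≫ W'.map (fk p hpF)).left ℓ = (L.π.app p.1.1).left ℓ := by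
        rw [L.w]
      rw [Over.comp_left, Scheme.Hom.comp_apply] at hw
      show (W'.map (fk p hpF)).left ((L.π.app k).left ℓ) ∈ p.1.2
      rw [hw]
      exact hℓ
  have hO'o : IsOpen (Points.ofPt (b k) '' (W₀ : Set ↥(W'.obj k).left)) :=
    Groth.Agent.H52.isOpenMap_ofPt_of_etale (b k) hbe _ W₀.2
  obtain ⟨q, hq⟩ := Groth.Agent.H51.exists_factor_openSubι
    (Points.ofPt (b k) '' (W₀ : Set ↥(W'.obj k).left)) (j ≫ c.π.app k.left) (by
      rintro _ ⟨z, rfl⟩
      rw [Points.map_comp]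
      have : Points.map j z ∈ Points.map (c.π.app k.left) ⁻¹'
          (Points.ofPt (b k) '' (W₀ : Set ↥(W'.obj k).left)) := by
        rw [hpre]
        exact ⟨z, rfl⟩
      exact this)
  refine ⟨k.left, Groth.Agent.H50.openSub (D.obj k.left) (Points.ofPt (b k) '' (W₀ : Set ↥(W'.obj k).left)),
    Groth.Agent.H50.openSubι _ _, q, Groth.Agent.H50.repWith_isOpenImmersion_openSubι hO'o, ?_, ?_⟩
  · obtain ⟨a₁, -, ha₁e, ha₁s⟩ := Groth.Agent.H50.exists_chart_openSub (b k) hbe W₀
    refine ⟨_, a₁, ha₁e, ha₁s, ?_⟩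
    show CompactSpace ↥(W₀ : Scheme)
    exact isCompact_iff_compactSpace.mp hW₀c
  · apply Groth.Agent.H94.AlgSpLimit3.isPullback_of_forall_yon j q (c.π.app k.left)
      (Groth.Agent.H50.openSubι _ _) hq.symm
    intro T u v huv
    have hpts : ∀ t : ↥T.left, Points.ofPt u t ∈ Set.range (Points.map j) := by
      intro t
      rw [← hpre]
      show Points.map (c.π.app k.left) (Points.ofPt u t) ∈
        (Points.ofPt (b k) '' (W₀ : Set ↥(W'.obj k).left))
      rw [Points.map_ofPt, huv]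
      exact Groth.Agent.H50.ofPt_comp_openSubι_mem _ _ v t
    obtain ⟨r, hr⟩ := exists_factor_of_points_mem j hj u hpts
    refine ⟨r, ⟨hr, ?_⟩, ?_⟩
    · rw [← cancel_mono (Groth.Agent.H50.openSubι _ _), Category.assoc, hq, ← Category.assoc, hr, huv]
    · rintro r' ⟨hr1, -⟩
      rw [← cancel_mono j, hr1, hr]

end

end Groth.Agent.H94.AlgSpLimit7
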