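import Mathlib
import Groth.Prelude.Def_AlgSp4
import Mathlib.AlgebraicGeometry.Morphisms.QuasiSeparated
import Groth.Agent.H94.AlgSpLimit10
import Groth.Agent.H94.AlgSpLimit7
import Groth.Agent.H94.AlgSpLimit13
import Groth.Agent.H50.MonoPts
import Groth.Agent.H51.AffineMor
set_option autoImplicit false
universe u
open CategoryTheory CategoryTheory.Limits AlgebraicGeometry Topology
open AlgSp
namespace Groth.Agent.H94.AlgSpLimit14
open Groth.Agent.H50

variable {S : Scheme.{u}}

/-- the range of the base change of `y` to a scheme is the preimage of the range of `y`. -/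
theorem range_eq_preimage {X Y : Sp S} (y : Y ⟶ X) {T Z : Over S} (g : (yon S).obj T ⟶ X)
    (fst : (yon S).obj Z ⟶ Y) (ν : Z ⟶ T) (sq : IsPullback fst ((yon S).map ν) y g) :
    Set.range ν.left = Points.ofPt g ⁻¹' Set.range (Points.map y) := by
  ext t
  constructor
  · rintro ⟨z, rfl⟩
    refine ⟨Points.ofPt fst z, ?_⟩
    rw [Points.map_ofPt, sq.w, Groth.Agent.H52.ofPt_yon_map_comp]
  · rintro ⟨η, hη⟩
    rw [Points.ofPt_eq_map_ofScheme] at hη
    obtain ⟨z', -, hz2⟩ := exists_point_of_isPullback sq η (Points.ofScheme T t) hη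
    obtain ⟨z, rfl⟩ := (Points.schemeEquiv Z).surjective z'
    change Points.map _ (Points.ofScheme Z z) = _ at hz2
    rw [Groth.Agent.H52.map_yon_map_ofScheme] at hz2
    exact ⟨z, Groth.Agent.H52.ofScheme_injective T hz2⟩

/-- the preimage of the range of an immersion under an étale chart is locally closed, and the preimage of the
coborder is the coborder of the preimage. -/
theorem isOpen_preimage_coborder {X Y : Sp S} (y : Y ⟶ X) (hy : RepWith @IsImmersion y) {T : Over S}
    (a : (yon S).obj T ⟶ X) (ha : RepWith @Etale a) :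
    IsOpen (Points.ofPt a ⁻¹' coborder (Set.range (Points.map y))) := by
  obtain ⟨Z, ν, fst, sqZ⟩ := hy.1 a
  haveI hν : IsImmersion ν.left := hy.2 _ _ _ sqZ
  rw [← coborder_preimage (Groth.Agent.H52.isOpenMap_ofPt_of_etale a ha) (Points.continuous_ofPt a),
    ← range_eq_preimage y a fst ν sqZ]
  exact isLocallyClosed_iff_isOpen_coborder.1 ν.left.isLocallyClosed_range

theorem isOpen_coborder_range {X Y : Sp S} (hX : IsAlgSpace X) (y : Y ⟶ X) (hy : RepWith @IsImmersion y) :
    IsOpen (coborder (Set.range (Points.map y))) := by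
  obtain ⟨V, p, hpe, hps⟩ := hX.atlas
  have hsurj := Groth.Agent.H52.surjective_ofPt_of_surjective p hps
  rw [← Set.image_preimage_eq (coborder (Set.range (Points.map y))) hsurj]
  exact Groth.Agent.H52.isOpenMap_ofPt_of_etale p hpe _ (isOpen_preimage_coborder y hy p hpe)

/-- a quasi-compact immersion into an algebraic space factors as a closed immersion into a quasi-compact open
subspace. -/
theorem exists_qc_open_factor {X Y : Sp S} (hX : IsAlgSpace X) (hYqc : IsQuasiCompactSp Y) (y : Y ⟶ X)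
    (hy : RepWith @IsImmersion y) :
    ∃ (U : Sp S) (j : U ⟶ X) (y' : Y ⟶ U), RepWith @IsOpenImmersion j ∧ IsQuasiCompactSp U ∧
      RepWith @IsClosedImmersion y' ∧ y' ≫ j = y := by
  classical
  obtain ⟨A, hA⟩ : ∃ A, A = Set.range (Points.map y) := ⟨_, rfl⟩
  have hW₀ : IsOpen (coborder A) := by rw [hA]; exact isOpen_coborder_range hX y hy
  have hAc : IsCompact A := by
    haveI := Groth.Agent.H52.compactSpace_points_of_isQuasiCompactSp hYqc
    rw [hA]
    exact isCompact_range (Points.continuous_map y)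
  obtain ⟨V, p, hpe, hps⟩ := hX.atlas
  have hsurj := Groth.Agent.H52.surjective_ofPt_of_surjective p hps
  -- local affine charts inside the coborder
  have hloc : ∀ x ∈ A, ∃ (T : Over S) (a : (yon S).obj T ⟶ X), IsAffine T.left ∧ RepWith @Etale a ∧
      x ∈ Set.range (Points.ofPt a) ∧ Set.range (Points.ofPt a) ⊆ coborder A := by
    intro x hx
    obtain ⟨v, rfl⟩ := hsurj x
    have hO : IsOpen (Points.ofPt p ⁻¹' coborder A) := (Points.continuous_ofPt p).isOpen_preimage _ hW₀
    have hv : v ∈ Points.ofPt p ⁻¹' coborder A := subset_coborder hx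
    obtain ⟨_, ⟨T₀, hT₀, rfl⟩, hvT, hTO⟩ :=
      (V.left.isBasis_affineOpens).exists_subset_of_mem_open hv hO
    let T : Over S := Over.mk (Scheme.Opens.ι T₀ ≫ V.hom)
    let ψ : T ⟶ V := Over.homMk (Scheme.Opens.ι T₀) rfl
    refine ⟨T, (yon S).map ψ ≫ p, hT₀, ?_, ?_, ?_⟩
    · exact Groth.Agent.H52.repWith_yon_map_comp @Etale ψ
        (show Etale (Scheme.Opens.ι T₀) from inferInstance) p hpe
    · refine ⟨⟨v, hvT⟩, ?_⟩
      rw [Groth.Agent.H52.ofPt_yon_map_comp]
      rfl
    · rintro _ ⟨τ, rfl⟩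
      rw [Groth.Agent.H52.ofPt_yon_map_comp]
      exact hTO τ.2
  choose T a hTaff hae hxa hsub using hloc
  obtain ⟨t, ht⟩ := hAc.elim_finite_subcover (fun x : A => Set.range (Points.ofPt (a x.1 x.2)))
    (fun x => (Groth.Agent.H52.isOpenMap_ofPt_of_etale _ (hae x.1 x.2)).isOpen_range)
    (fun x hx => Set.mem_iUnion.2 ⟨⟨x, hx⟩, hxa x hx⟩)
  obtain ⟨W', hW'⟩ : ∃ W', W' = ⋃ x ∈ t, Set.range (Points.ofPt (a x.1 x.2)) := ⟨_, rfl⟩
  have hW'o : IsOpen W' := by
    rw [hW']
    exact isOpen_biUnion fun x _ =>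
      (Groth.Agent.H52.isOpenMap_ofPt_of_etale _ (hae x.1 x.2)).isOpen_range
  have hAW' : A ⊆ W' := by rw [hW']; exact ht
  have hW'sub : W' ⊆ coborder A := by
    rw [hW']
    exact Set.iUnion₂_subset fun x _ => hsub x.1 x.2
  have hj := repWith_isOpenImmersion_openSubι (X := X) hW'o
  haveI hmono : Mono (openSubι X W') := Groth.Agent.H51.mono_of_repWith_isOpenImmersion hj
  have hU : IsAlgSpace (openSub X W') := isAlgSpace_openSub hW'o hX
  obtain ⟨y', hy'⟩ := Groth.Agent.H51.exists_factor_openSubι W' y (by rw [← hA]; exact hAW')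
  refine ⟨openSub X W', openSubι X W', y', hj, ?_, ?_, hy'⟩
  · -- quasi-compactness
    have hq : ∀ x : t, ∃ q : (yon S).obj (T x.1.1 x.1.2) ⟶ openSub X W',
        q ≫ openSubι X W' = a x.1.1 x.1.2 := by
      intro x
      refine (factors_openSubι_iff X W' _).2 fun τ => ?_
      rw [hW']
      exact Set.mem_iUnion₂.2 ⟨x.1, x.2, ⟨τ, rfl⟩⟩
    choose q hq using hq
    refine Groth.Agent.H52.isQuasiCompactSp_of_finite_cover (ι := t) hU
      (fun x => (yon S).obj (T x.1.1 x.1.2)) q (fun x => ?_) (fun z => ?_)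
    · haveI : IsAffine (T x.1.1 x.1.2).left := hTaff x.1.1 x.1.2
      exact Groth.Agent.H52.isQuasiCompactSp_yon _
    · have hz := hW'.subset (Groth.Agent.H51.map_openSubι_mem X W' z)
      obtain ⟨x, hxt, τ, hτ⟩ := Set.mem_iUnion₂.1 hz
      refine ⟨⟨x, hxt⟩, Points.ofScheme _ τ, ?_⟩
      apply injective_map_of_mono (openSubι X W')
      rw [← hτ, ← Points.map_comp, hq ⟨x, hxt⟩, ← Points.ofPt_eq_map_ofScheme]
  · -- closed immersion
    have himm : RepWith @IsImmersion y' := repWith_of_comp_mono y' (openSubι X W') (by rw [hy']; exact hy)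
    refine ⟨himm.1, fun T' Z' g fst ν sq => ?_⟩
    haveI hν : IsImmersion ν.left := himm.2 g fst ν sq
    show IsClosedImmersion ν.left
    apply IsClosedImmersion.of_isPreimmersion
    have sq' : IsPullback fst ((yon S).map ν) y (g ≫ openSubι X W') := by
      rw [← hy']
      have h1 : IsPullback (𝟙 Y) y' (y' ≫ openSubι X W') (openSubι X W') :=
        IsPullback.of_horiz_isIso_mono ⟨by simp⟩
      have h2 := sq.paste_horiz h1
      rwa [Category.comp_id] at h2
    rw [range_eq_preimage y _ fst ν sq', ← hA]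
    have hcl : Points.ofPt (g ≫ openSubι X W') ⁻¹' A = Points.ofPt (g ≫ openSubι X W') ⁻¹' closure A := by
      ext τ
      constructor
      · intro h
        exact subset_closure h
      · intro h
        have h3 : Points.ofPt (g ≫ openSubι X W') τ ∈ coborder A := by
          apply hW'sub
          rw [← Points.map_ofPt]
          exact Groth.Agent.H51.map_openSubι_mem X W' _
        have h4 : Points.ofPt (g ≫ openSubι X W') τ ∈ A := by
          rw [← closure_inter_coborder (s := A)]
          exact ⟨h, h3⟩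
        exact h4
    rw [hcl]
    exact isClosed_closure.preimage (Points.continuous_ofPt _)

section
variable {I : Type u} [SmallCategory I] [IsCofiltered I]
open Groth.Agent.H94.AlgSpLimit

theorem isPullback_lift_aux {C : Type*} [Category C] [HasPullbacks C] {A A' Z G : C} (f : A ⟶ Z)
    (f' : A' ⟶ Z) (h : A ⟶ A') (hf : h ≫ f' = f) (g : G ⟶ Z) :
    IsPullback (pullback.fst f g)
      (pullback.lift (pullback.fst f g ≫ h) (pullback.snd f g)
        (by rw [Category.assoc, hf, pullback.condition]))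
      h (pullback.fst f' g) := by
  subst hf
  have t := (IsPullback.of_hasPullback f' g).flip
  have s0 : IsPullback (pullback.lift (pullback.fst (h ≫ f') g ≫ h) (pullback.snd (h ≫ f') g)
      (by rw [Category.assoc, pullback.condition]) ≫ pullback.snd f' g) (pullback.fst (h ≫ f') g) g
      (h ≫ f') := by
    rw [pullback.lift_snd]
    exact (IsPullback.of_hasPullback (h ≫ f') g).flip
  exact (IsPullback.of_right s0 (pullback.lift_fst _ _ _) t).flip

/-- the transition maps of the base-changed system are base changes of the transition maps. -/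
theorem isPullback_Emap (D : I ⥤ Sp S) {i : I} {G : Sp S} (g : G ⟶ D.obj i) {k k' : Over i} (a : k ⟶ k') :
    IsPullback (pullback.fst (D.map k.hom) g) (Emap D g a) (D.map a.left)
      (pullback.fst (D.map k'.hom) g) :=
  isPullback_lift_aux (D.map k.hom) (D.map k'.hom) (D.map a.left) (by rw [← D.map_comp, Over.w]) g

theorem main [QuasiSeparatedSpace S]
    (B : AlgSp.Space S) (D : I ⥤ AlgSp.Sp S) (hD : ∀ i, AlgSp.IsAlgSpace (D.obj i))
    (t : D ⟶ (Functor.const I).obj B.obj)
    (hDa : ∀ (i j : I) (φ : i ⟶ j), AlgSp.IsAffineMor (D.map φ))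
    (c : Cone D) (hc : IsLimit c)
    (Y : AlgSp.Space S) (hYqc : AlgSp.IsQuasiCompactSp Y.obj) (y : Y.obj ⟶ c.pt)
    (hy : AlgSp.RepWith @IsImmersion y) (i₁ : I)
    (hYB : AlgSp.LocP @LocallyOfFiniteType (y ≫ c.π.app i₁ ≫ t.app i₁)) :
    ∃ i₀ : I, ∀ (i : I) (_ : i ⟶ i₀), AlgSp.RepWith @IsImmersion (y ≫ c.π.app i) := by
  classical
  have hX : IsAlgSpace c.pt := (Groth.Agent.H94.AlgSpLimit.main D hD hDa c hc).1
  obtain ⟨U, j, y', hj, hUqc, hy'c, hy'j⟩ := exists_qc_open_factor hX hYqc y hy
  obtain ⟨i, Ui, ji, q, hji, hUiqc, sqU⟩ :=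
    Groth.Agent.H94.AlgSpLimit7.exists_qc_open_descends D hD hDa c hc U j hj hUqc
  have hUi : IsAlgSpace Ui := Groth.Agent.H50.isAlgSpace_of_representable hji.rep (hD i)
  -- the base-changed system
  have hE : ∀ k, IsAlgSpace ((E D ji).obj k) := fun k =>
    Groth.Agent.H52.isAlgSpace_of_isPullback (IsPullback.of_hasPullback (D.map k.hom) ji) (hD i).diag
      (hD k.left) hUi
  have hEa : ∀ (k k' : Over i) (a : k ⟶ k'), IsAffineMor ((E D ji).map a) := fun k k' a =>
    isAffineMor_snd_of_isPullback (isPullback_Emap D ji a) (hDa _ _ a.left)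
  have hEqc : ∀ k, IsQuasiCompactSp ((E D ji).obj k) := by
    intro k
    have h1 : IsAffineMor (pullback.snd (D.map k.hom) ji) :=
      isAffineMor_snd_of_isPullback (IsPullback.of_hasPullback (D.map k.hom) ji) (hDa _ _ k.hom)
    have h2 := Groth.Agent.H51.isQuasiCompactMor_of_isAffineMor (X := ⟨(E D ji).obj k, hE k⟩)
      (Y := ⟨Ui, hUi⟩) (ObjectProperty.homMk (pullback.snd (D.map k.hom) ji)) h1
    exact h2 hUi hUiqc (𝟙 Ui) (𝟙 _) (pullback.snd (D.map k.hom) ji) (IsPullback.id_horiz _)
  have htn : ∀ {k k' : Over i} (a : k ⟶ k'),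
      Emap D ji a ≫ pullback.fst (D.map k'.hom) ji ≫ t.app k'.left =
        pullback.fst (D.map k.hom) ji ≫ t.app k.left := by
    intro k k' a
    have h1 : D.map a.left ≫ t.app k'.left = t.app k.left :=
      (t.naturality a.left).trans (Category.comp_id _)
    rw [← Category.assoc, Emap_fst, Category.assoc, h1]
  let t' : E D ji ⟶ (Functor.const (Over i)).obj B.obj :=
    { app := fun k => pullback.fst (D.map k.hom) ji ≫ t.app k.left
      naturality := fun k k' a => (htn a).trans (Category.comp_id _).symm }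
  -- the closed immersion into the limit
  let e : U ≅ pullback (c.π.app i) ji := sqU.isoPullback
  have he1 : e.hom ≫ pullback.fst (c.π.app i) ji = j := sqU.isoPullback_hom_fst
  obtain ⟨y'', hy''⟩ : ∃ y'' : Y.obj ⟶ pullback (c.π.app i) ji, y'' = y' ≫ e.hom := ⟨_, rfl⟩
  have hy''c : RepWith @IsClosedImmersion y'' := by
    haveI := AlgSp.repWith_isMultiplicative (S := S) @IsClosedImmersion
    rw [hy'']
    exact (RepWith @IsClosedImmersion).comp_mem _ _ hy'c (MorphismProperty.of_isIso _ e.hom)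
  have hy''π : ∀ k : Over i, y'' ≫ PEleg D ji c k ≫ pullback.fst (D.map k.hom) ji =
      y ≫ c.π.app k.left := by
    intro k
    rw [PEleg_fst, hy'', Category.assoc, ← Category.assoc e.hom, he1, ← Category.assoc, hy'j]
  -- an index over both `i` and `i₁`
  let k₁ : Over i := Over.mk (IsCofiltered.minToLeft i i₁)
  have hYB' : LocP @LocallyOfFiniteType
      (y'' ≫ PEleg D ji c k₁ ≫ pullback.fst (D.map k₁.hom) ji ≫ t.app k₁.left) := by
    have h1 : y'' ≫ PEleg D ji c k₁ ≫ pullback.fst (D.map k₁.hom) ji ≫ t.app k₁.left =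
        y ≫ c.π.app i₁ ≫ t.app i₁ := by
      have h2 := hy''π k₁
      have h3 : D.map (IsCofiltered.minToRight i i₁) ≫ t.app i₁ = t.app (IsCofiltered.min i i₁) :=
        (t.naturality (IsCofiltered.minToRight i i₁)).trans (Category.comp_id _)
      have h4 := c.w (IsCofiltered.minToRight i i₁)
      calc y'' ≫ PEleg D ji c k₁ ≫ pullback.fst (D.map k₁.hom) ji ≫ t.app k₁.left
          = (y'' ≫ PEleg D ji c k₁ ≫ pullback.fst (D.map k₁.hom) ji) ≫ t.app k₁.left := by
            simp only [Category.assoc]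
        _ = (y ≫ c.π.app k₁.left) ≫ t.app k₁.left := by rw [h2]
        _ = y ≫ c.π.app i₁ ≫ t.app i₁ := by
            rw [← h4, Category.assoc, Category.assoc, h3]
            rfl
    rw [h1]
    exact hYB
  obtain ⟨k₀, hk₀⟩ := Groth.Agent.H94.AlgSpLimit10.eventually_closedImmersion (E D ji) B.obj B.property
    hE t' hEa (PE D ji c) (isLimitPE D ji c hc) hEqc Y.obj y'' hy''c k₁ hYB'
  refine ⟨k₀.left, fun i' ψ => ?_⟩
  let k : Over i := Over.mk (ψ ≫ k₀.hom)
  have h1 := hk₀ k (Over.homMk ψ rfl)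
  have h2 : RepWith @IsOpenImmersion (pullback.fst (D.map k.hom) ji) :=
    repWith_fst_of_isPullback (IsPullback.of_hasPullback (D.map k.hom) ji) hji
  have h3 : RepWith @IsImmersion (y'' ≫ PEleg D ji c k) :=
    repWith_mono (fun _ _ g (hg : IsClosedImmersion g) => (inferInstance : IsImmersion g)) h1
  have h4 : RepWith @IsImmersion (pullback.fst (D.map k.hom) ji) :=
    repWith_mono (fun _ _ g (hg : IsOpenImmersion g) => (inferInstance : IsImmersion g)) h2
  haveI := AlgSp.repWith_isMultiplicative (S := S) @IsImmersion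
  have h5 := (RepWith @IsImmersion).comp_mem _ _ h3 h4
  have h6 : (y'' ≫ PEleg D ji c k) ≫ pullback.fst (D.map k.hom) ji = y ≫ c.π.app i' := by
    rw [Category.assoc]
    exact hy''π k
  rw [h6] at h5
  exact h5

end

end Groth.Agent.H94.AlgSpLimit14
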