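import Mathlib
import Groth.Prelude.Def_AlgSp4
import Mathlib.AlgebraicGeometry.Morphisms.QuasiSeparated
import Groth.Agent.H94.AlgSpLimit12
import Groth.Agent.H94.AlgSpLimit14
import Groth.Agent.H51.DiagSep
import Groth.Agent.H52.DescCI
import Groth.Agent.H9.DescCI
set_option autoImplicit false
universe u
open CategoryTheory CategoryTheory.Limits AlgebraicGeometry Topology
open AlgSp
namespace Groth.Agent.H94.AlgSpLimit15
open Groth.Agent.H50 Groth.Agent.H94.AlgSpLimit Groth.Agent.H94.AlgSpLimit9 Groth.Agent.H94.AlgSpLimit10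

variable {S : Scheme.{u}}

/-- Lemma G: the base change of `fi` (itself a base change of `f₀`) along a chart `aY : h_W ⟶ Yi` lying over a chart
`pV : h_V ⟶ Y₀` is `h` of the base change of the scheme morphism `δ₀` representing `f₀` over `V`. -/
theorem exists_isPullback_chart {X₀ Y₀ Xi Yi : Sp S} {f₀ : X₀ ⟶ Y₀} {V P₀ W : Over S}
    {pV : (yon S).obj V ⟶ Y₀} {fstP : (yon S).obj P₀ ⟶ X₀} {δ₀ : P₀ ⟶ V}
    (sqP : IsPullback fstP ((yon S).map δ₀) f₀ pV)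
    {fi : Xi ⟶ Yi} {pYi : Yi ⟶ Y₀} {pXi : Xi ⟶ X₀} (hXi : IsPullback pXi fi f₀ pYi)
    (aY : (yon S).obj W ⟶ Yi) (σ : W ⟶ V) (hσ : aY ≫ pYi = (yon S).map σ ≫ pV) :
    ∃ fstQ : (yon S).obj (pullback δ₀ σ) ⟶ Xi,
      IsPullback fstQ ((yon S).map (pullback.snd δ₀ σ)) fi aY := by
  have s1 : IsPullback ((yon S).map (pullback.fst δ₀ σ)) ((yon S).map (pullback.snd δ₀ σ))
      ((yon S).map δ₀) ((yon S).map σ) := (IsPullback.of_hasPullback δ₀ σ).map (yon S)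
  have s2 := s1.paste_horiz sqP
  rw [← hσ] at s2
  have hw : ((yon S).map (pullback.fst δ₀ σ) ≫ fstP) ≫ f₀ =
      ((yon S).map (pullback.snd δ₀ σ) ≫ aY) ≫ pYi := by
    rw [s2.w, Category.assoc]
  exact ⟨hXi.lift _ _ hw, Groth.Agent.H52.isPullback_lift_of_comp_right hXi s2 _ (hXi.lift_fst _ _ _)
    (hXi.lift_snd _ _ _)⟩

/-- transfer of closed immersions between two pullbacks of the same cospan. -/
theorem isClosedImmersion_of_isPullback_of_isPullback {A A' B C E : Scheme.{u}} {f : B ⟶ E} {g : C ⟶ E}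
    {a : A ⟶ B} {b : A ⟶ C} {a' : A' ⟶ B} {b' : A' ⟶ C} (sq : IsPullback a b f g)
    (sq' : IsPullback a' b' f g) (h : IsClosedImmersion b) : IsClosedImmersion b' := by
  have e : (sq'.isoIsPullback _ _ sq).hom ≫ b = b' := IsPullback.isoIsPullback_hom_snd _ _ sq' sq
  rw [← e]
  infer_instance

section
variable {I : Type u} [SmallCategory I] [IsCofiltered I] (D : I ⥤ Sp S)

/-- the scheme-level pasting used twice below. -/
theorem isPullback_paste_aux {P₀ V W₀ W : Scheme.{u}} (δ : P₀ ⟶ V) (s₀ : W₀ ⟶ V) (σ' : W ⟶ W₀) (σ : W ⟶ V)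
    (hσ : σ' ≫ s₀ = σ) :
    IsPullback (pullback.snd σ' (pullback.snd δ s₀) ≫ pullback.fst δ s₀)
      (pullback.fst σ' (pullback.snd δ s₀)) δ σ := by
  subst hσ
  exact ((IsPullback.of_hasPullback σ' (pullback.snd δ s₀)).flip).paste_horiz
    (IsPullback.of_hasPullback δ s₀)

theorem descend_closedImmersion_rep [QuasiSeparatedSpace ↥S]
    (hDa : ∀ (i j : I) (φ : i ⟶ j), IsAffineMor (D.map φ))
    (c : Cone D) (hc : IsLimit c) (i₀ : I)
    (X₀ Y₀ : Sp S) (hX₀ : IsAlgSpace X₀) (hY₀ : IsAlgSpace Y₀) (f₀ : X₀ ⟶ Y₀) [Mono f₀]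
    (b₀ : Y₀ ⟶ D.obj i₀)
    (hXqc : IsQuasiCompactSp X₀) (hYqc : IsQuasiCompactSp Y₀) (hYqs : IsQuasiSeparatedSp Y₀)
    (X Y : Sp S) (f : X ⟶ Y) (pY : Y ⟶ Y₀) (qY : Y ⟶ c.pt)
    (hY : IsPullback pY qY b₀ (c.π.app i₀)) (pX : X ⟶ X₀) (hX : IsPullback pX f f₀ pY)
    (hf : RepWith @IsClosedImmersion f) (hf₀ : RepWith @LocallyOfFiniteType f₀) :
    ∃ (i : I) (φ : i ⟶ i₀), ∀ (Xi Yi : Sp S) (fi : Xi ⟶ Yi) (pYi : Yi ⟶ Y₀) (qYi : Yi ⟶ D.obj i)
      (_ : IsPullback pYi qYi b₀ (D.map φ)) (pXi : Xi ⟶ X₀) (_ : IsPullback pXi fi f₀ pYi),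
      RepWith @IsClosedImmersion fi := by
  -- affine chart of `Y₀` and the scheme representing `f₀` over it
  obtain ⟨V, _, pV, _, _, hVaff, hpVe, hpVs, -, -⟩ := exists_affine_chart_over hYqc hY₀ (𝟙 Y₀)
  haveI : IsAffine V.left := hVaff
  obtain ⟨P₀, δ₀, fstP, sqP⟩ := hf₀.1 pV
  haveI hδlft : LocallyOfFiniteType δ₀.left := hf₀.2 _ _ _ sqP
  have hqcm : IsQuasiCompactMor f₀ := Groth.Agent.H52.isQuasiCompactMor_of_qc_qs hX₀ hY₀ f₀ hXqc hYqs
  have hP₀qc' : IsQuasiCompactSp ((yon S).obj P₀) :=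
    hqcm (IsAlgSpace.yon_obj V) (Groth.Agent.H52.isQuasiCompactSp_yon V) pV _ _ sqP
  haveI hP₀qc : CompactSpace ↥P₀.left := by
    haveI := Groth.Agent.H52.compactSpace_points_of_isQuasiCompactSp hP₀qc'
    exact (Points.schemeHomeo P₀).symm.compactSpace
  haveI hmono1 : Mono ((yon S).map δ₀) := by
    have : ((MorphismProperty.monomorphisms (Sp S))) ((yon S).map δ₀) :=
      MorphismProperty.of_isPullback (P := MorphismProperty.monomorphisms (Sp S)) sqP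
        (MorphismProperty.monomorphisms.infer_property f₀)
    exact this
  haveI hmono2 : Mono δ₀ := (yon S).mono_of_mono_map hmono1
  haveI hmono3 : Mono δ₀.left := inferInstance
  haveI hP₀qs : QuasiSeparatedSpace ↥P₀.left := quasiSeparatedSpace_of_quasiSeparated δ₀.left
  -- the system of charts
  obtain ⟨W', b, s, L, hL, a, sL, hsq, htr, hbig, hsqj, hbn, hsw, hsLs⟩ :=
    exists_chart_limit' D hDa c hc i₀ V (pV ≫ b₀)
  have hsaff : ∀ j, IsAffineHom (s j).left := by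
    intro j
    have hh' : RepWith @IsAffineHom ((yon S).map (s j)) :=
      Groth.Agent.H50.repWith_snd_of_isPullback (hsq j) (repWith_of_isAffineMor _ (hDa _ _ j.hom))
    exact (repWith_yon_map_iff @IsAffineHom _).1 hh'
  haveI : ∀ j, IsAffine ((W' ⋙ Over.forget S).obj j) := fun j => by
    haveI := hsaff j
    exact (isAffine_of_isAffineHom (s j).left : IsAffine (W'.obj j).left)
  let j₀ : Over i₀ := Over.mk (𝟙 i₀)
  haveI := hsaff j₀
  -- the chart of `Y` and the base change of `f`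
  have hwY : ((yon S).map sL ≫ pV) ≫ b₀ = a ≫ c.π.app i₀ := by
    rw [Category.assoc, hbig.w]
  obtain ⟨aY, haY⟩ : ∃ aY : (yon S).obj L.pt ⟶ Y, aY ≫ pY = (yon S).map sL ≫ pV :=
    ⟨hY.lift _ _ hwY, hY.lift_fst _ _ _⟩
  obtain ⟨fstQ, sqQ⟩ := exists_isPullback_chart sqP hX aY sL haY
  have hclL : IsClosedImmersion (pullback.snd δ₀ sL).left := hf.2 _ _ _ sqQ
  have sqOv : IsPullback (pullback.fst δ₀ sL).left (pullback.snd δ₀ sL).left δ₀.left sL.left :=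
    (IsPullback.of_hasPullback δ₀ sL).map (Over.forget S)
  have hsLs' : (L.π.app j₀).left ≫ (s j₀).left = sL.left := by
    rw [← Over.comp_left, hsLs j₀]
  have hclA : IsClosedImmersion (pullback.fst (((Over.forget S).mapCone L).π.app j₀)
      (pullback.snd δ₀.left (s j₀).left)) :=
    isClosedImmersion_of_isPullback_of_isPullback sqOv
      (isPullback_paste_aux δ₀.left (s j₀).left (L.π.app j₀).left sL.left hsLs') hclL
  haveI : QuasiSeparatedSpace ↥(pullback δ₀.left (s j₀).left) :=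
    quasiSeparatedSpace_of_quasiSeparated (pullback.fst δ₀.left (s j₀).left)
  obtain ⟨g, hg⟩ : ∃ g : pullback δ₀.left (s j₀).left ⟶ (W' ⋙ Over.forget S).obj j₀,
      g = pullback.snd δ₀.left (s j₀).left := ⟨_, rfl⟩
  haveI : LocallyOfFiniteType g := by
    rw [hg]
    exact MorphismProperty.pullback_snd (P := @LocallyOfFiniteType) δ₀.left (s j₀).left hδlft
  have hclA' : IsClosedImmersion (pullback.fst (((Over.forget S).mapCone L).π.app j₀) g) := by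
    rw [hg]; exact hclA
  obtain ⟨k, φ, hk⟩ := Groth.Agent.H9.DescCI.exists_isClosedImmersion_pullback_fst (W' ⋙ Over.forget S)
    ((Over.forget S).mapCone L) (isLimitOfPreserves _ hL) j₀ g hclA'
  rw [hg] at hk
  have hsk' : (W'.map φ).left ≫ (s j₀).left = (s k).left := by
    rw [← Over.comp_left, hsw k j₀ φ]
  have sqOvk : IsPullback (pullback.fst δ₀ (s k)).left (pullback.snd δ₀ (s k)).left δ₀.left (s k).left :=
    (IsPullback.of_hasPullback δ₀ (s k)).map (Over.forget S)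
  have hclk : IsClosedImmersion (pullback.snd δ₀ (s k)).left :=
    isClosedImmersion_of_isPullback_of_isPullback
      (isPullback_paste_aux δ₀.left (s j₀).left (W'.map φ).left (s k).left hsk') sqOvk hk
  refine ⟨k.left, k.hom, ?_⟩
  intro Xi Yi fi pYi qYi hYi pXi hXi
  have hwYi : ((yon S).map (s k) ≫ pV) ≫ b₀ = b k ≫ D.map k.hom := by
    rw [Category.assoc, (hsq k).w]
  obtain ⟨aYi, haYi1, haYi2⟩ : ∃ aYi : (yon S).obj (W'.obj k) ⟶ Yi,
      aYi ≫ pYi = (yon S).map (s k) ≫ pV ∧ aYi ≫ qYi = b k :=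
    ⟨hYi.lift _ _ hwYi, hYi.lift_fst _ _ _, hYi.lift_snd _ _ _⟩
  have sqaYi : IsPullback aYi ((yon S).map (s k)) pYi pV :=
    Groth.Agent.H52.isPullback_lift_of_comp_right hYi.flip (hsq k) aYi haYi2 haYi1
  have haYie : RepWith @Etale aYi := Groth.Agent.H50.repWith_fst_of_isPullback sqaYi hpVe
  have haYis : RepWith @Surjective aYi := Groth.Agent.H50.repWith_fst_of_isPullback sqaYi hpVs
  obtain ⟨fstQi, sqQi⟩ := exists_isPullback_chart sqP hXi aYi (s k) haYi1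
  have hrep : Representable fi := (Groth.Agent.H50.repWith_snd_of_isPullback hXi hf₀).rep
  exact Groth.Agent.H50.repWith_of_isPullback_atlas Groth.Agent.H52.isClosedImmersion_descendsAlong_fppf
    hrep haYie haYis sqQi ((repWith_yon_map_iff @IsClosedImmersion _).2 hclk)

theorem descend_separated [QuasiSeparatedSpace ↥S]
    (hDa : ∀ (i j : I) (φ : i ⟶ j), IsAffineMor (D.map φ))
    (c : Cone D) (hc : IsLimit c) (i₀ : I)
    (X₀ Y₀ : Sp S) (hX₀ : IsAlgSpace X₀) (hY₀ : IsAlgSpace Y₀) (f₀ : X₀ ⟶ Y₀) (b₀ : Y₀ ⟶ D.obj i₀)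
    (hXqc : IsQuasiCompactSp X₀) (hXqs : IsQuasiSeparatedSp X₀) (hYqs : IsQuasiSeparatedSp Y₀)
    (X Y : Sp S) (f : X ⟶ Y) (pY : Y ⟶ Y₀) (qY : Y ⟶ c.pt)
    (hY : IsPullback pY qY b₀ (c.π.app i₀)) (pX : X ⟶ X₀) (hX : IsPullback pX f f₀ pY)
    (hf : IsSeparatedMor f) :
    ∃ (i : I) (φ : i ⟶ i₀), ∀ (Xi Yi : Sp S) (fi : Xi ⟶ Yi) (pYi : Yi ⟶ Y₀) (qYi : Yi ⟶ D.obj i)
      (_ : IsPullback pYi qYi b₀ (D.map φ)) (pXi : Xi ⟶ X₀) (_ : IsPullback pXi fi f₀ pYi),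
      IsSeparatedMor fi := by
  have sq₀ := IsPullback.of_hasPullback f₀ f₀
  have hZ₀ : IsAlgSpace (pullback f₀ f₀) :=
    Groth.Agent.H52.isAlgSpace_of_isPullback sq₀ hY₀.diag hX₀ hX₀
  have hqcm : IsQuasiCompactMor f₀ := Groth.Agent.H52.isQuasiCompactMor_of_qc_qs hX₀ hY₀ f₀ hXqc hYqs
  have hZ₀qc : IsQuasiCompactSp (pullback f₀ f₀) := hqcm hX₀ hXqc f₀ _ _ sq₀
  have hZ₀qs : IsQuasiSeparatedSp (pullback f₀ f₀) :=
    Groth.Agent.H52.isQuasiSeparatedSp_of_isPullback sq₀ hXqs hXqs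
  have hΔlft : RepWith @LocallyOfFiniteType (pullback.diagonal f₀) :=
    Groth.Agent.H51.repWith_locallyOfFiniteType_diagonal hX₀ hY₀ f₀
  obtain ⟨i, φ, hi⟩ := descend_closedImmersion_rep D hDa c hc i₀ X₀ (pullback f₀ f₀) hX₀ hZ₀
    (pullback.diagonal f₀) (pullback.fst f₀ f₀ ≫ f₀ ≫ b₀) hXqc hZ₀qc hZ₀qs X (pullback f f)
    (pullback.diagonal f) (pullback.map f f f₀ f₀ pX pX pY hX.w.symm hX.w.symm) (pullback.fst f f ≫ f ≫ qY)
    (Groth.Agent.H94.AlgSpLimit12.isPullback_map_diag hY hX) pX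
    (Groth.Agent.H94.AlgSpLimit12.isPullback_diag_diag hX) hf hΔlft
  refine ⟨i, φ, ?_⟩
  intro Xi Yi fi pYi qYi hYi pXi hXi
  exact hi Xi (pullback fi fi) (pullback.diagonal fi)
    (pullback.map fi fi f₀ f₀ pXi pXi pYi hXi.w.symm hXi.w.symm) (pullback.fst fi fi ≫ fi ≫ qYi)
    (Groth.Agent.H94.AlgSpLimit12.isPullback_map_diag hYi hXi) pXi
    (Groth.Agent.H94.AlgSpLimit12.isPullback_diag_diag hXi)

theorem main [QuasiSeparatedSpace ↥S]
    (hD : ∀ i, AlgSp.IsAlgSpace (D.obj i))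
    (hDa : ∀ (i j : I) (φ : i ⟶ j), AlgSp.IsAffineMor (D.map φ))
    (c : Cone D) (hc : IsLimit c) (i₀ : I)
    (X₀ Y₀ : AlgSp.Space S) (f₀ : X₀.obj ⟶ Y₀.obj) (b₀ : Y₀.obj ⟶ D.obj i₀)
    (hXqc : AlgSp.IsQuasiCompactSp X₀.obj) (hXqs : AlgSp.IsQuasiSeparatedSp X₀.obj)
    (hYqs : AlgSp.IsQuasiSeparatedSp Y₀.obj)
    (X Y : AlgSp.Sp S) (f : X ⟶ Y) (pY : Y ⟶ Y₀.obj) (qY : Y ⟶ c.pt)
    (hY : IsPullback pY qY b₀ (c.π.app i₀)) (pX : X ⟶ X₀.obj) (hX : IsPullback pX f f₀ pY)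
    (hf : AlgSp.IsSeparatedMor f) :
    ∃ (i : I) (φ : i ⟶ i₀), ∀ (Xi Yi : AlgSp.Sp S) (fi : Xi ⟶ Yi) (pYi : Yi ⟶ Y₀.obj) (qYi : Yi ⟶ D.obj i)
      (_ : IsPullback pYi qYi b₀ (D.map φ)) (pXi : Xi ⟶ X₀.obj) (_ : IsPullback pXi fi f₀ pYi),
      AlgSp.IsSeparatedMor fi :=
  descend_separated D hDa c hc i₀ X₀.obj Y₀.obj X₀.property Y₀.property f₀ b₀ hXqc hXqs hYqs X Y f pY qY
    hY pX hX hf

end

end Groth.Agent.H94.AlgSpLimit15
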