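import Mathlib
import Groth.Prelude.Def_AlgSp4
import Mathlib.AlgebraicGeometry.Morphisms.QuasiSeparated
import Mathlib.AlgebraicGeometry.Morphisms.Smooth
import Mathlib.AlgebraicGeometry.Morphisms.Flat
import Groth.Agent.H94.AlgSpLimit15
import Groth.Agent.H52.LocPChart
import Groth.Agent.H52.EtLocalInst
import Groth.Agent.H51.EtaleIff
import Groth.Agent.H9.DescP
set_option autoImplicit false
universe u
open CategoryTheory CategoryTheory.Limits AlgebraicGeometry Topology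
open AlgSp
namespace Groth.Agent.H94.AlgSpLimit16
open Groth.Agent.H50 Groth.Agent.H94.AlgSpLimit Groth.Agent.H94.AlgSpLimit9 Groth.Agent.H94.AlgSpLimit10

variable {S : Scheme.{u}}

/-- Lemma H: charts of a base change. -/
theorem exists_chart_of_baseChange {X₀ Y₀ Xi Yi : Sp S} {f₀ : X₀ ⟶ Y₀} {V U W : Over S}
    {pV : (yon S).obj V ⟶ Y₀} (p : (yon S).obj U ⟶ pullback f₀ pV) (h : U ⟶ V)
    (hh : (yon S).map h = p ≫ pullback.snd f₀ pV)
    {fi : Xi ⟶ Yi} {pYi : Yi ⟶ Y₀} {pXi : Xi ⟶ X₀} (hXi : IsPullback pXi fi f₀ pYi)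
    (aY : (yon S).obj W ⟶ Yi) (σ : W ⟶ V) (hσ : aY ≫ pYi = (yon S).map σ ≫ pV) :
    ∃ aX : (yon S).obj (pullback h σ) ⟶ Xi,
      aX ≫ fi = (yon S).map (pullback.snd h σ) ≫ aY ∧
      ∀ (Q : MorphismProperty Scheme.{u}) [Q.IsStableUnderBaseChange] [Q.IsMultiplicative],
        RepWith Q p → RepWith Q aY → RepWith Q aX := by
  -- the sheaf-level base change `Z = X₀^V ×_{h_V} h_W`
  have sqV : IsPullback (pullback.fst f₀ pV) (pullback.snd f₀ pV) f₀ pV := IsPullback.of_hasPullback _ _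
  have s1 : IsPullback (pullback.fst (pullback.snd f₀ pV) ((yon S).map σ))
      (pullback.snd (pullback.snd f₀ pV) ((yon S).map σ)) (pullback.snd f₀ pV) ((yon S).map σ) :=
    IsPullback.of_hasPullback _ _
  have s2 := s1.paste_horiz sqV
  rw [← hσ] at s2
  have hw : (pullback.fst (pullback.snd f₀ pV) ((yon S).map σ) ≫ pullback.fst f₀ pV) ≫ f₀ =
      (pullback.snd (pullback.snd f₀ pV) ((yon S).map σ) ≫ aY) ≫ pYi := by
    rw [s2.w, Category.assoc]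
  obtain ⟨z, hz1, hz2⟩ : ∃ z : pullback (pullback.snd f₀ pV) ((yon S).map σ) ⟶ Xi,
      z ≫ pXi = pullback.fst (pullback.snd f₀ pV) ((yon S).map σ) ≫ pullback.fst f₀ pV ∧
      z ≫ fi = pullback.snd (pullback.snd f₀ pV) ((yon S).map σ) ≫ aY :=
    ⟨hXi.lift _ _ hw, hXi.lift_fst _ _ _, hXi.lift_snd _ _ _⟩
  have sqz : IsPullback z (pullback.snd (pullback.snd f₀ pV) ((yon S).map σ)) fi aY :=
    Groth.Agent.H52.isPullback_lift_of_comp_right hXi s2 z hz1 hz2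
  -- the chart of `Z`
  have t1 : IsPullback ((yon S).map (pullback.fst h σ)) ((yon S).map (pullback.snd h σ))
      ((yon S).map h) ((yon S).map σ) := (IsPullback.of_hasPullback h σ).map (yon S)
  rw [hh] at t1
  have hw2 : ((yon S).map (pullback.fst h σ) ≫ p) ≫ pullback.snd f₀ pV =
      (yon S).map (pullback.snd h σ) ≫ (yon S).map σ := by
    rw [Category.assoc, t1.w]
  obtain ⟨q, hq1, hq2⟩ : ∃ q : (yon S).obj (pullback h σ) ⟶ pullback (pullback.snd f₀ pV) ((yon S).map σ),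
      q ≫ pullback.fst (pullback.snd f₀ pV) ((yon S).map σ) = (yon S).map (pullback.fst h σ) ≫ p ∧
      q ≫ pullback.snd (pullback.snd f₀ pV) ((yon S).map σ) = (yon S).map (pullback.snd h σ) :=
    ⟨s1.lift _ _ hw2, s1.lift_fst _ _ _, s1.lift_snd _ _ _⟩
  -- `q` is a base change of `p`
  have sqq : IsPullback q ((yon S).map (pullback.fst h σ))
      (pullback.fst (pullback.snd f₀ pV) ((yon S).map σ)) p := by
    have t1' : IsPullback ((yon S).map (pullback.snd h σ)) ((yon S).map (pullback.fst h σ))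
        ((yon S).map σ) (p ≫ pullback.snd f₀ pV) := t1.flip
    exact Groth.Agent.H52.isPullback_lift_of_comp_right s1.flip t1' q hq2 hq1
  refine ⟨q ≫ z, ?_, ?_⟩
  · rw [Category.assoc, hz2, ← Category.assoc, hq2]
  · intro Q _ _ hp haY
    have := AlgSp.repWith_isMultiplicative (S := S) Q
    have h1 : RepWith Q z := Groth.Agent.H50.repWith_fst_of_isPullback sqz haY
    have h2 : RepWith Q q := Groth.Agent.H50.repWith_fst_of_isPullback sqq hp
    exact (RepWith Q).comp_mem _ _ h2 h1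

/-- transfer of a property respecting isomorphisms between two pullbacks of the same cospan. -/
theorem prop_of_isPullback_of_isPullback {P : MorphismProperty Scheme.{u}} [P.RespectsIso]
    {A A' B C E : Scheme.{u}} {f : B ⟶ E} {g : C ⟶ E}
    {a : A ⟶ B} {b : A ⟶ C} {a' : A' ⟶ B} {b' : A' ⟶ C} (sq : IsPullback a b f g)
    (sq' : IsPullback a' b' f g) (h : P b) : P b' := by
  have e : (sq'.isoIsPullback _ _ sq).hom ≫ b = b' := IsPullback.isoIsPullback_hom_snd _ _ sq' sq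
  rw [← e]
  exact (MorphismProperty.cancel_left_of_respectsIso P _ _).2 h

section
variable {I : Type u} [SmallCategory I] [IsCofiltered I] (D : I ⥤ Sp S)

theorem descend_locP [QuasiSeparatedSpace ↥S] {P : MorphismProperty Scheme.{u}}
    (hP : Groth.Agent.H52.EtLocal P)
    (hdesc : ∀ {J : Type u} [SmallCategory J] [IsCofiltered J] (F : J ⥤ Scheme.{u})
      [∀ j, IsAffine (F.obj j)] (cF : Cone F) (_ : IsLimit cF) (j₀ : J) {Q : Scheme.{u}}
      [CompactSpace Q] [QuasiSeparatedSpace Q] (g : Q ⟶ F.obj j₀) [LocallyOfFinitePresentation g],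
      P (pullback.fst (cF.π.app j₀) g) → ∃ (j : J) (φ : j ⟶ j₀), P (pullback.fst (F.map φ) g))
    (hDa : ∀ (i j : I) (φ : i ⟶ j), IsAffineMor (D.map φ))
    (c : Cone D) (hc : IsLimit c) (i₀ : I)
    (X₀ Y₀ : Sp S) (hX₀ : IsAlgSpace X₀) (hY₀ : IsAlgSpace Y₀) (f₀ : X₀ ⟶ Y₀) (b₀ : Y₀ ⟶ D.obj i₀)
    (hXqc : IsQuasiCompactSp X₀) (hYqc : IsQuasiCompactSp Y₀) (hYqs : IsQuasiSeparatedSp Y₀)
    (X Y : Sp S) (f : X ⟶ Y) (pY : Y ⟶ Y₀) (qY : Y ⟶ c.pt)
    (hY : IsPullback pY qY b₀ (c.π.app i₀)) (pX : X ⟶ X₀) (hX : IsPullback pX f f₀ pY)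
    (hf : LocP P f) (hf₀ : LocP @LocallyOfFinitePresentation f₀) :
    ∃ (i : I) (φ : i ⟶ i₀), ∀ (Xi Yi : Sp S) (fi : Xi ⟶ Yi) (pYi : Yi ⟶ Y₀) (qYi : Yi ⟶ D.obj i)
      (_ : IsPullback pYi qYi b₀ (D.map φ)) (pXi : Xi ⟶ X₀) (_ : IsPullback pXi fi f₀ pYi),
      LocP P fi := by
  haveI := hP.bc
  haveI : P.RespectsIso := MorphismProperty.IsStableUnderBaseChange.respectsIso
  -- affine chart of `Y₀`
  obtain ⟨V, _, pV, _, _, hVaff, hpVe, hpVs, -, -⟩ := exists_affine_chart_over hYqc hY₀ (𝟙 Y₀)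
  haveI : IsAffine V.left := hVaff
  have sqV : IsPullback (pullback.fst f₀ pV) (pullback.snd f₀ pV) f₀ pV := IsPullback.of_hasPullback _ _
  have hqcm : IsQuasiCompactMor f₀ := Groth.Agent.H52.isQuasiCompactMor_of_qc_qs hX₀ hY₀ f₀ hXqc hYqs
  have hXVqc : IsQuasiCompactSp (pullback f₀ pV) :=
    hqcm (IsAlgSpace.yon_obj V) (Groth.Agent.H52.isQuasiCompactSp_yon V) pV _ _ sqV
  have hXVa : IsAlgSpace (pullback f₀ pV) :=
    Groth.Agent.H52.isAlgSpace_of_isPullback sqV hY₀.diag hX₀ (IsAlgSpace.yon_obj V)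
  obtain ⟨U, _, p, _, _, hUaff, hpe, hps, -, -⟩ :=
    exists_affine_chart_over hXVqc hXVa (𝟙 (pullback f₀ pV))
  haveI : IsAffine U.left := hUaff
  let h : U ⟶ V := (yon S).preimage (p ≫ pullback.snd f₀ pV)
  have hh : (yon S).map h = p ≫ pullback.snd f₀ pV := Functor.map_preimage _ _
  have hfste : RepWith @Etale (pullback.fst f₀ pV) := Groth.Agent.H50.repWith_fst_of_isPullback sqV hpVe
  have hae : RepWith @Etale (p ≫ pullback.fst f₀ pV) := by
    have := AlgSp.repWith_isMultiplicative (S := S) @Etale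
    exact (RepWith @Etale).comp_mem _ _ hpe hfste
  haveI hlfp : LocallyOfFinitePresentation h.left :=
    hf₀ (p ≫ pullback.fst f₀ pV) pV h hae hpVe (by rw [Category.assoc, sqV.w, ← Category.assoc, hh])
  -- the system of charts
  obtain ⟨W', b, s, L, hL, a, sL, hsq, htr, hbig, hsqj, hbn, hsw, hsLs⟩ :=
    exists_chart_limit' D hDa c hc i₀ V (pV ≫ b₀)
  have hsaff : ∀ j, IsAffineHom (s j).left := by
    intro j
    have hh' : RepWith @IsAffineHom ((yon S).map (s j)) :=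
      Groth.Agent.H50.repWith_snd_of_isPullback (hsq j) (repWith_of_isAffineMor _ (hDa _ _ j.hom))
    exact (repWith_yon_map_iff @IsAffineHom _).1 hh'
  haveI : ∀ j, IsAffine ((W' ⋙ Over.forget S).obj j) := fun j => by
    haveI := hsaff j
    exact (isAffine_of_isAffineHom (s j).left : IsAffine (W'.obj j).left)
  let j₀ : Over i₀ := Over.mk (𝟙 i₀)
  haveI := hsaff j₀
  -- the charts of `Y` and `X`
  have hwY : ((yon S).map sL ≫ pV) ≫ b₀ = a ≫ c.π.app i₀ := by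
    rw [Category.assoc, hbig.w]
  obtain ⟨aY, haY1, haY2⟩ : ∃ aY : (yon S).obj L.pt ⟶ Y,
      aY ≫ pY = (yon S).map sL ≫ pV ∧ aY ≫ qY = a :=
    ⟨hY.lift _ _ hwY, hY.lift_fst _ _ _, hY.lift_snd _ _ _⟩
  have sqaY : IsPullback aY ((yon S).map sL) pY pV :=
    Groth.Agent.H52.isPullback_lift_of_comp_right hY.flip hbig aY haY2 haY1
  have haYe : RepWith @Etale aY := Groth.Agent.H50.repWith_fst_of_isPullback sqaY hpVe
  obtain ⟨aX, haX1, haX2⟩ := exists_chart_of_baseChange p h hh hX aY sL haY1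
  have haXe : RepWith @Etale aX := haX2 @Etale hpe haYe
  have hPL : P (pullback.snd h sL).left := hf aX aY (pullback.snd h sL) haXe haYe haX1
  have sqOv : IsPullback (pullback.fst h sL).left (pullback.snd h sL).left h.left sL.left :=
    (IsPullback.of_hasPullback h sL).map (Over.forget S)
  have hsLs' : (L.π.app j₀).left ≫ (s j₀).left = sL.left := by
    rw [← Over.comp_left, hsLs j₀]
  haveI : IsAffine (pullback h.left (s j₀).left) :=
    isAffine_of_isAffineHom (pullback.fst h.left (s j₀).left)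
  obtain ⟨g, hg⟩ : ∃ g : pullback h.left (s j₀).left ⟶ (W' ⋙ Over.forget S).obj j₀,
      g = pullback.snd h.left (s j₀).left := ⟨_, rfl⟩
  haveI : LocallyOfFinitePresentation g := by
    rw [hg]
    exact MorphismProperty.pullback_snd (P := @LocallyOfFinitePresentation) h.left (s j₀).left hlfp
  have hPA : P (pullback.fst (((Over.forget S).mapCone L).π.app j₀) g) := by
    rw [hg]
    exact prop_of_isPullback_of_isPullback sqOv
      (Groth.Agent.H94.AlgSpLimit15.isPullback_paste_aux h.left (s j₀).left (L.π.app j₀).left sL.left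
        hsLs') hPL
  obtain ⟨k, φ, hk⟩ := hdesc (W' ⋙ Over.forget S) ((Over.forget S).mapCone L)
    (isLimitOfPreserves _ hL) j₀ g hPA
  rw [hg] at hk
  have hsk' : (W'.map φ).left ≫ (s j₀).left = (s k).left := by
    rw [← Over.comp_left, hsw k j₀ φ]
  have sqOvk : IsPullback (pullback.fst h (s k)).left (pullback.snd h (s k)).left h.left (s k).left :=
    (IsPullback.of_hasPullback h (s k)).map (Over.forget S)
  have hPk : P (pullback.snd h (s k)).left :=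
    prop_of_isPullback_of_isPullback
      (Groth.Agent.H94.AlgSpLimit15.isPullback_paste_aux h.left (s j₀).left (W'.map φ).left (s k).left
        hsk') sqOvk hk
  refine ⟨k.left, k.hom, ?_⟩
  intro Xi Yi fi pYi qYi hYi pXi hXi
  have hwYi : ((yon S).map (s k) ≫ pV) ≫ b₀ = b k ≫ D.map k.hom := by
    rw [Category.assoc, (hsq k).w]
  obtain ⟨aYi, haYi1, haYi2⟩ : ∃ aYi : (yon S).obj (W'.obj k) ⟶ Yi,
      aYi ≫ pYi = (yon S).map (s k) ≫ pV ∧ aYi ≫ qYi = b k :=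
    ⟨hYi.lift _ _ hwYi, hYi.lift_fst _ _ _, hYi.lift_snd _ _ _⟩
  have sqaYi : IsPullback aYi ((yon S).map (s k)) pYi pV :=
    Groth.Agent.H52.isPullback_lift_of_comp_right hYi.flip (hsq k) aYi haYi2 haYi1
  have haYie : RepWith @Etale aYi := Groth.Agent.H50.repWith_fst_of_isPullback sqaYi hpVe
  have haYis : RepWith @Surjective aYi := Groth.Agent.H50.repWith_fst_of_isPullback sqaYi hpVs
  obtain ⟨aXi, haXi1, haXi2⟩ := exists_chart_of_baseChange p h hh hXi aYi (s k) haYi1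
  exact Groth.Agent.H52.locP_of_one_chart hP fi aXi aYi (pullback.snd h (s k))
    (haXi2 @Etale hpe haYie) (haXi2 @Surjective hps haYis) haYie haXi1 hPk

theorem main_smooth [QuasiSeparatedSpace ↥S]
    (hDa : ∀ (i j : I) (φ : i ⟶ j), AlgSp.IsAffineMor (D.map φ))
    (c : Cone D) (hc : IsLimit c) (i₀ : I)
    (X₀ Y₀ : AlgSp.Space S) (f₀ : X₀.obj ⟶ Y₀.obj) (b₀ : Y₀.obj ⟶ D.obj i₀)
    (hXqc : AlgSp.IsQuasiCompactSp X₀.obj)
    (hYqc : AlgSp.IsQuasiCompactSp Y₀.obj) (hYqs : AlgSp.IsQuasiSeparatedSp Y₀.obj)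
    (X Y : AlgSp.Sp S) (f : X ⟶ Y) (pY : Y ⟶ Y₀.obj) (qY : Y ⟶ c.pt)
    (hY : IsPullback pY qY b₀ (c.π.app i₀)) (pX : X ⟶ X₀.obj) (hX : IsPullback pX f f₀ pY)
    (hf : AlgSp.LocP @Smooth f) (hf₀ : AlgSp.LocP @LocallyOfFinitePresentation f₀) :
    ∃ (i : I) (φ : i ⟶ i₀), ∀ (Xi Yi : AlgSp.Sp S) (fi : Xi ⟶ Yi) (pYi : Yi ⟶ Y₀.obj) (qYi : Yi ⟶ D.obj i)
      (_ : IsPullback pYi qYi b₀ (D.map φ)) (pXi : Xi ⟶ X₀.obj) (_ : IsPullback pXi fi f₀ pYi),
      AlgSp.LocP @Smooth fi :=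
  descend_locP D Groth.Agent.H52.etLocal_smooth
    (fun F _ cF hcF j₀ _ _ _ g _ h => Groth.Agent.H9.DescP.exists_smooth_pullback_fst F cF hcF j₀ g h)
    hDa c hc i₀ X₀.obj Y₀.obj X₀.property Y₀.property f₀ b₀ hXqc hYqc hYqs X Y f pY qY hY pX hX hf hf₀

theorem main_flat [QuasiSeparatedSpace ↥S]
    (hDa : ∀ (i j : I) (φ : i ⟶ j), AlgSp.IsAffineMor (D.map φ))
    (c : Cone D) (hc : IsLimit c) (i₀ : I)
    (X₀ Y₀ : AlgSp.Space S) (f₀ : X₀.obj ⟶ Y₀.obj) (b₀ : Y₀.obj ⟶ D.obj i₀)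
    (hXqc : AlgSp.IsQuasiCompactSp X₀.obj)
    (hYqc : AlgSp.IsQuasiCompactSp Y₀.obj) (hYqs : AlgSp.IsQuasiSeparatedSp Y₀.obj)
    (X Y : AlgSp.Sp S) (f : X ⟶ Y) (pY : Y ⟶ Y₀.obj) (qY : Y ⟶ c.pt)
    (hY : IsPullback pY qY b₀ (c.π.app i₀)) (pX : X ⟶ X₀.obj) (hX : IsPullback pX f f₀ pY)
    (hf : AlgSp.LocP @Flat f) (hf₀ : AlgSp.LocP @LocallyOfFinitePresentation f₀) :
    ∃ (i : I) (φ : i ⟶ i₀), ∀ (Xi Yi : AlgSp.Sp S) (fi : Xi ⟶ Yi) (pYi : Yi ⟶ Y₀.obj) (qYi : Yi ⟶ D.obj i)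
      (_ : IsPullback pYi qYi b₀ (D.map φ)) (pXi : Xi ⟶ X₀.obj) (_ : IsPullback pXi fi f₀ pYi),
      AlgSp.LocP @Flat fi :=
  descend_locP D Groth.Agent.H52.etLocal_flat
    (fun F _ cF hcF j₀ _ _ _ g _ h => Groth.Agent.H9.DescP.exists_flat_pullback_fst F cF hcF j₀ g h)
    hDa c hc i₀ X₀.obj Y₀.obj X₀.property Y₀.property f₀ b₀ hXqc hYqc hYqs X Y f pY qY hY pX hX hf hf₀

theorem main_etale [QuasiSeparatedSpace ↥S] (hD : ∀ i, AlgSp.IsAlgSpace (D.obj i))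
    (hDa : ∀ (i j : I) (φ : i ⟶ j), AlgSp.IsAffineMor (D.map φ))
    (c : Cone D) (hc : IsLimit c) (i₀ : I)
    (X₀ Y₀ : AlgSp.Space S) (f₀ : X₀.obj ⟶ Y₀.obj) (b₀ : Y₀.obj ⟶ D.obj i₀)
    (hXqc : AlgSp.IsQuasiCompactSp X₀.obj)
    (hYqc : AlgSp.IsQuasiCompactSp Y₀.obj) (hYqs : AlgSp.IsQuasiSeparatedSp Y₀.obj)
    (X Y : AlgSp.Sp S) (f : X ⟶ Y) (pY : Y ⟶ Y₀.obj) (qY : Y ⟶ c.pt)
    (hY : IsPullback pY qY b₀ (c.π.app i₀)) (pX : X ⟶ X₀.obj) (hX : IsPullback pX f f₀ pY)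
    (hf : AlgSp.IsEtaleMor f) (hf₀ : AlgSp.LocP @LocallyOfFinitePresentation f₀) :
    ∃ (i : I) (φ : i ⟶ i₀), ∀ (Xi Yi : AlgSp.Sp S) (fi : Xi ⟶ Yi) (pYi : Yi ⟶ Y₀.obj) (qYi : Yi ⟶ D.obj i)
      (_ : IsPullback pYi qYi b₀ (D.map φ)) (pXi : Xi ⟶ X₀.obj) (_ : IsPullback pXi fi f₀ pYi),
      AlgSp.IsEtaleMor fi := by
  obtain ⟨i, φ, hi⟩ := descend_locP D Groth.Agent.H52.etLocal_etale
    (fun F _ cF hcF j₀ _ _ _ g _ h => Groth.Agent.H9.DescP.exists_etale_pullback_fst F cF hcF j₀ g h)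
    hDa c hc i₀ X₀.obj Y₀.obj X₀.property Y₀.property f₀ b₀ hXqc hYqc hYqs X Y f pY qY hY pX hX
    (Groth.Agent.H51.locP_etale_of_isEtaleMor f hf) hf₀
  refine ⟨i, φ, fun Xi Yi fi pYi qYi hYi pXi hXi => ?_⟩
  have hYia : IsAlgSpace Yi :=
    Groth.Agent.H52.isAlgSpace_of_isPullback hYi (hD i₀).diag Y₀.property (hD i)
  have hXia : IsAlgSpace Xi :=
    Groth.Agent.H52.isAlgSpace_of_isPullback hXi Y₀.property.diag X₀.property hYia
  exact Groth.Agent.H51.isEtaleMor_of_locP_etale hXia hYia fi (hi Xi Yi fi pYi qYi hYi pXi hXi)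

end

end Groth.Agent.H94.AlgSpLimit16
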