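import Mathlib
import Groth.Prelude.Def_AlgSp4
import Mathlib.AlgebraicGeometry.Morphisms.QuasiSeparated
import Groth.Agent.H94.AlgSpLimit16
import Groth.Agent.H51.FpqcIso
set_option autoImplicit false
universe u
open CategoryTheory CategoryTheory.Limits AlgebraicGeometry Topology
open AlgSp
namespace Groth.Agent.H94.AlgSpLimit17
open Groth.Agent.H50 Groth.Agent.H94.AlgSpLimit Groth.Agent.H94.AlgSpLimit9 Groth.Agent.H94.AlgSpLimit10
open Groth.Agent.H94.AlgSpLimit15 Groth.Agent.H94.AlgSpLimit16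

variable {S : Scheme.{u}}

section
variable {I : Type u} [SmallCategory I] [IsCofiltered I] (D : I ⥤ Sp S)

theorem descend_repWith [QuasiSeparatedSpace ↥S] {Q R : MorphismProperty Scheme.{u}}
    [Q.IsStableUnderBaseChange] [R.IsStableUnderBaseChange]
    (hQdesc : MorphismProperty.DescendsAlong Q fppfProp)
    (hdesc : ∀ {J : Type u} [SmallCategory J] [IsCofiltered J] (F : J ⥤ Scheme.{u})
      [∀ j, IsAffine (F.obj j)] (cF : Cone F) (_ : IsLimit cF) (j₀ : J) {T : Scheme.{u}}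
      [CompactSpace T] [QuasiSeparatedSpace T] (g : T ⟶ F.obj j₀), R g →
      Q (pullback.fst (cF.π.app j₀) g) → ∃ (j : J) (φ : j ⟶ j₀), Q (pullback.fst (F.map φ) g))
    (hDa : ∀ (i j : I) (φ : i ⟶ j), IsAffineMor (D.map φ))
    (c : Cone D) (hc : IsLimit c) (i₀ : I)
    (X₀ Y₀ : Sp S) (hX₀ : IsAlgSpace X₀) (hY₀ : IsAlgSpace Y₀) (f₀ : X₀ ⟶ Y₀) [Mono f₀]
    (b₀ : Y₀ ⟶ D.obj i₀)
    (hXqc : IsQuasiCompactSp X₀) (hYqc : IsQuasiCompactSp Y₀) (hYqs : IsQuasiSeparatedSp Y₀)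
    (X Y : Sp S) (f : X ⟶ Y) (pY : Y ⟶ Y₀) (qY : Y ⟶ c.pt)
    (hY : IsPullback pY qY b₀ (c.π.app i₀)) (pX : X ⟶ X₀) (hX : IsPullback pX f f₀ pY)
    (hf : RepWith Q f) (hf₀rep : Representable f₀) (hf₀ : LocP R f₀) :
    ∃ (i : I) (φ : i ⟶ i₀), ∀ (Xi Yi : Sp S) (fi : Xi ⟶ Yi) (pYi : Yi ⟶ Y₀) (qYi : Yi ⟶ D.obj i)
      (_ : IsPullback pYi qYi b₀ (D.map φ)) (pXi : Xi ⟶ X₀) (_ : IsPullback pXi fi f₀ pYi),
      RepWith Q fi := by
  haveI : Q.RespectsIso := MorphismProperty.IsStableUnderBaseChange.respectsIso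
  -- affine chart of `Y₀` and the scheme representing `f₀` over it
  obtain ⟨V, _, pV, _, _, hVaff, hpVe, hpVs, -, -⟩ := exists_affine_chart_over hYqc hY₀ (𝟙 Y₀)
  haveI : IsAffine V.left := hVaff
  obtain ⟨P₀, δ₀, fstP, sqP⟩ := hf₀rep pV
  have hδlft : R δ₀.left :=
    hf₀ fstP pV δ₀ (Groth.Agent.H50.repWith_fst_of_isPullback sqP hpVe) hpVe sqP.w
  have hqcm : IsQuasiCompactMor f₀ := Groth.Agent.H52.isQuasiCompactMor_of_qc_qs hX₀ hY₀ f₀ hXqc hYqs
  have hP₀qc' : IsQuasiCompactSp ((yon S).obj P₀) :=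
    hqcm (IsAlgSpace.yon_obj V) (Groth.Agent.H52.isQuasiCompactSp_yon V) pV _ _ sqP
  haveI hP₀qc : CompactSpace ↥P₀.left := by
    haveI := Groth.Agent.H52.compactSpace_points_of_isQuasiCompactSp hP₀qc'
    exact (Points.schemeHomeo P₀).symm.compactSpace
  haveI hmono1 : Mono ((yon S).map δ₀) := by
    have : ((MorphismProperty.monomorphisms (Sp S))) ((yon S).map δ₀) :=
      MorphismProperty.of_isPullback (P := MorphismProperty.monomorphisms (Sp S)) sqP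
        (MorphismProperty.monomorphisms.infer_property f₀)
    exact this
  haveI hmono2 : Mono δ₀ := (yon S).mono_of_mono_map hmono1
  haveI hmono3 : Mono δ₀.left := inferInstance
  haveI hP₀qs : QuasiSeparatedSpace ↥P₀.left := quasiSeparatedSpace_of_quasiSeparated δ₀.left
  -- the system of charts
  obtain ⟨W', b, s, L, hL, a, sL, hsq, htr, hbig, hsqj, hbn, hsw, hsLs⟩ :=
    exists_chart_limit' D hDa c hc i₀ V (pV ≫ b₀)
  have hsaff : ∀ j, IsAffineHom (s j).left := by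
    intro j
    have hh' : RepWith @IsAffineHom ((yon S).map (s j)) :=
      Groth.Agent.H50.repWith_snd_of_isPullback (hsq j) (repWith_of_isAffineMor _ (hDa _ _ j.hom))
    exact (repWith_yon_map_iff @IsAffineHom _).1 hh'
  haveI : ∀ j, IsAffine ((W' ⋙ Over.forget S).obj j) := fun j => by
    haveI := hsaff j
    exact (isAffine_of_isAffineHom (s j).left : IsAffine (W'.obj j).left)
  let j₀ : Over i₀ := Over.mk (𝟙 i₀)
  haveI := hsaff j₀
  -- the chart of `Y` and the base change of `f`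
  have hwY : ((yon S).map sL ≫ pV) ≫ b₀ = a ≫ c.π.app i₀ := by
    rw [Category.assoc, hbig.w]
  obtain ⟨aY, haY⟩ : ∃ aY : (yon S).obj L.pt ⟶ Y, aY ≫ pY = (yon S).map sL ≫ pV :=
    ⟨hY.lift _ _ hwY, hY.lift_fst _ _ _⟩
  obtain ⟨fstQ, sqQ⟩ := exists_isPullback_chart sqP hX aY sL haY
  have hclL : Q (pullback.snd δ₀ sL).left := hf.2 _ _ _ sqQ
  have sqOv : IsPullback (pullback.fst δ₀ sL).left (pullback.snd δ₀ sL).left δ₀.left sL.left :=
    (IsPullback.of_hasPullback δ₀ sL).map (Over.forget S)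
  have hsLs' : (L.π.app j₀).left ≫ (s j₀).left = sL.left := by
    rw [← Over.comp_left, hsLs j₀]
  have hclA : Q (pullback.fst (((Over.forget S).mapCone L).π.app j₀)
      (pullback.snd δ₀.left (s j₀).left)) :=
    prop_of_isPullback_of_isPullback sqOv
      (isPullback_paste_aux δ₀.left (s j₀).left (L.π.app j₀).left sL.left hsLs') hclL
  haveI : QuasiSeparatedSpace ↥(pullback δ₀.left (s j₀).left) :=
    quasiSeparatedSpace_of_quasiSeparated (pullback.fst δ₀.left (s j₀).left)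
  obtain ⟨g, hg⟩ : ∃ g : pullback δ₀.left (s j₀).left ⟶ (W' ⋙ Over.forget S).obj j₀,
      g = pullback.snd δ₀.left (s j₀).left := ⟨_, rfl⟩
  have hgR : R g := by
    rw [hg]
    exact MorphismProperty.pullback_snd (P := R) δ₀.left (s j₀).left hδlft
  have hclA' : Q (pullback.fst (((Over.forget S).mapCone L).π.app j₀) g) := by
    rw [hg]; exact hclA
  obtain ⟨k, φ, hk⟩ := hdesc (W' ⋙ Over.forget S)
    ((Over.forget S).mapCone L) (isLimitOfPreserves _ hL) j₀ g hgR hclA'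
  rw [hg] at hk
  have hsk' : (W'.map φ).left ≫ (s j₀).left = (s k).left := by
    rw [← Over.comp_left, hsw k j₀ φ]
  have sqOvk : IsPullback (pullback.fst δ₀ (s k)).left (pullback.snd δ₀ (s k)).left δ₀.left (s k).left :=
    (IsPullback.of_hasPullback δ₀ (s k)).map (Over.forget S)
  have hclk : Q (pullback.snd δ₀ (s k)).left :=
    prop_of_isPullback_of_isPullback
      (isPullback_paste_aux δ₀.left (s j₀).left (W'.map φ).left (s k).left hsk') sqOvk hk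
  refine ⟨k.left, k.hom, ?_⟩
  intro Xi Yi fi pYi qYi hYi pXi hXi
  have hwYi : ((yon S).map (s k) ≫ pV) ≫ b₀ = b k ≫ D.map k.hom := by
    rw [Category.assoc, (hsq k).w]
  obtain ⟨aYi, haYi1, haYi2⟩ : ∃ aYi : (yon S).obj (W'.obj k) ⟶ Yi,
      aYi ≫ pYi = (yon S).map (s k) ≫ pV ∧ aYi ≫ qYi = b k :=
    ⟨hYi.lift _ _ hwYi, hYi.lift_fst _ _ _, hYi.lift_snd _ _ _⟩
  have sqaYi : IsPullback aYi ((yon S).map (s k)) pYi pV :=
    Groth.Agent.H52.isPullback_lift_of_comp_right hYi.flip (hsq k) aYi haYi2 haYi1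
  have haYie : RepWith @Etale aYi := Groth.Agent.H50.repWith_fst_of_isPullback sqaYi hpVe
  have haYis : RepWith @Surjective aYi := Groth.Agent.H50.repWith_fst_of_isPullback sqaYi hpVs
  obtain ⟨fstQi, sqQi⟩ := exists_isPullback_chart sqP hXi aYi (s k) haYi1
  have hrep : Representable fi := MorphismProperty.of_isPullback (P := Representable) hXi hf₀rep
  exact Groth.Agent.H50.repWith_of_isPullback_atlas hQdesc
    hrep haYie haYis sqQi ((repWith_yon_map_iff Q _).2 hclk)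



theorem descend_mono [QuasiSeparatedSpace ↥S]
    (hDa : ∀ (i j : I) (φ : i ⟶ j), IsAffineMor (D.map φ))
    (c : Cone D) (hc : IsLimit c) (i₀ : I)
    (X₀ Y₀ : Sp S) (hX₀ : IsAlgSpace X₀) (hY₀ : IsAlgSpace Y₀) (f₀ : X₀ ⟶ Y₀) (b₀ : Y₀ ⟶ D.obj i₀)
    (hXqc : IsQuasiCompactSp X₀) (hXqs : IsQuasiSeparatedSp X₀) (hYqs : IsQuasiSeparatedSp Y₀)
    (X Y : Sp S) (f : X ⟶ Y) (pY : Y ⟶ Y₀) (qY : Y ⟶ c.pt)
    (hY : IsPullback pY qY b₀ (c.π.app i₀)) (pX : X ⟶ X₀) (hX : IsPullback pX f f₀ pY)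
    [Mono f] (hf₀ : LocP @LocallyOfFiniteType f₀) :
    ∃ (i : I) (φ : i ⟶ i₀), ∀ (Xi Yi : Sp S) (fi : Xi ⟶ Yi) (pYi : Yi ⟶ Y₀) (qYi : Yi ⟶ D.obj i)
      (_ : IsPullback pYi qYi b₀ (D.map φ)) (pXi : Xi ⟶ X₀) (_ : IsPullback pXi fi f₀ pYi),
      RepWith (MorphismProperty.isomorphisms Scheme.{u}) (pullback.diagonal fi) := by
  have sq₀ := IsPullback.of_hasPullback f₀ f₀
  have hZ₀ : IsAlgSpace (pullback f₀ f₀) :=
    Groth.Agent.H52.isAlgSpace_of_isPullback sq₀ hY₀.diag hX₀ hX₀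
  have hqcm : IsQuasiCompactMor f₀ := Groth.Agent.H52.isQuasiCompactMor_of_qc_qs hX₀ hY₀ f₀ hXqc hYqs
  have hZ₀qc : IsQuasiCompactSp (pullback f₀ f₀) := hqcm hX₀ hXqc f₀ _ _ sq₀
  have hZ₀qs : IsQuasiSeparatedSp (pullback f₀ f₀) :=
    Groth.Agent.H52.isQuasiSeparatedSp_of_isPullback sq₀ hXqs hXqs
  -- the diagonal is locally of finite presentation
  have hΔ : LocP @LocallyOfFinitePresentation (pullback.diagonal f₀) := by
    have hfst : LocP @LocallyOfFiniteType (pullback.fst f₀ f₀) :=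
      Groth.Agent.H52.locP_baseChange Groth.Agent.H52.etLocal_lft hX₀ hY₀ hX₀ sq₀.flip hf₀
    have hid : LocP @LocallyOfFinitePresentation (𝟙 X₀) := by
      haveI : MorphismProperty.IsMultiplicative (@LocallyOfFinitePresentation : MorphismProperty Scheme.{u}) :=
        Groth.Agent.H50.isMultiplicative_of_id (fun _ => inferInstance)
      have := AlgSp.repWith_isMultiplicative (S := S) @LocallyOfFinitePresentation
      exact locP_of_repWith (fun _ _ g hg => by haveI := hg; infer_instance)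
        ((RepWith @LocallyOfFinitePresentation).id_mem X₀)
    let X₀' : AlgSp.Space S := ⟨X₀, hX₀⟩
    let Z₀' : AlgSp.Space S := ⟨pullback f₀ f₀, hZ₀⟩
    let Δ' : X₀' ⟶ Z₀' := ObjectProperty.homMk (pullback.diagonal f₀)
    let q' : Z₀' ⟶ X₀' := ObjectProperty.homMk (pullback.fst f₀ f₀)
    have hcomp : (Δ' ≫ q').hom = 𝟙 X₀ := pullback.diagonal_fst f₀
    exact locP_lfp_of_comp Δ' q' (by rw [hcomp]; exact hid) hfst
  have hfΔ : RepWith (MorphismProperty.isomorphisms Scheme.{u}) (pullback.diagonal f) := by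
    have := AlgSp.repWith_isMultiplicative (S := S) (MorphismProperty.isomorphisms Scheme.{u})
    exact MorphismProperty.of_isIso (RepWith (MorphismProperty.isomorphisms Scheme.{u})) _
  obtain ⟨i, φ, hi⟩ := descend_repWith D (Q := MorphismProperty.isomorphisms Scheme.{u})
    (R := @LocallyOfFinitePresentation) inferInstance
    (fun F _ cF hcF j₀ _ _ _ g hg h => by
      haveI := hg
      exact Groth.Agent.H9.DescP.exists_isIso_pullback_fst F cF hcF j₀ g h)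
    hDa c hc i₀ X₀ (pullback f₀ f₀) hX₀ hZ₀
    (pullback.diagonal f₀) (pullback.fst f₀ f₀ ≫ f₀ ≫ b₀) hXqc hZ₀qc hZ₀qs X (pullback f f)
    (pullback.diagonal f) (pullback.map f f f₀ f₀ pX pX pY hX.w.symm hX.w.symm) (pullback.fst f f ≫ f ≫ qY)
    (Groth.Agent.H94.AlgSpLimit12.isPullback_map_diag hY hX) pX
    (Groth.Agent.H94.AlgSpLimit12.isPullback_diag_diag hX) hfΔ
    (Groth.Agent.H51.representable_pullback_diagonal hX₀ f₀) hΔ
  refine ⟨i, φ, ?_⟩
  intro Xi Yi fi pYi qYi hYi pXi hXi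
  exact hi Xi (pullback fi fi) (pullback.diagonal fi)
    (pullback.map fi fi f₀ f₀ pXi pXi pYi hXi.w.symm hXi.w.symm) (pullback.fst fi fi ≫ fi ≫ qYi)
    (Groth.Agent.H94.AlgSpLimit12.isPullback_map_diag hYi hXi) pXi
    (Groth.Agent.H94.AlgSpLimit12.isPullback_diag_diag hXi)

theorem mono_of_repWith_isomorphisms_diagonal {F G : Sp S} (f : F ⟶ G)
    (h : RepWith (MorphismProperty.isomorphisms Scheme.{u}) (pullback.diagonal f)) : Mono f := by
  rw [← pullback.isIso_diagonal_iff]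
  apply Groth.Agent.H52.isIso_of_representable_of_forall_isIso _ h.1
  intro T V g fst snd sq
  have h3 : IsIso snd.left := h.2 _ _ _ sq
  have h4 : IsIso ((Over.forget S).map snd) := h3
  exact isIso_of_reflects_iso snd (Over.forget S)

theorem main [QuasiSeparatedSpace ↥S]
    (hD : ∀ i, AlgSp.IsAlgSpace (D.obj i))
    (hDa : ∀ (i j : I) (φ : i ⟶ j), AlgSp.IsAffineMor (D.map φ))
    (c : Cone D) (hc : IsLimit c) (i₀ : I)
    (hBqc : AlgSp.IsQuasiCompactSp (D.obj i₀)) (hBqs : AlgSp.IsQuasiSeparatedSp (D.obj i₀))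
    (X₀ Y₀ : AlgSp.Space S) (f₀ : X₀.obj ⟶ Y₀.obj) (b₀ : Y₀.obj ⟶ D.obj i₀)
    (hXqc : AlgSp.IsQuasiCompactSp X₀.obj) (hXqs : AlgSp.IsQuasiSeparatedSp X₀.obj)
    (hYqc : AlgSp.IsQuasiCompactSp Y₀.obj) (hYqs : AlgSp.IsQuasiSeparatedSp Y₀.obj)
    (X Y : AlgSp.Sp S) (f : X ⟶ Y) (pY : Y ⟶ Y₀.obj) (qY : Y ⟶ c.pt)
    (hY : IsPullback pY qY b₀ (c.π.app i₀)) (pX : X ⟶ X₀.obj) (hX : IsPullback pX f f₀ pY)
    [Mono f] (hf₀ : AlgSp.LocP @LocallyOfFiniteType f₀) :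
    ∃ (i : I) (φ : i ⟶ i₀), ∀ (Xi Yi : AlgSp.Sp S) (fi : Xi ⟶ Yi) (pYi : Yi ⟶ Y₀.obj) (qYi : Yi ⟶ D.obj i)
      (_ : IsPullback pYi qYi b₀ (D.map φ)) (pXi : Xi ⟶ X₀.obj) (_ : IsPullback pXi fi f₀ pYi),
      Mono fi := by
  obtain ⟨i, φ, hi⟩ := descend_mono D hDa c hc i₀ X₀.obj Y₀.obj X₀.property Y₀.property f₀ b₀ hXqc hXqs
    hYqs X Y f pY qY hY pX hX hf₀
  exact ⟨i, φ, fun Xi Yi fi pYi qYi hYi pXi hXi =>
    mono_of_repWith_isomorphisms_diagonal fi (hi Xi Yi fi pYi qYi hYi pXi hXi)⟩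

end

end Groth.Agent.H94.AlgSpLimit17
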