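import Mathlib
import Groth.Prelude.Def_AlgSp4
import Mathlib.AlgebraicGeometry.Morphisms.QuasiSeparated
import Groth.Agent.H94.AlgSpLimit17
import Groth.Agent.H52.EpiFppf
set_option autoImplicit false
universe u
open CategoryTheory CategoryTheory.Limits AlgebraicGeometry Topology
open AlgSp
namespace Groth.Agent.H94.AlgSpLimit18
open Groth.Agent.H50 Groth.Agent.H94.AlgSpLimit Groth.Agent.H94.AlgSpLimit9 Groth.Agent.H94.AlgSpLimit10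
open Groth.Agent.H94.AlgSpLimit15 Groth.Agent.H94.AlgSpLimit16

variable {S : Scheme.{u}}

section
variable {I : Type u} [SmallCategory I] [IsCofiltered I]

/-- Two properties of objects over `i₀`, both stable under precomposition, hold at a common object. -/
theorem exists_common {i₀ : I} (Pr₁ Pr₂ : ∀ i : I, (i ⟶ i₀) → Prop)
    (h₁ : ∀ (i i' : I) (ψ : i' ⟶ i) (φ : i ⟶ i₀), Pr₁ i φ → Pr₁ i' (ψ ≫ φ))
    (h₂ : ∀ (i i' : I) (ψ : i' ⟶ i) (φ : i ⟶ i₀), Pr₂ i φ → Pr₂ i' (ψ ≫ φ))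
    (e₁ : ∃ (i : I) (φ : i ⟶ i₀), Pr₁ i φ) (e₂ : ∃ (i : I) (φ : i ⟶ i₀), Pr₂ i φ) :
    ∃ (i : I) (φ : i ⟶ i₀), Pr₁ i φ ∧ Pr₂ i φ := by
  obtain ⟨i₁, φ₁, p₁⟩ := e₁
  obtain ⟨i₂, φ₂, p₂⟩ := e₂
  let a₁ : IsCofiltered.min i₁ i₂ ⟶ i₁ := IsCofiltered.minToLeft i₁ i₂
  let a₂ : IsCofiltered.min i₁ i₂ ⟶ i₂ := IsCofiltered.minToRight i₁ i₂
  let t := IsCofiltered.eqHom (a₁ ≫ φ₁) (a₂ ≫ φ₂)
  have ht : t ≫ a₁ ≫ φ₁ = t ≫ a₂ ≫ φ₂ := IsCofiltered.eq_condition _ _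
  refine ⟨_, (t ≫ a₁) ≫ φ₁, h₁ _ _ _ _ p₁, ?_⟩
  have : (t ≫ a₁) ≫ φ₁ = (t ≫ a₂) ≫ φ₂ := by
    rw [Category.assoc, Category.assoc]; exact ht
  rw [this]
  exact h₂ _ _ _ _ p₂

variable (D : I ⥤ Sp S)

/-- Every base change of `f₀` along the index `(i, φ)` has the property `Pr`. -/
def AllBC (Pr : MorphismProperty (Sp S)) {i₀ : I} {X₀ Y₀ : Sp S} (f₀ : X₀ ⟶ Y₀) (b₀ : Y₀ ⟶ D.obj i₀)
    (i : I) (φ : i ⟶ i₀) : Prop :=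
  ∀ (Xi Yi : Sp S) (fi : Xi ⟶ Yi) (pYi : Yi ⟶ Y₀) (qYi : Yi ⟶ D.obj i)
    (_ : IsPullback pYi qYi b₀ (D.map φ)) (pXi : Xi ⟶ X₀) (_ : IsPullback pXi fi f₀ pYi), Pr fi

theorem allBC_of_hom (hD : ∀ i, IsAlgSpace (D.obj i)) (Pr : MorphismProperty (Sp S))
    (hPr : ∀ {A B A' B' : Sp S} {g : A ⟶ B} {g' : A' ⟶ B'} {l : A' ⟶ A} {q : B' ⟶ B},
      IsPullback l g' g q → IsAlgSpace A → IsAlgSpace B → IsAlgSpace B' → Pr g → Pr g')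
    {i₀ : I} {X₀ Y₀ : Sp S} (hX₀ : IsAlgSpace X₀) (hY₀ : IsAlgSpace Y₀)
    (f₀ : X₀ ⟶ Y₀) (b₀ : Y₀ ⟶ D.obj i₀)
    (i i' : I) (ψ : i' ⟶ i) (φ : i ⟶ i₀) (h : AllBC D Pr f₀ b₀ i φ) :
    AllBC D Pr f₀ b₀ i' (ψ ≫ φ) := by
  intro Xi' Yi' fi' pYi' qYi' hYi' pXi' hXi'
  have sqY := IsPullback.of_hasPullback b₀ (D.map φ)
  have sqX := IsPullback.of_hasPullback f₀ (pullback.fst b₀ (D.map φ))
  have hfi : Pr (pullback.snd f₀ (pullback.fst b₀ (D.map φ))) := h _ _ _ _ _ sqY _ sqX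
  have hYi : IsAlgSpace (pullback b₀ (D.map φ)) :=
    Groth.Agent.H52.isAlgSpace_of_isPullback sqY (hD i₀).diag hY₀ (hD i)
  have hXi : IsAlgSpace (pullback f₀ (pullback.fst b₀ (D.map φ))) :=
    Groth.Agent.H52.isAlgSpace_of_isPullback sqX hY₀.diag hX₀ hYi
  have hYi'a : IsAlgSpace Yi' :=
    Groth.Agent.H52.isAlgSpace_of_isPullback hYi' (hD i₀).diag hY₀ (hD i')
  have w1 : pYi' ≫ b₀ = (qYi' ≫ D.map ψ) ≫ D.map φ := by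
    rw [Category.assoc, ← D.map_comp]; exact hYi'.w
  obtain ⟨q, hq1, hq2⟩ : ∃ q : Yi' ⟶ pullback b₀ (D.map φ),
      q ≫ pullback.fst b₀ (D.map φ) = pYi' ∧ q ≫ pullback.snd b₀ (D.map φ) = qYi' ≫ D.map ψ :=
    ⟨pullback.lift _ _ w1, pullback.lift_fst _ _ _, pullback.lift_snd _ _ _⟩
  have w2 : pXi' ≫ f₀ = (fi' ≫ q) ≫ pullback.fst b₀ (D.map φ) := by
    rw [Category.assoc, hq1]; exact hXi'.w
  obtain ⟨l, hl1, hl2⟩ : ∃ l : Xi' ⟶ pullback f₀ (pullback.fst b₀ (D.map φ)),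
      l ≫ pullback.fst f₀ (pullback.fst b₀ (D.map φ)) = pXi' ∧
      l ≫ pullback.snd f₀ (pullback.fst b₀ (D.map φ)) = fi' ≫ q :=
    ⟨pullback.lift _ _ w2, pullback.lift_fst _ _ _, pullback.lift_snd _ _ _⟩
  have big : IsPullback (l ≫ pullback.fst f₀ (pullback.fst b₀ (D.map φ))) fi' f₀
      (q ≫ pullback.fst b₀ (D.map φ)) := by
    rw [hl1, hq1]; exact hXi'
  have sq : IsPullback l fi' (pullback.snd f₀ (pullback.fst b₀ (D.map φ))) q :=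
    IsPullback.of_right big hl2 sqX
  exact hPr sq hXi hYi hYi'a hfi


theorem descend_iso [QuasiSeparatedSpace ↥S] (hD : ∀ i, IsAlgSpace (D.obj i))
    (hDa : ∀ (i j : I) (φ : i ⟶ j), IsAffineMor (D.map φ))
    (c : Cone D) (hc : IsLimit c) (i₀ : I)
    (X₀ Y₀ : Sp S) (hX₀ : IsAlgSpace X₀) (hY₀ : IsAlgSpace Y₀) (f₀ : X₀ ⟶ Y₀) (b₀ : Y₀ ⟶ D.obj i₀)
    (hXqc : IsQuasiCompactSp X₀) (hXqs : IsQuasiSeparatedSp X₀)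
    (hYqc : IsQuasiCompactSp Y₀) (hYqs : IsQuasiSeparatedSp Y₀)
    (X Y : Sp S) (f : X ⟶ Y) (pY : Y ⟶ Y₀) (qY : Y ⟶ c.pt)
    (hY : IsPullback pY qY b₀ (c.π.app i₀)) (pX : X ⟶ X₀) (hX : IsPullback pX f f₀ pY)
    [IsIso f] (hf₀ : LocP @LocallyOfFinitePresentation f₀) :
    ∃ (i : I) (φ : i ⟶ i₀), ∀ (Xi Yi : Sp S) (fi : Xi ⟶ Yi) (pYi : Yi ⟶ Y₀) (qYi : Yi ⟶ D.obj i)
      (_ : IsPullback pYi qYi b₀ (D.map φ)) (pXi : Xi ⟶ X₀) (_ : IsPullback pXi fi f₀ pYi),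
      IsIso fi := by
  have hlft : LocP @LocallyOfFiniteType f₀ := fun _ _ a b h ha hb comm => by
    haveI := hf₀ a b h ha hb comm
    infer_instance
  have hfet : LocP @Etale f :=
    Groth.Agent.H51.locP_etale_of_isEtaleMor f (Groth.Agent.H51.isEtaleMor_of_isIso f)
  have hffl : LocP @Flat f := fun _ _ a b h ha hb comm => by
    haveI := hfet a b h ha hb comm
    infer_instance
  have hfsurj : IsSurjectiveMor f := by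
    intro y
    refine ⟨Points.map (inv f) y, ?_⟩
    rw [← Points.map_comp, IsIso.inv_hom_id, Points.map_id]
  let Pr₁ : MorphismProperty (Sp S) := fun _ _ g => Mono g
  have e₁ : ∃ (i : I) (φ : i ⟶ i₀), AllBC D Pr₁ f₀ b₀ i φ := by
    obtain ⟨i, φ, hi⟩ := Groth.Agent.H94.AlgSpLimit17.descend_mono D hDa c hc i₀ X₀ Y₀ hX₀ hY₀ f₀ b₀
      hXqc hXqs hYqs X Y f pY qY hY pX hX hlft
    exact ⟨i, φ, fun Xi Yi fi pYi qYi hYi pXi hXi =>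
      Groth.Agent.H94.AlgSpLimit17.mono_of_repWith_isomorphisms_diagonal fi
        (hi Xi Yi fi pYi qYi hYi pXi hXi)⟩
  have e₂ : ∃ (i : I) (φ : i ⟶ i₀), AllBC D (LocP @Flat) f₀ b₀ i φ :=
    descend_locP D Groth.Agent.H52.etLocal_flat
      (fun F _ cF hcF j₀ _ _ _ g _ h => Groth.Agent.H9.DescP.exists_flat_pullback_fst F cF hcF j₀ g h)
      hDa c hc i₀ X₀ Y₀ hX₀ hY₀ f₀ b₀ hXqc hYqc hYqs X Y f pY qY hY pX hX hffl hf₀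
  have e₃ : ∃ (i : I) (φ : i ⟶ i₀), AllBC D IsSurjectiveMor f₀ b₀ i φ :=
    Groth.Agent.H94.AlgSpLimit11.descend_surjective D hDa c hc i₀ X₀ Y₀ hX₀ hY₀ f₀ b₀ hXqc hYqc hYqs
      X Y f pY qY hY pX hX hfsurj hf₀
  have s₁ := allBC_of_hom D hD Pr₁
    (fun sq _ _ _ h => MorphismProperty.of_isPullback (P := MorphismProperty.monomorphisms (Sp S)) sq h)
    hX₀ hY₀ f₀ b₀
  have s₂ := allBC_of_hom D hD (LocP @Flat)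
    (fun sq hA hB hB' h => Groth.Agent.H52.locP_baseChange Groth.Agent.H52.etLocal_flat hA hB hB' sq h)
    hX₀ hY₀ f₀ b₀
  have s₃ := allBC_of_hom D hD IsSurjectiveMor
    (fun sq _ _ _ h => Groth.Agent.H52.surjective_map_snd_of_isPullback sq h)
    hX₀ hY₀ f₀ b₀
  obtain ⟨i₂₃, φ₂₃, h₂₃⟩ := exists_common _ _ s₂ s₃ e₂ e₃
  obtain ⟨i, φ, h1, h2, h3⟩ := exists_common (AllBC D Pr₁ f₀ b₀)
    (fun i φ => AllBC D (LocP @Flat) f₀ b₀ i φ ∧ AllBC D IsSurjectiveMor f₀ b₀ i φ) s₁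
    (fun i i' ψ φ h => ⟨s₂ i i' ψ φ h.1, s₃ i i' ψ φ h.2⟩) e₁ ⟨i₂₃, φ₂₃, h₂₃⟩
  refine ⟨i, φ, ?_⟩
  intro Xi Yi fi pYi qYi hYi pXi hXi
  have hYia : IsAlgSpace Yi :=
    Groth.Agent.H52.isAlgSpace_of_isPullback hYi (hD i₀).diag hY₀ (hD i)
  have hXia : IsAlgSpace Xi :=
    Groth.Agent.H52.isAlgSpace_of_isPullback hXi hY₀.diag hX₀ hYia
  haveI hm : Mono fi := h1 Xi Yi fi pYi qYi hYi pXi hXi
  have hfl : LocP @Flat fi := h2 Xi Yi fi pYi qYi hYi pXi hXi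
  have hsj : IsSurjectiveMor fi := h3 Xi Yi fi pYi qYi hYi pXi hXi
  have hlfp : LocP @LocallyOfFinitePresentation fi :=
    Groth.Agent.H52.locP_baseChange Groth.Agent.H52.etLocal_lfp hX₀ hY₀ hYia hXi hf₀
  haveI : Epi fi := Groth.Agent.H52.epi_of_fppf_mor hXia hYia fi hfl hlfp hsj
  exact isIso_of_mono_of_epi fi

theorem main [QuasiSeparatedSpace ↥S]
    (hD : ∀ i, AlgSp.IsAlgSpace (D.obj i))
    (hDa : ∀ (i j : I) (φ : i ⟶ j), AlgSp.IsAffineMor (D.map φ))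
    (c : Cone D) (hc : IsLimit c) (i₀ : I)
    (hBqc : AlgSp.IsQuasiCompactSp (D.obj i₀)) (hBqs : AlgSp.IsQuasiSeparatedSp (D.obj i₀))
    (X₀ Y₀ : AlgSp.Space S) (f₀ : X₀.obj ⟶ Y₀.obj) (b₀ : Y₀.obj ⟶ D.obj i₀)
    (hXqc : AlgSp.IsQuasiCompactSp X₀.obj) (hXqs : AlgSp.IsQuasiSeparatedSp X₀.obj)
    (hYqc : AlgSp.IsQuasiCompactSp Y₀.obj) (hYqs : AlgSp.IsQuasiSeparatedSp Y₀.obj)
    (X Y : AlgSp.Sp S) (f : X ⟶ Y) (pY : Y ⟶ Y₀.obj) (qY : Y ⟶ c.pt)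
    (hY : IsPullback pY qY b₀ (c.π.app i₀)) (pX : X ⟶ X₀.obj) (hX : IsPullback pX f f₀ pY)
    [IsIso f] (hf₀ : AlgSp.LocP @LocallyOfFinitePresentation f₀) :
    ∃ (i : I) (φ : i ⟶ i₀), ∀ (Xi Yi : AlgSp.Sp S) (fi : Xi ⟶ Yi) (pYi : Yi ⟶ Y₀.obj) (qYi : Yi ⟶ D.obj i)
      (_ : IsPullback pYi qYi b₀ (D.map φ)) (pXi : Xi ⟶ X₀.obj) (_ : IsPullback pXi fi f₀ pYi),
      IsIso fi :=
  descend_iso D hD hDa c hc i₀ X₀.obj Y₀.obj X₀.property Y₀.property f₀ b₀ hXqc hXqs hYqc hYqs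
    X Y f pY qY hY pX hX hf₀

end

end Groth.Agent.H94.AlgSpLimit18
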