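import Mathlib
import Groth.Prelude.Def_AlgSp4
import Mathlib.AlgebraicGeometry.Morphisms.QuasiSeparated
import Groth.Agent.H94.AlgSpLimit18
import Groth.Agent.H52.Sections
import Groth.Agent.H52.ProdAtlas
import Groth.Agent.H50.Permanence
import Groth.Agent.H51.AffineMor
set_option autoImplicit false
universe u
open CategoryTheory CategoryTheory.Limits AlgebraicGeometry Topology
open AlgSp
namespace Groth.Agent.H94.AlgSpLimit19
open Groth.Agent.H50 Groth.Agent.H94.AlgSpLimit Groth.Agent.H94.AlgSpLimit9 Groth.Agent.H94.AlgSpLimit10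
open Groth.Agent.H94.AlgSpLimit15 Groth.Agent.H94.AlgSpLimit16

variable {S : Scheme.{u}}

/-- A product of quasi-compact sheaves over a quasi-separated base is quasi-compact. -/
theorem isQuasiCompactSp_prod [QuasiSeparatedSpace ↥S] {X Y : Sp S} (hX : IsQuasiCompactSp X)
    (hY : IsQuasiCompactSp Y) : IsQuasiCompactSp (X ⨯ Y) := by
  obtain ⟨U, a, hae, has, hU⟩ := hX
  obtain ⟨V, b, hbe, hbs, hV⟩ := hY
  haveI := hU
  haveI := hV
  refine ⟨U ⨯ V, prodComparison (yon S) U V ≫ prod.map a b,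
    Groth.Agent.H52.repWith_prodComparison_prod_map hae hbe,
    Groth.Agent.H52.repWith_prodComparison_prod_map has hbs, ?_⟩
  have : CompactSpace ↥(pullback U.hom V.hom) := inferInstance
  exact (Scheme.homeoOfIso (Over.prodLeftIsoPullback U V)).symm.compactSpace

/-- The graph of `φ` is a base change of the diagonal. -/
theorem isPullback_graph {C : Type*} [Category C] [HasBinaryProducts C] {A B : C} (φ : A ⟶ B) :
    IsPullback φ (prod.lift (𝟙 A) φ) (Limits.diag B) (prod.map φ (𝟙 B)) := by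
  have w : φ ≫ Limits.diag B = prod.lift (𝟙 A) φ ≫ prod.map φ (𝟙 B) := by
    apply Limits.prod.hom_ext
    · simp [Limits.diag]
    · simp [Limits.diag]
  refine ⟨⟨w⟩, ⟨PullbackCone.IsLimit.mk w (fun s => s.snd ≫ prod.fst) ?_ ?_ ?_⟩⟩
  · intro s
    have h1 := congr($(s.condition) ≫ prod.fst)
    simp only [Category.assoc, Limits.diag, prod.lift_fst, Category.comp_id, prod.map_fst] at h1
    rw [Category.assoc]; exact h1.symm
  · intro s
    have h1 := congr($(s.condition) ≫ prod.fst)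
    simp only [Category.assoc, Limits.diag, prod.lift_fst, Category.comp_id, prod.map_fst] at h1
    have h2 := congr($(s.condition) ≫ prod.snd)
    simp only [Category.assoc, Limits.diag, prod.lift_snd, Category.comp_id, prod.map_snd] at h2
    apply Limits.prod.hom_ext
    · rw [Category.assoc, prod.lift_fst, Category.comp_id]
    · rw [Category.assoc, prod.lift_snd, Category.assoc, ← h1, h2]
  · intro s m _ hm2
    rw [← hm2, Category.assoc, prod.lift_fst, Category.comp_id]

section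
variable {I : Type u} [SmallCategory I] [IsCofiltered I] (D : I ⥤ Sp S)

/-- The system `j ↦ X ⨯ D_j`. -/
noncomputable def prodSys (X : Sp S) : I ⥤ Sp S where
  obj j := X ⨯ D.obj j
  map φ := prod.map (𝟙 X) (D.map φ)
  map_id j := by rw [D.map_id]; exact prod.map_id_id
  map_comp φ ψ := by rw [D.map_comp]; exact prod.map_id_comp _ _

noncomputable def pfst (X : Sp S) (j : I) : (prodSys D X).obj j ⟶ X := prod.fst
noncomputable def psnd (X : Sp S) (j : I) : (prodSys D X).obj j ⟶ D.obj j := prod.snd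

lemma prodSys_map_fst (X : Sp S) {j k : I} (φ : j ⟶ k) :
    (prodSys D X).map φ ≫ pfst D X k = pfst D X j := by
  show prod.map (𝟙 X) (D.map φ) ≫ prod.fst = prod.fst
  rw [prod.map_fst, Category.comp_id]

lemma prodSys_map_snd (X : Sp S) {j k : I} (φ : j ⟶ k) :
    (prodSys D X).map φ ≫ psnd D X k = psnd D X j ≫ D.map φ := by
  show prod.map (𝟙 X) (D.map φ) ≫ prod.snd = prod.snd ≫ D.map φ
  rw [prod.map_snd]

lemma prodSys_hom_ext (X : Sp S) {j : I} {T : Sp S} (a b : T ⟶ (prodSys D X).obj j)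
    (h1 : a ≫ pfst D X j = b ≫ pfst D X j) (h2 : a ≫ psnd D X j = b ≫ psnd D X j) : a = b :=
  Limits.prod.hom_ext h1 h2

/-- The cone `X ⨯ c` over `j ↦ X ⨯ D_j`. -/
noncomputable def prodCone (X : Sp S) (c : Cone D) : Cone (prodSys D X) where
  pt := X ⨯ c.pt
  π := { app := fun j => prod.map (𝟙 X) (c.π.app j)
         naturality := fun j k φ => by
           show 𝟙 _ ≫ prod.map (𝟙 X) (c.π.app k) = prod.map (𝟙 X) (c.π.app j) ≫ prod.map (𝟙 X) (D.map φ)
           rw [Category.id_comp, ← prod.map_id_comp, c.w] }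

noncomputable def cfst (X : Sp S) (c : Cone D) : (prodCone D X c).pt ⟶ X := prod.fst
noncomputable def csnd (X : Sp S) (c : Cone D) : (prodCone D X c).pt ⟶ c.pt := prod.snd

lemma prodCone_fst (X : Sp S) (c : Cone D) (j : I) :
    (prodCone D X c).π.app j ≫ pfst D X j = cfst D X c := by
  show prod.map (𝟙 X) (c.π.app j) ≫ prod.fst = prod.fst
  rw [prod.map_fst, Category.comp_id]

lemma prodCone_snd (X : Sp S) (c : Cone D) (j : I) :
    (prodCone D X c).π.app j ≫ psnd D X j = csnd D X c ≫ c.π.app j := by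
  show prod.map (𝟙 X) (c.π.app j) ≫ prod.snd = prod.snd ≫ c.π.app j
  rw [prod.map_snd]

lemma prodCone_hom_ext (X : Sp S) (c : Cone D) {T : Sp S} (a b : T ⟶ (prodCone D X c).pt)
    (h1 : a ≫ cfst D X c = b ≫ cfst D X c) (h2 : a ≫ csnd D X c = b ≫ csnd D X c) : a = b :=
  Limits.prod.hom_ext h1 h2

lemma fst_indep (X : Sp S) (s : Cone (prodSys D X)) (j k : I) :
    s.π.app j ≫ pfst D X j = s.π.app k ≫ pfst D X k := by
  have h : ∀ (m l : I) (φ : m ⟶ l), s.π.app m ≫ pfst D X m = s.π.app l ≫ pfst D X l := by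
    intro m l φ
    rw [← s.w φ, Category.assoc, prodSys_map_fst]
  rw [← h _ _ (IsCofiltered.minToLeft j k), ← h _ _ (IsCofiltered.minToRight j k)]

/-- The cone of second components of a cone over `j ↦ X ⨯ D_j`. -/
noncomputable def sndCone (X : Sp S) (s : Cone (prodSys D X)) : Cone D where
  pt := s.pt
  π := { app := fun j => s.π.app j ≫ psnd D X j
         naturality := fun j k φ => by
           show 𝟙 _ ≫ s.π.app k ≫ psnd D X k = (s.π.app j ≫ psnd D X j) ≫ D.map φ
           rw [Category.id_comp, ← s.w φ, Category.assoc, prodSys_map_snd, Category.assoc] }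

noncomputable def sndLift (X : Sp S) (c : Cone D) (hc : IsLimit c) (s : Cone (prodSys D X)) :
    s.pt ⟶ c.pt := hc.lift (sndCone D X s)

lemma sndLift_app (X : Sp S) (c : Cone D) (hc : IsLimit c) (s : Cone (prodSys D X)) (j : I) :
    sndLift D X c hc s ≫ c.π.app j = s.π.app j ≫ psnd D X j := hc.fac (sndCone D X s) j

lemma sndLift_uniq (X : Sp S) (c : Cone D) (hc : IsLimit c) (s : Cone (prodSys D X))
    (m : s.pt ⟶ c.pt) (h : ∀ j, m ≫ c.π.app j = s.π.app j ≫ psnd D X j) :
    m = sndLift D X c hc s := hc.uniq (sndCone D X s) m h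

noncomputable def pLift (X : Sp S) (c : Cone D) (hc : IsLimit c) (s : Cone (prodSys D X)) :
    s.pt ⟶ (prodCone D X c).pt :=
  prod.lift (s.π.app (Classical.choice IsCofiltered.nonempty) ≫ pfst D X _) (sndLift D X c hc s)

lemma pLift_fst (X : Sp S) (c : Cone D) (hc : IsLimit c) (s : Cone (prodSys D X)) :
    pLift D X c hc s ≫ cfst D X c =
      s.π.app (Classical.choice IsCofiltered.nonempty) ≫ pfst D X _ := prod.lift_fst _ _

lemma pLift_snd (X : Sp S) (c : Cone D) (hc : IsLimit c) (s : Cone (prodSys D X)) :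
    pLift D X c hc s ≫ csnd D X c = sndLift D X c hc s := prod.lift_snd _ _

noncomputable def isLimitProdCone (X : Sp S) (c : Cone D) (hc : IsLimit c) :
    IsLimit (prodCone D X c) where
  lift s := pLift D X c hc s
  fac s j := by
    apply prodSys_hom_ext
    · rw [Category.assoc, prodCone_fst, pLift_fst]
      exact fst_indep D X s _ _
    · rw [Category.assoc, prodCone_snd, ← Category.assoc, pLift_snd, sndLift_app]
  uniq s m hm := by
    apply prodCone_hom_ext
    · rw [pLift_fst, ← hm, Category.assoc, prodCone_fst]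
    · rw [pLift_snd]
      apply sndLift_uniq
      intro j
      rw [← hm, Category.assoc, Category.assoc, prodCone_snd]


theorem main [QuasiSeparatedSpace ↥S] (hD : ∀ i, IsAlgSpace (D.obj i))
    (hDa : ∀ (i j : I) (φ : i ⟶ j), IsAffineMor (D.map φ))
    (hqc : ∀ i, IsQuasiCompactSp (D.obj i)) (hqs : ∀ i, IsQuasiSeparatedSp (D.obj i))
    (c : Cone D) (hc : IsLimit c) (hX : IsSeparatedSp c.pt) : ∃ i, IsSeparatedSp (D.obj i) := by
  obtain ⟨hXalg, hπaff⟩ := Groth.Agent.H94.AlgSpLimit.main D hD hDa c hc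
  obtain ⟨i₀⟩ := IsCofiltered.nonempty (C := I)
  -- `X` is quasi-compact
  have hXqc : IsQuasiCompactSp c.pt := by
    have h := Groth.Agent.H51.isQuasiCompactMor_of_isAffineMor (X := ⟨c.pt, hXalg⟩)
      (Y := ⟨D.obj i₀, hD i₀⟩) (ObjectProperty.homMk (c.π.app i₀)) (hπaff i₀)
    exact h (hD i₀) (hqc i₀) (𝟙 _) (𝟙 _) (c.π.app i₀) (IsPullback.id_horiz _)
  -- Step A: the graphs of the projections are eventually closed immersions
  let t' : prodSys D c.pt ⟶ (Functor.const I).obj c.pt :=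
    { app := fun j => pfst D c.pt j
      naturality := fun j k φ => by
        show (prodSys D c.pt).map φ ≫ pfst D c.pt k = pfst D c.pt j ≫ 𝟙 _
        rw [prodSys_map_fst, Category.comp_id] }
  have hD' : ∀ i, IsAlgSpace ((prodSys D c.pt).obj i) := fun i =>
    Groth.Agent.H52.isAlgSpace_prod hXalg (hD i)
  have hDa' : ∀ (i j : I) (φ : i ⟶ j), IsAffineMor ((prodSys D c.pt).map φ) := fun i j φ =>
    Groth.Agent.H50.isAffineMor_snd_of_isPullback
      (Groth.Agent.H50.isPullback_prod_id_map (D.map φ) c.pt) (hDa i j φ)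
  have hqc' : ∀ i, IsQuasiCompactSp ((prodSys D c.pt).obj i) := fun i =>
    isQuasiCompactSp_prod hXqc (hqc i)
  have hyB : LocP @LocallyOfFiniteType
      (Limits.diag c.pt ≫ (prodCone D c.pt c).π.app i₀ ≫ t'.app i₀) := by
    have h1 : Limits.diag c.pt ≫ (prodCone D c.pt c).π.app i₀ ≫ t'.app i₀ = 𝟙 c.pt := by
      have e : (prodCone D c.pt c).π.app i₀ ≫ t'.app i₀ = cfst D c.pt c := prodCone_fst D c.pt c i₀
      exact (congrArg (fun m : (c.pt ⨯ c.pt) ⟶ c.pt => Limits.diag c.pt ≫ m) e).trans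
        (prod.lift_fst _ _)
    rw [h1]
    intro U V a b h ha hb comm
    haveI := Groth.Agent.H94.AlgSpLimit13.locP_lfp_id c.pt a b h ha hb comm
    infer_instance
  obtain ⟨j₁, hj₁⟩ := eventually_closedImmersion (prodSys D c.pt) c.pt hXalg hD' t' hDa'
    (prodCone D c.pt c) (isLimitProdCone D c.pt c hc) hqc' c.pt (Limits.diag c.pt) hX i₀ hyB
  have hΓ : RepWith @IsClosedImmersion (prod.lift (𝟙 c.pt) (c.π.app j₁)) := by
    have h1 := hj₁ j₁ (𝟙 j₁)
    have h2 : Limits.diag c.pt ≫ (prodCone D c.pt c).π.app j₁ = prod.lift (𝟙 c.pt) (c.π.app j₁) := by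
      show Limits.diag c.pt ≫ prod.map (𝟙 c.pt) (c.π.app j₁) = _
      apply Limits.prod.hom_ext
      · simp [Limits.diag]
      · simp [Limits.diag]
    exact (congrArg (fun f : c.pt ⟶ (c.pt ⨯ D.obj j₁) => RepWith @IsClosedImmersion f) h2).mp h1
  -- Step B: descend along the system `D_j ⨯ D_{j₁}`
  have hYalg : IsAlgSpace (D.obj j₁ ⨯ D.obj j₁) := Groth.Agent.H52.isAlgSpace_prod (hD j₁) (hD j₁)
  have hYqc : IsQuasiCompactSp (D.obj j₁ ⨯ D.obj j₁) := isQuasiCompactSp_prod (hqc j₁) (hqc j₁)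
  have hYqs : IsQuasiSeparatedSp (D.obj j₁ ⨯ D.obj j₁) :=
    Groth.Agent.H52.isQuasiSeparatedSp_of_isPullback
      (IsPullback.of_hasBinaryProduct' (D.obj j₁) (D.obj j₁)) (hqs j₁) (hqs j₁)
  haveI : Mono (Limits.diag (D.obj j₁)) :=
    mono_of_mono_fac (show Limits.diag (D.obj j₁) ≫ prod.fst = 𝟙 _ from prod.lift_fst _ _)
  obtain ⟨j, φ, hj⟩ := descend_closedImmersion_rep D hDa c hc j₁ (D.obj j₁) (D.obj j₁ ⨯ D.obj j₁)
    (hD j₁) hYalg (Limits.diag (D.obj j₁)) prod.fst (hqc j₁) hYqc hYqs c.pt (c.pt ⨯ D.obj j₁)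
    (prod.lift (𝟙 c.pt) (c.π.app j₁)) (prod.map (c.π.app j₁) (𝟙 _)) prod.fst
    (Groth.Agent.H50.isPullback_prod_map_id (c.π.app j₁) (D.obj j₁)).flip (c.π.app j₁)
    (isPullback_graph (c.π.app j₁)) hΓ (Groth.Agent.H52.diag_props (hD j₁)).1
  have hΓj : RepWith @IsClosedImmersion (prod.lift (𝟙 (D.obj j)) (D.map φ)) :=
    hj (D.obj j) (D.obj j ⨯ D.obj j₁) (prod.lift (𝟙 (D.obj j)) (D.map φ))
      (prod.map (D.map φ) (𝟙 _)) prod.fst
      (Groth.Agent.H50.isPullback_prod_map_id (D.map φ) (D.obj j₁)).flip (D.map φ)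
      (isPullback_graph (D.map φ))
  -- Step C: cancellation
  refine ⟨j, ?_⟩
  have haff : IsAffineMor (prod.map (𝟙 (D.obj j)) (D.map φ)) :=
    Groth.Agent.H50.isAffineMor_snd_of_isPullback
      (Groth.Agent.H50.isPullback_prod_id_map (D.map φ) (D.obj j)) (hDa _ _ φ)
  have hsep : IsSeparatedMor (prod.map (𝟙 (D.obj j)) (D.map φ)) :=
    Groth.Agent.H51.isSeparatedMor_of_isAffineMor
      (X := ⟨D.obj j ⨯ D.obj j, Groth.Agent.H52.isAlgSpace_prod (hD j) (hD j)⟩)
      (Y := ⟨D.obj j ⨯ D.obj j₁, Groth.Agent.H52.isAlgSpace_prod (hD j) (hD j₁)⟩)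
      (ObjectProperty.homMk (prod.map (𝟙 (D.obj j)) (D.map φ))) haff
  have hcomp : Limits.diag (D.obj j) ≫ prod.map (𝟙 (D.obj j)) (D.map φ) =
      prod.lift (𝟙 (D.obj j)) (D.map φ) := by
    apply Limits.prod.hom_ext
    · simp [Limits.diag]
    · simp [Limits.diag]
  exact Groth.Agent.H50.repWith_of_comp_of_diagonal (Q := @IsClosedImmersion)
    (P := @IsClosedImmersion) (P' := @IsClosedImmersion)
    (fun _ _ _ k l hk hl => by haveI := hk; haveI := hl; infer_instance)
    (Limits.diag (D.obj j)) (prod.map (𝟙 (D.obj j)) (D.map φ)) hsep (by rw [hcomp]; exact hΓj)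

end

end Groth.Agent.H94.AlgSpLimit19
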