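import Mathlib
import Groth.Prelude.Def_AlgSpSub
import Groth.Agent.H94.AlgSpLimit
import Groth.Agent.H51.Reduced
import Groth.Agent.H50.Etale
set_option autoImplicit false
universe u
open CategoryTheory CategoryTheory.Limits AlgebraicGeometry
open AlgSp
namespace Groth.Agent.H94.AlgSpLimit2
open Groth.Agent.H94.AlgSpLimit

variable {S : Scheme.{u}}

/-- cofiltered limit of reduced affine schemes is reduced. -/
theorem isReduced_of_isLimit {J : Type u} [SmallCategory J] [IsCofiltered J] (F : J ⥤ Scheme.{u})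
    [∀ j, IsAffine (F.obj j)] (hred : ∀ j, IsReduced (F.obj j)) (c : Cone F) (hc : IsLimit c) :
    IsReduced c.pt := by
  haveI : IsAffine c.pt := Scheme.isAffine_of_isLimit c hc
  haveI : _root_.IsReduced Γ(c.pt, ⊤) := by
    constructor
    intro a ha
    obtain ⟨n, hn⟩ := ha
    obtain ⟨j, t, rfl⟩ := exists_appTop_π_eq_of_isAffine_of_isLimit F c hc a
    rw [← map_pow] at hn
    obtain ⟨k, f, hk⟩ := exists_appTop_map_eq_zero_of_isAffine_of_isLimit F c hc j (t ^ n) hn
    rw [map_pow] at hk
    haveI := hred k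
    have h0 : (F.map f).appTop t = 0 := IsNilpotent.eq_zero ⟨n, hk⟩
    have hw : (c.π.app j).appTop t = (c.π.app k).appTop ((F.map f).appTop t) := by
      rw [← c.w f, Scheme.Hom.comp_appTop]
      rfl
    rw [hw, h0, map_zero]
  exact isReduced_of_isAffine_isReduced c.pt

/-- a scheme etale over a reduced sheaf is reduced. -/
theorem isReduced_of_etale_chart {F : Sp S} (hF : IsReducedSp F) {W : Over S}
    (a : (yon S).obj W ⟶ F) (ha : RepWith @Etale a) : IsReduced W.left := by
  obtain ⟨V, b, hbe, hbs, hV⟩ := hF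
  obtain ⟨U₁, p, h, hpe, hps, ha₁e, hcomm, -, -⟩ :=
    Groth.Agent.H51.exists_chart_over (𝟙 F) a b ha hbe hbs
  have hV' : IsReduced V.left := hV
  have hh : Etale h.left :=
    Groth.Agent.H50.etale_of_charts ((yon S).map p ≫ a) b ha₁e hbe h (by rw [← hcomm, Category.comp_id])
  have hU₁ : IsReduced U₁.left := Groth.Agent.H51.isReduced_of_smooth h.left
  exact Groth.Agent.H51.isReduced_of_flat_of_surjective p.left


section
variable {I : Type u} [SmallCategory I] [IsCofiltered I] (D : I ⥤ Sp S)

/-- base change of the limit to an affine chart of `D_i`: it is the limit of a cofiltered system of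
affine schemes representing the base changes of the `D_j`. -/
theorem exists_limit_data (hDa : ∀ (i j : I) (φ : i ⟶ j), IsAffineMor (D.map φ))
    (c : Cone D) (hc : IsLimit c) (i : I) {Z : Over S} (hZ : IsAffine Z.left)
    (g : (yon S).obj Z ⟶ D.obj i) :
    ∃ (W' : Over i ⥤ Over S) (_ : W' ⋙ yon S ≅ E D g) (L : Cone W') (_ : IsLimit L),
      (∀ j, IsAffine (W'.obj j).left) ∧ IsAffine L.pt.left ∧
        Nonempty ((yon S).obj L.pt ≅ pullback (c.π.app i) g) := by
  have hE : ∀ j, (yon S).essImage ((E D g).obj j) := by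
    intro j
    obtain ⟨W, iW, fst, sq, hW⟩ := hDa _ _ j.hom hZ g
    exact ⟨W, ⟨sq.isoPullback⟩⟩
  let W' : Over i ⥤ Over S := Functor.essImage.liftFunctor (E D g) (yon S) hE
  let eW : W' ⋙ yon S ≅ E D g := Functor.essImage.liftFunctorCompIso (E D g) (yon S) hE
  have hWaff : ∀ j, IsAffine ((W' ⋙ Over.forget S).obj j) := by
    intro j
    obtain ⟨W, iW, fst, sq, hW⟩ := hDa _ _ j.hom hZ g
    have e : (yon S).obj (W'.obj j) ≅ (yon S).obj W := eW.app j ≪≫ sq.isoPullback.symm
    have e' : W'.obj j ≅ W := (yon S).preimageIso e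
    haveI : IsAffine ((Over.forget S).obj W) := hW
    exact IsAffine.of_isIso ((Over.forget S).mapIso e').hom
  haveI : ∀ (j k : Over i) (f : j ⟶ k), IsAffineHom ((W' ⋙ Over.forget S).map f) := by
    intro j k f
    haveI := hWaff j
    haveI := hWaff k
    infer_instance
  haveI : HasLimit (W' ⋙ Over.forget S) := Groth.Agent.H94.AffineLimit.hasLimit _
  haveI : IsConnected (Over i) := IsCofiltered.isConnected _
  haveI : HasLimit W' := hasLimit_of_created W' (Over.forget S)
  have hL : IsLimit (limit.cone W') := limit.isLimit W'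
  have hLaff : IsAffine (limit W').left :=
    Scheme.isAffine_of_isLimit ((Over.forget S).mapCone (limit.cone W')) (isLimitOfPreserves _ hL)
  have hyL : IsLimit ((yon S).mapCone (limit.cone W')) := isLimitOfPreserves _ hL
  have hyL' : IsLimit ((Cone.postcompose eW.hom).obj ((yon S).mapCone (limit.cone W'))) :=
    (IsLimit.postcomposeHomEquiv eW _).symm hyL
  exact ⟨W', eW, limit.cone W', hL, hWaff, hLaff,
    ⟨hyL'.conePointUniqueUpToIso (isLimitPE D g c hc)⟩⟩

end

/-- an affine morphism of sheaves: representing object of a base change together with its cover by the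
affine schemes representing the base changes to the members of the affine cover. -/
theorem exists_pullback_with_cover {X Y : Sp S} (f : X ⟶ Y) (hf : IsAffineMor f) (T : Over S)
    (g : (yon S).obj T ⟶ Y) :
    ∃ (G : Over S) (fst : (yon S).obj G ⟶ X) (snd : G ⟶ T), IsPullback fst ((yon S).map snd) f g ∧
      ∀ a : T.left.affineCover.I₀, ∃ (Wa : Over S)
        (ia : Wa ⟶ Groth.Agent.H51.ZarGlue.coverOver T T.left.affineCover a)
        (fsta : (yon S).obj Wa ⟶ X) (ca : Wa ⟶ G),
        IsPullback fsta ((yon S).map ia) f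
          ((yon S).map (Groth.Agent.H51.ZarGlue.coverOverι T T.left.affineCover a) ≫ g) ∧
        IsAffine Wa.left ∧ IsPullback ca.left ia.left snd.left (T.left.affineCover.f a) := by
  let 𝒰 : Scheme.OpenCover.{u} T.left := T.left.affineCover
  have hx := fun a => hf (Z := Groth.Agent.H51.ZarGlue.coverOver T 𝒰 a)
    (inferInstanceAs (IsAffine (𝒰.X a)))
    ((yon S).map (Groth.Agent.H51.ZarGlue.coverOverι T 𝒰 a) ≫ g)
  choose Wa i fst sqa haff using hx
  have hcomm : ∀ a, fst a ≫ f =
      (yon S).map (i a ≫ Groth.Agent.H51.ZarGlue.coverOverι T 𝒰 a) ≫ g := by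
    intro a
    rw [(sqa a).w, Functor.map_comp, Category.assoc]
  let φ : ∀ a, (yon S).obj (Wa a) ⟶ pullback f g := fun a =>
    pullback.lift (fst a) ((yon S).map (i a ≫ Groth.Agent.H51.ZarGlue.coverOverι T 𝒰 a)) (hcomm a)
  have sq : ∀ a, IsPullback (φ a) ((yon S).map (i a)) (pullback.snd f g)
      ((yon S).map (Groth.Agent.H51.ZarGlue.coverOverι T 𝒰 a)) := by
    intro a
    exact Groth.Agent.H52.isPullback_lift_of_comp_right (IsPullback.of_hasPullback f g) (sqa a)
      (φ a) (pullback.lift_fst _ _ _) (by rw [pullback.lift_snd, Functor.map_comp])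
  obtain ⟨G, e, snd, c, he, hc, hsq⟩ :=
    Groth.Agent.H51.ZarGlue.exists_iso_yon_of_openCover (pullback.snd f g) 𝒰 Wa i φ sq
  refine ⟨G, e.hom ≫ pullback.fst f g, snd, ?_, ?_⟩
  · rw [← he]
    exact IsPullback.of_iso (IsPullback.of_hasPullback f g) e.symm (Iso.refl _) (Iso.refl _)
      (Iso.refl _) (by simp) (by simp) (by simp) (by simp)
  · intro a
    exact ⟨Wa a, i a, fst a, c a, sqa a, haff a, hsq a⟩


section
variable {I : Type u} [SmallCategory I] [IsCofiltered I] (D : I ⥤ Sp S)
open Groth.Agent.H51.ZarGlue in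
theorem isReducedSp_limit (hDa : ∀ (i j : I) (φ : i ⟶ j), IsAffineMor (D.map φ))
    (c : Cone D) (hc : IsLimit c) (hred : ∀ i, IsReducedSp (D.obj i)) : IsReducedSp c.pt := by
  obtain ⟨i₀⟩ := IsCofiltered.nonempty (C := I)
  obtain ⟨U₀, p₀, hp₀e, hp₀s, -⟩ := hred i₀
  obtain ⟨G, fst, snd, sq, hcov⟩ :=
    exists_pullback_with_cover (c.π.app i₀) (isAffineMor_π D hDa c hc i₀) U₀ p₀
  refine ⟨G, fst, Groth.Agent.H50.repWith_fst_of_isPullback sq hp₀e,
    Groth.Agent.H50.repWith_fst_of_isPullback sq hp₀s, ?_⟩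
  show IsReduced G.left
  have hWa : ∀ (a : U₀.left.affineCover.I₀) (Wa : Over S)
      (ia : Wa ⟶ coverOver U₀ U₀.left.affineCover a) (fsta : (yon S).obj Wa ⟶ c.pt),
      IsPullback fsta ((yon S).map ia) (c.π.app i₀)
        ((yon S).map (coverOverι U₀ U₀.left.affineCover a) ≫ p₀) → IsReduced Wa.left := by
    intro a Wa ia fsta sqa
    set ga := (yon S).map (coverOverι U₀ U₀.left.affineCover a) ≫ p₀ with hga_def
    have hoi : Etale (coverOverι U₀ U₀.left.affineCover a).left :=
      inferInstanceAs (Etale (U₀.left.affineCover.f a))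
    have hga : RepWith @Etale ga :=
      (RepWith @Etale).comp_mem _ _ ((repWith_yon_map_iff @Etale _).2 hoi) hp₀e
    obtain ⟨W', eW, L, hL, hWaff, hLaff, ⟨e⟩⟩ := exists_limit_data D hDa c hc i₀
      (Z := coverOver U₀ U₀.left.affineCover a)
      (inferInstanceAs (IsAffine (U₀.left.affineCover.X a))) ga
    have hW'red : ∀ j, IsReduced ((W' ⋙ Over.forget S).obj j) := by
      intro j
      have hfst : RepWith @Etale (pullback.fst (D.map j.hom) ga) :=
        Groth.Agent.H50.repWith_fst_of_isPullback (IsPullback.of_hasPullback _ _) hga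
      have h2 : RepWith @Etale ((eW.app j).hom ≫ pullback.fst (D.map j.hom) ga) :=
        (RepWith @Etale).comp_mem _ _ (MorphismProperty.of_isIso _ _) hfst
      exact isReduced_of_etale_chart (hred j.left) _ h2
    haveI : ∀ j, IsAffine ((W' ⋙ Over.forget S).obj j) := hWaff
    haveI : IsConnected (Over i₀) := IsCofiltered.isConnected _
    have hLred : IsReduced L.pt.left :=
      isReduced_of_isLimit (W' ⋙ Over.forget S) hW'red ((Over.forget S).mapCone L)
        (isLimitOfPreserves _ hL)
    have e1 : (yon S).obj Wa ≅ (yon S).obj L.pt := sqa.isoPullback ≪≫ e.symm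
    have e2 : Wa ≅ L.pt := (yon S).preimageIso e1
    have e3 : Wa.left ≅ L.pt.left := (Over.forget S).mapIso e2
    exact isReduced_of_isOpenImmersion e3.hom
  let 𝒱 := (U₀.left.affineCover).pullback₁ snd.left
  haveI : ∀ a, IsReduced (𝒱.X a) := by
    intro a
    obtain ⟨Wa, ia, fsta, ca, sqa, haff, hsq⟩ := hcov a
    haveI := hWa a Wa ia fsta sqa
    exact isReduced_of_isOpenImmersion (hsq.isoPullback.inv)
  exact IsReduced.of_openCover (X := G.left) 𝒱
end

end Groth.Agent.H94.AlgSpLimit2
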