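import Mathlib
import Groth.Prelude.Def_AlgSp4
import Mathlib.AlgebraicGeometry.Morphisms.QuasiSeparated
import Groth.Agent.H94.AlgSpLimit19
import Groth.Agent.H51.ThickSep
set_option autoImplicit false
universe u
open CategoryTheory CategoryTheory.Limits AlgebraicGeometry Topology
open AlgSp
namespace Groth.Agent.H94.AlgSpLimit20
open Groth.Agent.H50 Groth.Agent.H94.AlgSpLimit Groth.Agent.H94.AlgSpLimit9 Groth.Agent.H94.AlgSpLimit10
open Groth.Agent.H94.AlgSpLimit15 Groth.Agent.H94.AlgSpLimit16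

section Cat
variable {C : Type*} [Category C] [HasPullbacks C]

/-- `A ×_Y W ⟶ B ×_Y W` induced by `ψ : A ⟶ B`. -/
noncomputable def mapL {A B W Y : C} (ψ : A ⟶ B) (p : B ⟶ Y) (a : A ⟶ Y) (ha : ψ ≫ p = a) (q : W ⟶ Y) :
    pullback a q ⟶ pullback p q :=
  pullback.lift (pullback.fst a q ≫ ψ) (pullback.snd a q) (by
    rw [Category.assoc, ha, pullback.condition])

lemma mapL_fst {A B W Y : C} (ψ : A ⟶ B) (p : B ⟶ Y) (a : A ⟶ Y) (ha : ψ ≫ p = a) (q : W ⟶ Y) :
    mapL ψ p a ha q ≫ pullback.fst p q = pullback.fst a q ≫ ψ := pullback.lift_fst _ _ _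

lemma mapL_snd {A B W Y : C} (ψ : A ⟶ B) (p : B ⟶ Y) (a : A ⟶ Y) (ha : ψ ≫ p = a) (q : W ⟶ Y) :
    mapL ψ p a ha q ≫ pullback.snd p q = pullback.snd a q := pullback.lift_snd _ _ _

theorem isPullback_mapL {A B W Y : C} (ψ : A ⟶ B) (p : B ⟶ Y) (a : A ⟶ Y) (ha : ψ ≫ p = a)
    (q : W ⟶ Y) : IsPullback (mapL ψ p a ha q) (pullback.fst a q) (pullback.fst p q) ψ := by
  refine IsPullback.of_right ?_ (mapL_fst ψ p a ha q) (IsPullback.of_hasPullback p q).flip
  rw [mapL_snd, ha]
  exact (IsPullback.of_hasPullback a q).flip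

/-- `W ×_Y A ⟶ W ×_Y B` induced by `ψ : A ⟶ B`. -/
noncomputable def mapR {A B W Y : C} (ψ : A ⟶ B) (p : B ⟶ Y) (a : A ⟶ Y) (ha : ψ ≫ p = a) (q : W ⟶ Y) :
    pullback q a ⟶ pullback q p :=
  pullback.lift (pullback.fst q a) (pullback.snd q a ≫ ψ) (by
    rw [Category.assoc, ha, pullback.condition])

lemma mapR_fst {A B W Y : C} (ψ : A ⟶ B) (p : B ⟶ Y) (a : A ⟶ Y) (ha : ψ ≫ p = a) (q : W ⟶ Y) :
    mapR ψ p a ha q ≫ pullback.fst q p = pullback.fst q a := pullback.lift_fst _ _ _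

lemma mapR_snd {A B W Y : C} (ψ : A ⟶ B) (p : B ⟶ Y) (a : A ⟶ Y) (ha : ψ ≫ p = a) (q : W ⟶ Y) :
    mapR ψ p a ha q ≫ pullback.snd q p = pullback.snd q a ≫ ψ := pullback.lift_snd _ _ _

theorem isPullback_mapR {A B W Y : C} (ψ : A ⟶ B) (p : B ⟶ Y) (a : A ⟶ Y) (ha : ψ ≫ p = a)
    (q : W ⟶ Y) : IsPullback (mapR ψ p a ha q) (pullback.snd q a) (pullback.snd q p) ψ := by
  refine IsPullback.of_right ?_ (mapR_snd ψ p a ha q) (IsPullback.of_hasPullback q p)
  rw [mapR_fst, ha]
  exact IsPullback.of_hasPullback q a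

/-- The graph `A ⟶ A ×_Y B` of `ψ : A ⟶ B` over `Y`. -/
noncomputable def graph {A B Y : C} (ψ : A ⟶ B) (p : B ⟶ Y) (a : A ⟶ Y) (ha : ψ ≫ p = a) :
    A ⟶ pullback a p :=
  pullback.lift (𝟙 A) ψ (by rw [Category.id_comp, ha])

lemma graph_fst {A B Y : C} (ψ : A ⟶ B) (p : B ⟶ Y) (a : A ⟶ Y) (ha : ψ ≫ p = a) :
    graph ψ p a ha ≫ pullback.fst a p = 𝟙 A := pullback.lift_fst _ _ _

lemma graph_snd {A B Y : C} (ψ : A ⟶ B) (p : B ⟶ Y) (a : A ⟶ Y) (ha : ψ ≫ p = a) :
    graph ψ p a ha ≫ pullback.snd a p = ψ := pullback.lift_snd _ _ _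

/-- The graph of `ψ` is a base change of the relative diagonal. -/
theorem isPullback_graph_rel {A B Y : C} (ψ : A ⟶ B) (p : B ⟶ Y) (a : A ⟶ Y) (ha : ψ ≫ p = a) :
    IsPullback ψ (graph ψ p a ha) (pullback.diagonal p) (mapL ψ p a ha p) := by
  have w : ψ ≫ pullback.diagonal p = graph ψ p a ha ≫ mapL ψ p a ha p := by
    apply pullback.hom_ext
    · rw [Category.assoc, pullback.diagonal_fst, Category.comp_id, Category.assoc, mapL_fst,
        ← Category.assoc, graph_fst, Category.id_comp]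
    · rw [Category.assoc, pullback.diagonal_snd, Category.comp_id, Category.assoc, mapL_snd,
        graph_snd]
  refine ⟨⟨w⟩, ⟨PullbackCone.IsLimit.mk w (fun s => s.snd ≫ pullback.fst a p) ?_ ?_ ?_⟩⟩
  · intro s
    have h1 := congr($(s.condition) ≫ pullback.fst p p)
    rw [Category.assoc, pullback.diagonal_fst, Category.comp_id, Category.assoc, mapL_fst] at h1
    rw [Category.assoc]; exact h1.symm
  · intro s
    have h1 := congr($(s.condition) ≫ pullback.fst p p)
    rw [Category.assoc, pullback.diagonal_fst, Category.comp_id, Category.assoc, mapL_fst] at h1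
    have h2 := congr($(s.condition) ≫ pullback.snd p p)
    rw [Category.assoc, pullback.diagonal_snd, Category.comp_id, Category.assoc, mapL_snd] at h2
    apply pullback.hom_ext
    · rw [Category.assoc, graph_fst, Category.comp_id]
    · rw [Category.assoc, graph_snd, Category.assoc, ← h1, h2]
  · intro s m _ hm2
    rw [← hm2, Category.assoc, graph_fst, Category.comp_id]

lemma diagonal_comp_mapR {A B Y : C} (ψ : A ⟶ B) (p : B ⟶ Y) (a : A ⟶ Y) (ha : ψ ≫ p = a) :
    pullback.diagonal a ≫ mapR ψ p a ha a = graph ψ p a ha := by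
  apply pullback.hom_ext
  · rw [Category.assoc, mapR_fst, pullback.diagonal_fst, graph_fst]
  · rw [Category.assoc, mapR_snd, ← Category.assoc, pullback.diagonal_snd, Category.id_comp, graph_snd]

end Cat

variable {S : Scheme.{u}}

section
variable {I : Type u} [SmallCategory I] [IsCofiltered I] (D : I ⥤ Sp S)
  {Y : Sp S} (t : D ⟶ (Functor.const I).obj Y)

lemma t_nat {j k : I} (φ : j ⟶ k) : D.map φ ≫ t.app k = t.app j :=
  (t.naturality φ).trans (Category.comp_id _)

/-- The system `j ↦ X ×_Y D_j`. -/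
noncomputable def relSys {X : Sp S} (g : X ⟶ Y) : I ⥤ Sp S where
  obj j := pullback g (t.app j)
  map {j k} φ := mapR (D.map φ) (t.app k) (t.app j) (t_nat D t φ) g
  map_id j := by
    apply pullback.hom_ext
    · rw [mapR_fst, Category.id_comp]
    · rw [mapR_snd, D.map_id, Category.comp_id, Category.id_comp]
  map_comp φ ψ := by
    apply pullback.hom_ext
    · rw [mapR_fst, Category.assoc, mapR_fst, mapR_fst]
    · rw [mapR_snd, Category.assoc, mapR_snd, ← Category.assoc, mapR_snd, Category.assoc, D.map_comp]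

variable {X : Sp S} (g : X ⟶ Y)

noncomputable def rfst (j : I) : (relSys D t g).obj j ⟶ X := pullback.fst _ _
noncomputable def rsnd (j : I) : (relSys D t g).obj j ⟶ D.obj j := pullback.snd _ _

lemma rcond (j : I) : rfst D t g j ≫ g = rsnd D t g j ≫ t.app j := pullback.condition

lemma relSys_map_fst {j k : I} (φ : j ⟶ k) :
    (relSys D t g).map φ ≫ rfst D t g k = rfst D t g j := mapR_fst _ _ _ (t_nat D t φ) _

lemma relSys_map_snd {j k : I} (φ : j ⟶ k) :
    (relSys D t g).map φ ≫ rsnd D t g k = rsnd D t g j ≫ D.map φ := mapR_snd _ _ _ (t_nat D t φ) _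

lemma relSys_hom_ext {j : I} {T : Sp S} (a b : T ⟶ (relSys D t g).obj j)
    (h1 : a ≫ rfst D t g j = b ≫ rfst D t g j) (h2 : a ≫ rsnd D t g j = b ≫ rsnd D t g j) : a = b :=
  pullback.hom_ext h1 h2

lemma rfst_indep (s : Cone (relSys D t g)) (j k : I) :
    s.π.app j ≫ rfst D t g j = s.π.app k ≫ rfst D t g k := by
  have h : ∀ (m l : I) (φ : m ⟶ l), s.π.app m ≫ rfst D t g m = s.π.app l ≫ rfst D t g l := by
    intro m l φ
    rw [← s.w φ, Category.assoc, relSys_map_fst]
  rw [← h _ _ (IsCofiltered.minToLeft j k), ← h _ _ (IsCofiltered.minToRight j k)]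

/-- The cone of second components of a cone over `j ↦ X ×_Y D_j`. -/
noncomputable def rsndCone (s : Cone (relSys D t g)) : Cone D where
  pt := s.pt
  π := { app := fun j => s.π.app j ≫ rsnd D t g j
         naturality := fun j k φ => by
           show 𝟙 _ ≫ s.π.app k ≫ rsnd D t g k = (s.π.app j ≫ rsnd D t g j) ≫ D.map φ
           rw [Category.id_comp, ← s.w φ, Category.assoc, relSys_map_snd, Category.assoc] }

end

section
variable {I : Type u} [SmallCategory I] [IsCofiltered I] (D : I ⥤ Sp S)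
  {Y : Sp S} (t : D ⟶ (Functor.const I).obj Y) (c : Cone D) (g : c.pt ⟶ Y)
  (hg : ∀ i, c.π.app i ≫ t.app i = g)

/-- The cone `X ×_Y X` over `j ↦ X ×_Y D_j`. -/
noncomputable def relCone : Cone (relSys D t g) where
  pt := pullback g g
  π := { app := fun j => mapR (c.π.app j) (t.app j) g (hg j) g
         naturality := fun j k φ => by
           show 𝟙 _ ≫ mapR (c.π.app k) (t.app k) g (hg k) g =
             mapR (c.π.app j) (t.app j) g (hg j) g ≫ mapR (D.map φ) (t.app k) (t.app j) (t_nat D t φ) g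
           apply pullback.hom_ext
           · rw [Category.id_comp, mapR_fst, Category.assoc, mapR_fst, mapR_fst]
           · rw [Category.id_comp, mapR_snd, Category.assoc, mapR_snd, ← Category.assoc, mapR_snd,
               Category.assoc, c.w] }

noncomputable def rcfst : (relCone D t c g hg).pt ⟶ c.pt := pullback.fst _ _
noncomputable def rcsnd : (relCone D t c g hg).pt ⟶ c.pt := pullback.snd _ _

lemma relCone_fst (j : I) :
    (relCone D t c g hg).π.app j ≫ rfst D t g j = rcfst D t c g hg := mapR_fst _ _ _ (hg j) _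

lemma relCone_snd (j : I) :
    (relCone D t c g hg).π.app j ≫ rsnd D t g j = rcsnd D t c g hg ≫ c.π.app j := mapR_snd _ _ _ (hg j) _

lemma relCone_hom_ext {T : Sp S} (a b : T ⟶ (relCone D t c g hg).pt)
    (h1 : a ≫ rcfst D t c g hg = b ≫ rcfst D t c g hg)
    (h2 : a ≫ rcsnd D t c g hg = b ≫ rcsnd D t c g hg) : a = b :=
  pullback.hom_ext h1 h2

noncomputable def rsndLift (hc : IsLimit c) (s : Cone (relSys D t g)) : s.pt ⟶ c.pt :=
  hc.lift (rsndCone D t g s)

lemma rsndLift_app (hc : IsLimit c) (s : Cone (relSys D t g)) (j : I) :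
    rsndLift D t c g hc s ≫ c.π.app j = s.π.app j ≫ rsnd D t g j := hc.fac (rsndCone D t g s) j

lemma rsndLift_uniq (hc : IsLimit c) (s : Cone (relSys D t g))
    (m : s.pt ⟶ c.pt) (h : ∀ j, m ≫ c.π.app j = s.π.app j ≫ rsnd D t g j) :
    m = rsndLift D t c g hc s := hc.uniq (rsndCone D t g s) m h

include hg in
lemma rpLift_cond (hc : IsLimit c) (s : Cone (relSys D t g)) (j₀ : I) :
    (s.π.app j₀ ≫ rfst D t g j₀) ≫ g = rsndLift D t c g hc s ≫ g := by
  have h1 : (s.π.app j₀ ≫ rfst D t g j₀) ≫ g = (rsndLift D t c g hc s ≫ c.π.app j₀) ≫ t.app j₀ := by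
    rw [Category.assoc, rcond, ← Category.assoc, ← rsndLift_app]
  rw [h1, Category.assoc, hg]

noncomputable def rpLift (hc : IsLimit c) (s : Cone (relSys D t g)) :
    s.pt ⟶ (relCone D t c g hg).pt :=
  pullback.lift (s.π.app (Classical.choice IsCofiltered.nonempty) ≫ rfst D t g _)
    (rsndLift D t c g hc s) (rpLift_cond D t c g hg hc s _)

lemma rpLift_fst (hc : IsLimit c) (s : Cone (relSys D t g)) :
    rpLift D t c g hg hc s ≫ rcfst D t c g hg =
      s.π.app (Classical.choice IsCofiltered.nonempty) ≫ rfst D t g _ := pullback.lift_fst _ _ _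

lemma rpLift_snd (hc : IsLimit c) (s : Cone (relSys D t g)) :
    rpLift D t c g hg hc s ≫ rcsnd D t c g hg = rsndLift D t c g hc s := pullback.lift_snd _ _ _

noncomputable def isLimitRelCone (hc : IsLimit c) : IsLimit (relCone D t c g hg) where
  lift s := rpLift D t c g hg hc s
  fac s j := by
    apply relSys_hom_ext
    · rw [Category.assoc, relCone_fst, rpLift_fst]
      exact rfst_indep D t g s _ _
    · rw [Category.assoc, relCone_snd, ← Category.assoc, rpLift_snd, rsndLift_app]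
  uniq s m hm := by
    apply relCone_hom_ext
    · rw [rpLift_fst, ← hm, Category.assoc, relCone_fst]
    · rw [rpLift_snd]
      apply rsndLift_uniq
      intro j
      rw [← hm, Category.assoc, Category.assoc, relCone_snd]

end

section
variable {I : Type u} [SmallCategory I] [IsCofiltered I] (D : I ⥤ Sp S)

theorem main [QuasiSeparatedSpace ↥S] (Y : AlgSp.Space S) (hD : ∀ i, IsAlgSpace (D.obj i))
    (t : D ⟶ (Functor.const I).obj Y.obj)
    (hDa : ∀ (i j : I) (φ : i ⟶ j), IsAffineMor (D.map φ))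
    (c : Cone D) (hc : IsLimit c) (g : c.pt ⟶ Y.obj) (hg : ∀ i, c.π.app i ≫ t.app i = g)
    (hqc : ∀ i, IsQuasiCompactSp (D.obj i)) (hqs : ∀ i, IsQuasiSeparatedSp (D.obj i))
    (hYqs : IsQuasiSeparatedSp Y.obj) (hX : IsSeparatedMor g) :
    ∃ i₀ : I, ∀ (i : I) (_ : i ⟶ i₀), IsSeparatedMor (t.app i) := by
  obtain ⟨hXalg, hπaff⟩ := Groth.Agent.H94.AlgSpLimit.main D hD hDa c hc
  obtain ⟨i₀⟩ := IsCofiltered.nonempty (C := I)
  have hXqc : IsQuasiCompactSp c.pt := by
    have h := Groth.Agent.H51.isQuasiCompactMor_of_isAffineMor (X := ⟨c.pt, hXalg⟩)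
      (Y := ⟨D.obj i₀, hD i₀⟩) (ObjectProperty.homMk (c.π.app i₀)) (hπaff i₀)
    exact h (hD i₀) (hqc i₀) (𝟙 _) (𝟙 _) (c.π.app i₀) (IsPullback.id_horiz _)
  have hgqc : IsQuasiCompactMor g :=
    Groth.Agent.H52.isQuasiCompactMor_of_qc_qs hXalg Y.property g hXqc hYqs
  -- Step A
  let t' : relSys D t g ⟶ (Functor.const I).obj c.pt :=
    { app := fun j => rfst D t g j
      naturality := fun j k φ => by
        show (relSys D t g).map φ ≫ rfst D t g k = rfst D t g j ≫ 𝟙 _
        rw [relSys_map_fst, Category.comp_id] }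
  have hD' : ∀ i, IsAlgSpace ((relSys D t g).obj i) := fun i =>
    Groth.Agent.H52.isAlgSpace_of_isPullback (IsPullback.of_hasPullback g (t.app i))
      Y.property.diag hXalg (hD i)
  have hDa' : ∀ (i j : I) (φ : i ⟶ j), IsAffineMor ((relSys D t g).map φ) := fun i j φ =>
    Groth.Agent.H50.isAffineMor_snd_of_isPullback
      (isPullback_mapR (D.map φ) (t.app j) (t.app i) (t_nat D t φ) g).flip (hDa i j φ)
  have hqc' : ∀ i, IsQuasiCompactSp ((relSys D t g).obj i) := fun i =>
    hgqc (hD i) (hqc i) (t.app i) (pullback.fst _ _) (pullback.snd _ _)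
      (IsPullback.of_hasPullback g (t.app i))
  have hyB : LocP @LocallyOfFiniteType
      (pullback.diagonal g ≫ (relCone D t c g hg).π.app i₀ ≫ t'.app i₀) := by
    have h1 : pullback.diagonal g ≫ (relCone D t c g hg).π.app i₀ ≫ t'.app i₀ = 𝟙 c.pt := by
      have e : (relCone D t c g hg).π.app i₀ ≫ t'.app i₀ = rcfst D t c g hg :=
        relCone_fst D t c g hg i₀
      exact (congrArg (fun m : pullback g g ⟶ c.pt => pullback.diagonal g ≫ m) e).trans
        (pullback.diagonal_fst g)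
    rw [h1]
    intro U V a b h ha hb comm
    have := Groth.Agent.H94.AlgSpLimit13.locP_lfp_id c.pt a b h ha hb comm
    infer_instance
  obtain ⟨j₁, hj₁⟩ := eventually_closedImmersion (relSys D t g) c.pt hXalg hD' t' hDa'
    (relCone D t c g hg) (isLimitRelCone D t c g hg hc) hqc' c.pt (pullback.diagonal g) hX i₀ hyB
  have hΓ : RepWith @IsClosedImmersion (graph (c.π.app j₁) (t.app j₁) g (hg j₁)) := by
    have h1 := hj₁ j₁ (𝟙 j₁)
    have h2 : pullback.diagonal g ≫ (relCone D t c g hg).π.app j₁ =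
        graph (c.π.app j₁) (t.app j₁) g (hg j₁) := diagonal_comp_mapR (c.π.app j₁) (t.app j₁) g (hg j₁)
    exact (congrArg (fun f : c.pt ⟶ pullback g (t.app j₁) => RepWith @IsClosedImmersion f) h2).mp h1
  -- Step B
  have sq₁ := IsPullback.of_hasPullback (t.app j₁) (t.app j₁)
  have hZalg : IsAlgSpace (pullback (t.app j₁) (t.app j₁)) :=
    Groth.Agent.H52.isAlgSpace_of_isPullback sq₁ Y.property.diag (hD j₁) (hD j₁)
  have htqc : IsQuasiCompactMor (t.app j₁) :=
    Groth.Agent.H52.isQuasiCompactMor_of_qc_qs (hD j₁) Y.property (t.app j₁) (hqc j₁) hYqs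
  have hZqc : IsQuasiCompactSp (pullback (t.app j₁) (t.app j₁)) :=
    htqc (hD j₁) (hqc j₁) (t.app j₁) _ _ sq₁
  have hZqs : IsQuasiSeparatedSp (pullback (t.app j₁) (t.app j₁)) :=
    Groth.Agent.H52.isQuasiSeparatedSp_of_isPullback sq₁ (hqs j₁) (hqs j₁)
  haveI : Mono (pullback.diagonal (t.app j₁)) := mono_of_mono_fac (pullback.diagonal_fst _)
  obtain ⟨j, φ, hj⟩ := descend_closedImmersion_rep D hDa c hc j₁ (D.obj j₁)
    (pullback (t.app j₁) (t.app j₁)) (hD j₁) hZalg (pullback.diagonal (t.app j₁))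
    (pullback.fst _ _) (hqc j₁) hZqc hZqs c.pt (pullback g (t.app j₁))
    (graph (c.π.app j₁) (t.app j₁) g (hg j₁)) (mapL (c.π.app j₁) (t.app j₁) g (hg j₁) (t.app j₁))
    (pullback.fst g (t.app j₁)) (isPullback_mapL (c.π.app j₁) (t.app j₁) g (hg j₁) (t.app j₁))
    (c.π.app j₁) (isPullback_graph_rel (c.π.app j₁) (t.app j₁) g (hg j₁)) hΓ
    (Groth.Agent.H51.repWith_locallyOfFiniteType_diagonal (hD j₁) Y.property (t.app j₁))
  have hΓj : RepWith @IsClosedImmersion (graph (D.map φ) (t.app j₁) (t.app j) (t_nat D t φ)) :=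
    hj (D.obj j) (pullback (t.app j) (t.app j₁)) (graph (D.map φ) (t.app j₁) (t.app j) (t_nat D t φ))
      (mapL (D.map φ) (t.app j₁) (t.app j) (t_nat D t φ) (t.app j₁)) (pullback.fst _ _)
      (isPullback_mapL (D.map φ) (t.app j₁) (t.app j) (t_nat D t φ) (t.app j₁)) (D.map φ)
      (isPullback_graph_rel (D.map φ) (t.app j₁) (t.app j) (t_nat D t φ))
  -- Step C
  have haff : IsAffineMor (mapR (D.map φ) (t.app j₁) (t.app j) (t_nat D t φ) (t.app j)) :=
    Groth.Agent.H50.isAffineMor_snd_of_isPullback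
      (isPullback_mapR (D.map φ) (t.app j₁) (t.app j) (t_nat D t φ) (t.app j)).flip (hDa _ _ φ)
  have hsep : IsSeparatedMor (mapR (D.map φ) (t.app j₁) (t.app j) (t_nat D t φ) (t.app j)) :=
    Groth.Agent.H51.isSeparatedMor_of_isAffineMor
      (X := ⟨pullback (t.app j) (t.app j), Groth.Agent.H52.isAlgSpace_of_isPullback
        (IsPullback.of_hasPullback _ _) Y.property.diag (hD j) (hD j)⟩)
      (Y := ⟨pullback (t.app j) (t.app j₁), Groth.Agent.H52.isAlgSpace_of_isPullback
        (IsPullback.of_hasPullback _ _) Y.property.diag (hD j) (hD j₁)⟩)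
      (ObjectProperty.homMk (mapR (D.map φ) (t.app j₁) (t.app j) (t_nat D t φ) (t.app j))) haff
  have hcomp : pullback.diagonal (t.app j) ≫ mapR (D.map φ) (t.app j₁) (t.app j) (t_nat D t φ) (t.app j) =
      graph (D.map φ) (t.app j₁) (t.app j) (t_nat D t φ) :=
    diagonal_comp_mapR (D.map φ) (t.app j₁) (t.app j) (t_nat D t φ)
  have hsepj : IsSeparatedMor (t.app j) :=
    Groth.Agent.H50.repWith_of_comp_of_diagonal (Q := @IsClosedImmersion)
      (P := @IsClosedImmersion) (P' := @IsClosedImmersion)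
      (fun _ _ _ k l hk hl => by haveI := hk; haveI := hl; infer_instance)
      (pullback.diagonal (t.app j)) (mapR (D.map φ) (t.app j₁) (t.app j) (t_nat D t φ) (t.app j))
      hsep (by rw [hcomp]; exact hΓj)
  refine ⟨j, fun i ψ => ?_⟩
  have h1 : IsSeparatedMor (D.map ψ) :=
    Groth.Agent.H51.isSeparatedMor_of_isAffineMor (X := ⟨D.obj i, hD i⟩) (Y := ⟨D.obj j, hD j⟩)
      (ObjectProperty.homMk (D.map ψ)) (hDa _ _ ψ)
  have h2 : IsSeparatedMor (D.map ψ ≫ t.app j) :=
    Groth.Agent.H51.isSeparatedMor_comp (X := ⟨D.obj i, hD i⟩) (Y := ⟨D.obj j, hD j⟩) (Z := Y)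
      (ObjectProperty.homMk (D.map ψ)) (ObjectProperty.homMk (t.app j)) h1 hsepj
  rwa [t_nat D t ψ] at h2

end

end Groth.Agent.H94.AlgSpLimit20
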