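import Mathlib
import Groth.Prelude.Def_AlgSp4
import Mathlib.AlgebraicGeometry.Morphisms.QuasiSeparated
import Groth.Agent.H94.AlgSpLimit18
import Groth.Agent.S10613
import Groth.Agent.H51.ClosedSub
import Groth.Agent.H51.AffineMor
import Groth.Agent.H52.FQMor
set_option autoImplicit false
universe u
open CategoryTheory CategoryTheory.Limits AlgebraicGeometry Topology
open AlgSp
namespace Groth.Agent.H94.AlgSpLimit21
open Groth.Agent.H50 Groth.Agent.H94.AlgSpLimit Groth.Agent.H94.AlgSpLimit9 Groth.Agent.H94.AlgSpLimit10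
open Groth.Agent.H94.AlgSpLimit15 Groth.Agent.H94.AlgSpLimit16 Groth.Agent.H94.AlgSpLimit17
open Groth.Agent.H94.AlgSpLimit18

variable {S : Scheme.{u}}

/-- A sheaf quasi-separated over a quasi-separated sheaf is quasi-separated. -/
theorem isQuasiSeparatedSp_of_over {F G : Sp S} (h : F ⟶ G) (hG : IsQuasiSeparatedSp G)
    (hh : RepWith @QuasiCompact (pullback.diagonal h)) : IsQuasiSeparatedSp F := by
  have instQ := AlgSp.repWith_isMultiplicative (S := S) @QuasiCompact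
  have e : Limits.diag F =
      pullback.diagonal h ≫ prod.lift (pullback.fst h h) (pullback.snd h h) := by
    apply Limits.prod.hom_ext <;> simp [Limits.diag]
  have sq := (Groth.Agent.H51.isPullback_diag_of_isPullback (IsPullback.of_hasPullback h h)).flip
  have h2 : RepWith @QuasiCompact (prod.lift (pullback.fst h h) (pullback.snd h h)) :=
    Groth.Agent.H50.repWith_fst_of_isPullback sq hG
  change RepWith @QuasiCompact (Limits.diag F)
  rw [e]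
  exact (RepWith @QuasiCompact).comp_mem _ _ hh h2

/-- The source of an affine morphism to a qcqs algebraic space is qcqs. -/
theorem qcqs_of_isAffineMor {X Y : Sp S} (hX : IsAlgSpace X) (hY : IsAlgSpace Y) (g : X ⟶ Y)
    (hg : IsAffineMor g) (hYqc : IsQuasiCompactSp Y) (hYqs : IsQuasiSeparatedSp Y) :
    IsQuasiCompactSp X ∧ IsQuasiSeparatedSp X := by
  constructor
  · have h1 := Groth.Agent.H51.isQuasiCompactMor_of_isAffineMor (X := ⟨X, hX⟩) (Y := ⟨Y, hY⟩)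
      (ObjectProperty.homMk g) hg
    exact h1 hY hYqc (𝟙 Y) (𝟙 X) g (IsPullback.of_horiz_isIso ⟨by simp⟩)
  · have h1 := Groth.Agent.H51.isSeparatedMor_of_isAffineMor (X := ⟨X, hX⟩) (Y := ⟨Y, hY⟩)
      (ObjectProperty.homMk g) hg
    exact isQuasiSeparatedSp_of_over g hYqs
      (repWith_mono (fun _ _ k hk => by have := hk; infer_instance) h1)


section
variable {I : Type u} [SmallCategory I] [IsCofiltered I] (D : I ⥤ Sp S)

/-- Re-basing: base changes of `f₀` are base changes of its base change `f₁` at an intermediate index. -/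
theorem allBC_rebase (Pr : MorphismProperty (Sp S)) {i₀ i₁ : I} (φ₁ : i₁ ⟶ i₀) {X₀ Y₀ : Sp S}
    (f₀ : X₀ ⟶ Y₀) (b₀ : Y₀ ⟶ D.obj i₀) (i : I) (ψ : i ⟶ i₁)
    (h : AllBC D Pr (pullback.snd f₀ (pullback.fst b₀ (D.map φ₁))) (pullback.snd b₀ (D.map φ₁)) i ψ) :
    AllBC D Pr f₀ b₀ i (ψ ≫ φ₁) := by
  intro Xi Yi fi pYi qYi hYi pXi hXi
  have sqY := IsPullback.of_hasPullback b₀ (D.map φ₁)
  have sqX := IsPullback.of_hasPullback f₀ (pullback.fst b₀ (D.map φ₁))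
  have w1 : pYi ≫ b₀ = (qYi ≫ D.map ψ) ≫ D.map φ₁ := by
    rw [Category.assoc, ← D.map_comp]; exact hYi.w
  obtain ⟨q, hq1, hq2⟩ : ∃ q : Yi ⟶ pullback b₀ (D.map φ₁),
      q ≫ pullback.fst b₀ (D.map φ₁) = pYi ∧ q ≫ pullback.snd b₀ (D.map φ₁) = qYi ≫ D.map ψ :=
    ⟨pullback.lift _ _ w1, pullback.lift_fst _ _ _, pullback.lift_snd _ _ _⟩
  have bigY : IsPullback qYi (q ≫ pullback.fst b₀ (D.map φ₁)) (D.map ψ ≫ D.map φ₁) b₀ := by
    rw [hq1, ← D.map_comp]; exact hYi.flip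
  have sqq : IsPullback qYi q (D.map ψ) (pullback.snd b₀ (D.map φ₁)) :=
    IsPullback.of_bot bigY hq2.symm sqY.flip
  have w2 : pXi ≫ f₀ = (fi ≫ q) ≫ pullback.fst b₀ (D.map φ₁) := by
    rw [Category.assoc, hq1]; exact hXi.w
  obtain ⟨l, hl1, hl2⟩ : ∃ l : Xi ⟶ pullback f₀ (pullback.fst b₀ (D.map φ₁)),
      l ≫ pullback.fst f₀ (pullback.fst b₀ (D.map φ₁)) = pXi ∧
      l ≫ pullback.snd f₀ (pullback.fst b₀ (D.map φ₁)) = fi ≫ q :=
    ⟨pullback.lift _ _ w2, pullback.lift_fst _ _ _, pullback.lift_snd _ _ _⟩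
  have big : IsPullback (l ≫ pullback.fst f₀ (pullback.fst b₀ (D.map φ₁))) fi f₀
      (q ≫ pullback.fst b₀ (D.map φ₁)) := by
    rw [hl1, hq1]; exact hXi
  have sql : IsPullback l fi (pullback.snd f₀ (pullback.fst b₀ (D.map φ₁))) q :=
    IsPullback.of_right big hl2 sqX
  exact h Xi Yi fi q qYi sqq.flip l sql

theorem main [QuasiSeparatedSpace ↥S] (hD : ∀ i, IsAlgSpace (D.obj i))
    (hDa : ∀ (i j : I) (φ : i ⟶ j), IsAffineMor (D.map φ))
    (c : Cone D) (hc : IsLimit c) (i₀ : I)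
    (X₀ Y₀ : AlgSp.Space S) (f₀ : X₀.obj ⟶ Y₀.obj) (b₀ : Y₀.obj ⟶ D.obj i₀)
    (hXqc : IsQuasiCompactSp X₀.obj) (hXqs : IsQuasiSeparatedSp X₀.obj)
    (hYqc : IsQuasiCompactSp Y₀.obj) (hYqs : IsQuasiSeparatedSp Y₀.obj)
    (X Y : Sp S) (f : X ⟶ Y) (pY : Y ⟶ Y₀.obj) (qY : Y ⟶ c.pt)
    (hY : IsPullback pY qY b₀ (c.π.app i₀)) (pX : X ⟶ X₀.obj) (hX : IsPullback pX f f₀ pY)
    (hf : RepWith @IsClosedImmersion f) (hf₀ : LocP @LocallyOfFiniteType f₀) :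
    ∃ (i : I) (φ : i ⟶ i₀), ∀ (Xi Yi : Sp S) (fi : Xi ⟶ Yi) (pYi : Yi ⟶ Y₀.obj) (qYi : Yi ⟶ D.obj i)
      (_ : IsPullback pYi qYi b₀ (D.map φ)) (pXi : Xi ⟶ X₀.obj) (_ : IsPullback pXi fi f₀ pYi),
      RepWith @IsClosedImmersion fi := by
  haveI : Mono f := Groth.Agent.H51.mono_of_closedImmersion hf
  obtain ⟨i₁, φ₁, hmono⟩ := descend_mono D hDa c hc i₀ X₀.obj Y₀.obj X₀.property Y₀.property f₀ b₀
    hXqc hXqs hYqs X Y f pY qY hY pX hX hf₀
  have sqY := IsPullback.of_hasPullback b₀ (D.map φ₁)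
  have sqX := IsPullback.of_hasPullback f₀ (pullback.fst b₀ (D.map φ₁))
  have hY₁alg : IsAlgSpace (pullback b₀ (D.map φ₁)) :=
    Groth.Agent.H52.isAlgSpace_of_isPullback sqY (hD i₀).diag Y₀.property (hD i₁)
  have hX₁alg : IsAlgSpace (pullback f₀ (pullback.fst b₀ (D.map φ₁))) :=
    Groth.Agent.H52.isAlgSpace_of_isPullback sqX Y₀.property.diag X₀.property hY₁alg
  haveI hmono1 : Mono (pullback.snd f₀ (pullback.fst b₀ (D.map φ₁))) :=
    mono_of_repWith_isomorphisms_diagonal _ (hmono _ _ _ _ _ sqY _ sqX)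
  have hf₁lft : LocP @LocallyOfFiniteType (pullback.snd f₀ (pullback.fst b₀ (D.map φ₁))) :=
    Groth.Agent.H52.locP_baseChange Groth.Agent.H52.etLocal_lft X₀.property Y₀.property hY₁alg sqX hf₀
  have hrep : Representable (pullback.snd f₀ (pullback.fst b₀ (D.map φ₁))) :=
    ((Groth.Agent.S10613.result (X := ⟨_, hX₁alg⟩) (Y := ⟨_, hY₁alg⟩)
      (ObjectProperty.homMk (pullback.snd f₀ (pullback.fst b₀ (D.map φ₁))))).2.2.2 ⟨hf₁lft, hmono1⟩).1
  have hf₁rep : RepWith @LocallyOfFiniteType (pullback.snd f₀ (pullback.fst b₀ (D.map φ₁))) :=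
    repWith_of_locP goodProp_lft.desc hrep hY₁alg.atlas hf₁lft
  have hfstYaff : IsAffineMor (pullback.fst b₀ (D.map φ₁)) :=
    isAffineMor_snd_of_isPullback sqY.flip (hDa i₁ i₀ φ₁)
  have hfstXaff : IsAffineMor (pullback.fst f₀ (pullback.fst b₀ (D.map φ₁))) :=
    isAffineMor_snd_of_isPullback sqX.flip hfstYaff
  obtain ⟨hY₁qc, hY₁qs⟩ := qcqs_of_isAffineMor hY₁alg Y₀.property _ hfstYaff hYqc hYqs
  obtain ⟨hX₁qc, -⟩ := qcqs_of_isAffineMor hX₁alg X₀.property _ hfstXaff hXqc hXqs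
  -- the limit as a base change of `f₁`
  have w1 : pY ≫ b₀ = (qY ≫ c.π.app i₁) ≫ D.map φ₁ := by
    rw [Category.assoc, c.w φ₁]; exact hY.w
  obtain ⟨pY', hq1, hq2⟩ : ∃ q : Y ⟶ pullback b₀ (D.map φ₁),
      q ≫ pullback.fst b₀ (D.map φ₁) = pY ∧ q ≫ pullback.snd b₀ (D.map φ₁) = qY ≫ c.π.app i₁ :=
    ⟨pullback.lift _ _ w1, pullback.lift_fst _ _ _, pullback.lift_snd _ _ _⟩
  have bigY : IsPullback qY (pY' ≫ pullback.fst b₀ (D.map φ₁)) (c.π.app i₁ ≫ D.map φ₁) b₀ := by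
    rw [hq1, c.w φ₁]; exact hY.flip
  have hY' : IsPullback qY pY' (c.π.app i₁) (pullback.snd b₀ (D.map φ₁)) :=
    IsPullback.of_bot bigY hq2.symm sqY.flip
  have w2 : pX ≫ f₀ = (f ≫ pY') ≫ pullback.fst b₀ (D.map φ₁) := by
    rw [Category.assoc, hq1]; exact hX.w
  obtain ⟨pX', hl1, hl2⟩ : ∃ l : X ⟶ pullback f₀ (pullback.fst b₀ (D.map φ₁)),
      l ≫ pullback.fst f₀ (pullback.fst b₀ (D.map φ₁)) = pX ∧
      l ≫ pullback.snd f₀ (pullback.fst b₀ (D.map φ₁)) = f ≫ pY' :=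
    ⟨pullback.lift _ _ w2, pullback.lift_fst _ _ _, pullback.lift_snd _ _ _⟩
  have big : IsPullback (pX' ≫ pullback.fst f₀ (pullback.fst b₀ (D.map φ₁))) f f₀
      (pY' ≫ pullback.fst b₀ (D.map φ₁)) := by
    rw [hl1, hq1]; exact hX
  have hX' : IsPullback pX' f (pullback.snd f₀ (pullback.fst b₀ (D.map φ₁))) pY' :=
    IsPullback.of_right big hl2 sqX
  obtain ⟨i, ψ, hci⟩ := descend_closedImmersion_rep D hDa c hc i₁ _ _ hX₁alg hY₁alg
    (pullback.snd f₀ (pullback.fst b₀ (D.map φ₁))) (pullback.snd b₀ (D.map φ₁)) hX₁qc hY₁qc hY₁qs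
    X Y f pY' qY hY'.flip pX' hX' hf hf₁rep
  exact ⟨i, ψ ≫ φ₁, allBC_rebase D (RepWith @IsClosedImmersion) φ₁ f₀ b₀ i ψ hci⟩

end

end Groth.Agent.H94.AlgSpLimit21
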