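import Mathlib
import Groth.Prelude.Def_AlgSp4
import Groth.Prelude.Def_AlgSpDec
import Groth.Agent.H94.AlgSpLimit20
import Groth.Agent.H94.AlgSpLimit21
import Groth.Agent.S9960
set_option autoImplicit false
universe u
open CategoryTheory CategoryTheory.Limits AlgebraicGeometry Topology
open AlgSp
namespace Groth.Agent.H94.AlgSpLimit22
open Groth.Agent.H50 Groth.Agent.H94.AlgSpLimit Groth.Agent.H94.AlgSpLimit9 Groth.Agent.H94.AlgSpLimit10
open Groth.Agent.H94.AlgSpLimit15 Groth.Agent.H94.AlgSpLimit16 Groth.Agent.H94.AlgSpLimit17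
open Groth.Agent.H94.AlgSpLimit18 Groth.Agent.H94.AlgSpLimit20 Groth.Agent.H94.AlgSpLimit21

section Cat
variable {C : Type*} [Category C] [HasPullbacks C]

/-- `A ×_Y A ⟶ B ×_Y B` induced by `ψ : A ⟶ B`. -/
noncomputable def dmap {A B Y : C} (ψ : A ⟶ B) (p : B ⟶ Y) (a : A ⟶ Y) (ha : ψ ≫ p = a) :
    pullback a a ⟶ pullback p p :=
  pullback.lift (pullback.fst a a ≫ ψ) (pullback.snd a a ≫ ψ) (by
    rw [Category.assoc, Category.assoc, ha, pullback.condition])

lemma dmap_fst {A B Y : C} (ψ : A ⟶ B) (p : B ⟶ Y) (a : A ⟶ Y) (ha : ψ ≫ p = a) :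
    dmap ψ p a ha ≫ pullback.fst p p = pullback.fst a a ≫ ψ := pullback.lift_fst _ _ _

lemma dmap_snd {A B Y : C} (ψ : A ⟶ B) (p : B ⟶ Y) (a : A ⟶ Y) (ha : ψ ≫ p = a) :
    dmap ψ p a ha ≫ pullback.snd p p = pullback.snd a a ≫ ψ := pullback.lift_snd _ _ _

lemma dmap_eq {A B Y : C} (ψ : A ⟶ B) (p : B ⟶ Y) (a : A ⟶ Y) (ha : ψ ≫ p = a) :
    dmap ψ p a ha = mapL ψ p a ha a ≫ mapR ψ p a ha p := by
  apply pullback.hom_ext
  · rw [dmap_fst, Category.assoc, mapR_fst, mapL_fst]
  · rw [dmap_snd, Category.assoc, mapR_snd, ← Category.assoc, mapL_snd]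

/-- For a monomorphism `ψ`, the diagonal of `a = ψ ≫ p` is the base change of the diagonal of `p`. -/
theorem isPullback_diag {A B Y : C} (ψ : A ⟶ B) [Mono ψ] (p : B ⟶ Y) (a : A ⟶ Y) (ha : ψ ≫ p = a) :
    IsPullback ψ (pullback.diagonal a) (pullback.diagonal p) (dmap ψ p a ha) := by
  have w : ψ ≫ pullback.diagonal p = pullback.diagonal a ≫ dmap ψ p a ha := by
    apply pullback.hom_ext
    · rw [Category.assoc, pullback.diagonal_fst, Category.comp_id, Category.assoc, dmap_fst,
        ← Category.assoc, pullback.diagonal_fst, Category.id_comp]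
    · rw [Category.assoc, pullback.diagonal_snd, Category.comp_id, Category.assoc, dmap_snd,
        ← Category.assoc, pullback.diagonal_snd, Category.id_comp]
  refine ⟨⟨w⟩, ⟨PullbackCone.IsLimit.mk w (fun s => s.snd ≫ pullback.fst a a) ?_ ?_ ?_⟩⟩
  · intro s
    have h1 := congr($(s.condition) ≫ pullback.fst p p)
    rw [Category.assoc, pullback.diagonal_fst, Category.comp_id, Category.assoc, dmap_fst] at h1
    rw [Category.assoc]; exact h1.symm
  · intro s
    have h1 := congr($(s.condition) ≫ pullback.fst p p)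
    rw [Category.assoc, pullback.diagonal_fst, Category.comp_id, Category.assoc, dmap_fst] at h1
    have h2 := congr($(s.condition) ≫ pullback.snd p p)
    rw [Category.assoc, pullback.diagonal_snd, Category.comp_id, Category.assoc, dmap_snd] at h2
    have h3 : s.snd ≫ pullback.fst a a = s.snd ≫ pullback.snd a a := by
      rw [← cancel_mono ψ, Category.assoc, Category.assoc, ← h1, ← h2]
    apply pullback.hom_ext
    · rw [Category.assoc, pullback.diagonal_fst, Category.comp_id]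
    · rw [Category.assoc, pullback.diagonal_snd, Category.comp_id, h3]
  · intro s m _ hm2
    rw [← hm2, Category.assoc, pullback.diagonal_fst, Category.comp_id]

end Cat

variable {S : Scheme.{u}}

section
variable {I : Type u} [SmallCategory I] [IsCofiltered I] (D : I ⥤ Sp S)
  {Y : Sp S} (t : D ⟶ (Functor.const I).obj Y)

/-- The system `j ↦ D_j ×_Y D_j`. -/
noncomputable def dblSys : I ⥤ Sp S where
  obj j := pullback (t.app j) (t.app j)
  map {j k} φ := dmap (D.map φ) (t.app k) (t.app j) (t_nat D t φ)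
  map_id j := by
    apply pullback.hom_ext
    · rw [dmap_fst, D.map_id, Category.comp_id, Category.id_comp]
    · rw [dmap_snd, D.map_id, Category.comp_id, Category.id_comp]
  map_comp φ ψ := by
    apply pullback.hom_ext
    · rw [dmap_fst, Category.assoc, dmap_fst, ← Category.assoc, dmap_fst, Category.assoc, D.map_comp]
    · rw [dmap_snd, Category.assoc, dmap_snd, ← Category.assoc, dmap_snd, Category.assoc, D.map_comp]

noncomputable def dfst (j : I) : (dblSys D t).obj j ⟶ D.obj j := pullback.fst _ _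
noncomputable def dsnd (j : I) : (dblSys D t).obj j ⟶ D.obj j := pullback.snd _ _

lemma dcond (j : I) : dfst D t j ≫ t.app j = dsnd D t j ≫ t.app j := pullback.condition

lemma dblSys_map_fst {j k : I} (φ : j ⟶ k) :
    (dblSys D t).map φ ≫ dfst D t k = dfst D t j ≫ D.map φ :=
  dmap_fst (D.map φ) (t.app k) (t.app j) (t_nat D t φ)

lemma dblSys_map_snd {j k : I} (φ : j ⟶ k) :
    (dblSys D t).map φ ≫ dsnd D t k = dsnd D t j ≫ D.map φ :=
  dmap_snd (D.map φ) (t.app k) (t.app j) (t_nat D t φ)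

lemma dblSys_hom_ext {j : I} {T : Sp S} (a b : T ⟶ (dblSys D t).obj j)
    (h1 : a ≫ dfst D t j = b ≫ dfst D t j) (h2 : a ≫ dsnd D t j = b ≫ dsnd D t j) : a = b :=
  pullback.hom_ext h1 h2

variable (c : Cone D) (g : c.pt ⟶ Y) (hg : ∀ i, c.π.app i ≫ t.app i = g)

/-- The cone `X ×_Y X` over `j ↦ D_j ×_Y D_j`. -/
noncomputable def dblCone : Cone (dblSys D t) where
  pt := pullback g g
  π := { app := fun j => dmap (c.π.app j) (t.app j) g (hg j)
         naturality := fun j k φ => by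
           show 𝟙 _ ≫ dmap (c.π.app k) (t.app k) g (hg k) =
             dmap (c.π.app j) (t.app j) g (hg j) ≫ dmap (D.map φ) (t.app k) (t.app j) (t_nat D t φ)
           apply pullback.hom_ext
           · rw [Category.id_comp, dmap_fst, Category.assoc, dmap_fst, ← Category.assoc, dmap_fst,
               Category.assoc, c.w]
           · rw [Category.id_comp, dmap_snd, Category.assoc, dmap_snd, ← Category.assoc, dmap_snd,
               Category.assoc, c.w] }

noncomputable def dcfst : (dblCone D t c g hg).pt ⟶ c.pt := pullback.fst g g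
noncomputable def dcsnd : (dblCone D t c g hg).pt ⟶ c.pt := pullback.snd g g

lemma dccond : dcfst D t c g hg ≫ g = dcsnd D t c g hg ≫ g := pullback.condition

lemma dblCone_fst (j : I) :
    (dblCone D t c g hg).π.app j ≫ dfst D t j = dcfst D t c g hg ≫ c.π.app j :=
  dmap_fst (c.π.app j) (t.app j) g (hg j)

lemma dblCone_snd (j : I) :
    (dblCone D t c g hg).π.app j ≫ dsnd D t j = dcsnd D t c g hg ≫ c.π.app j :=
  dmap_snd (c.π.app j) (t.app j) g (hg j)

lemma dblCone_hom_ext {T : Sp S} (a b : T ⟶ (dblCone D t c g hg).pt)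
    (h1 : a ≫ dcfst D t c g hg = b ≫ dcfst D t c g hg)
    (h2 : a ≫ dcsnd D t c g hg = b ≫ dcsnd D t c g hg) : a = b :=
  pullback.hom_ext h1 h2

/-- cone of first components -/
noncomputable def fstCone (s : Cone (dblSys D t)) : Cone D where
  pt := s.pt
  π := { app := fun j => s.π.app j ≫ dfst D t j
         naturality := fun j k φ => by
           show 𝟙 _ ≫ s.π.app k ≫ dfst D t k = (s.π.app j ≫ dfst D t j) ≫ D.map φ
           rw [Category.id_comp, ← s.w φ, Category.assoc, dblSys_map_fst, Category.assoc] }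

noncomputable def sndCone (s : Cone (dblSys D t)) : Cone D where
  pt := s.pt
  π := { app := fun j => s.π.app j ≫ dsnd D t j
         naturality := fun j k φ => by
           show 𝟙 _ ≫ s.π.app k ≫ dsnd D t k = (s.π.app j ≫ dsnd D t j) ≫ D.map φ
           rw [Category.id_comp, ← s.w φ, Category.assoc, dblSys_map_snd, Category.assoc] }

noncomputable def l₁ (hc : IsLimit c) (s : Cone (dblSys D t)) : s.pt ⟶ c.pt := hc.lift (fstCone D t s)
noncomputable def l₂ (hc : IsLimit c) (s : Cone (dblSys D t)) : s.pt ⟶ c.pt := hc.lift (sndCone D t s)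

lemma l₁_fac (hc : IsLimit c) (s : Cone (dblSys D t)) (j : I) :
    l₁ D t c hc s ≫ c.π.app j = s.π.app j ≫ dfst D t j := hc.fac (fstCone D t s) j

lemma l₂_fac (hc : IsLimit c) (s : Cone (dblSys D t)) (j : I) :
    l₂ D t c hc s ≫ c.π.app j = s.π.app j ≫ dsnd D t j := hc.fac (sndCone D t s) j

lemma l₁_uniq (hc : IsLimit c) (s : Cone (dblSys D t)) (m : s.pt ⟶ c.pt)
    (hm : ∀ j, m ≫ c.π.app j = s.π.app j ≫ dfst D t j) : m = l₁ D t c hc s :=
  hc.uniq (fstCone D t s) m hm

lemma l₂_uniq (hc : IsLimit c) (s : Cone (dblSys D t)) (m : s.pt ⟶ c.pt)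
    (hm : ∀ j, m ≫ c.π.app j = s.π.app j ≫ dsnd D t j) : m = l₂ D t c hc s :=
  hc.uniq (sndCone D t s) m hm

include hg in
lemma dbl_cond (hc : IsLimit c) (s : Cone (dblSys D t)) :
    l₁ D t c hc s ≫ g = l₂ D t c hc s ≫ g := by
  obtain ⟨j⟩ := IsCofiltered.nonempty (C := I)
  rw [← hg j, ← Category.assoc, ← Category.assoc, l₁_fac, l₂_fac, Category.assoc, Category.assoc, dcond]

noncomputable def dLift (hc : IsLimit c) (s : Cone (dblSys D t)) : s.pt ⟶ (dblCone D t c g hg).pt :=
  pullback.lift (l₁ D t c hc s) (l₂ D t c hc s) (dbl_cond D t c g hg hc s)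

lemma dLift_fst (hc : IsLimit c) (s : Cone (dblSys D t)) :
    dLift D t c g hg hc s ≫ dcfst D t c g hg = l₁ D t c hc s := pullback.lift_fst _ _ _

lemma dLift_snd (hc : IsLimit c) (s : Cone (dblSys D t)) :
    dLift D t c g hg hc s ≫ dcsnd D t c g hg = l₂ D t c hc s := pullback.lift_snd _ _ _

noncomputable def isLimitDblCone (hc : IsLimit c) : IsLimit (dblCone D t c g hg) where
  lift s := dLift D t c g hg hc s
  fac s j := by
    apply dblSys_hom_ext
    · rw [Category.assoc, dblCone_fst, ← Category.assoc, dLift_fst, l₁_fac]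
    · rw [Category.assoc, dblCone_snd, ← Category.assoc, dLift_snd, l₂_fac]
  uniq s m hm := by
    apply dblCone_hom_ext
    · rw [dLift_fst]
      refine l₁_uniq D t c hc s _ (fun j => ?_)
      rw [Category.assoc, ← dblCone_fst, ← Category.assoc, hm j]
    · rw [dLift_snd]
      refine l₂_uniq D t c hc s _ (fun j => ?_)
      rw [Category.assoc, ← dblCone_snd, ← Category.assoc, hm j]

end

section
variable {I : Type u} [SmallCategory I] [IsCofiltered I] (D : I ⥤ Sp S)

/-- Step A: some `t_j` is a monomorphism. -/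
theorem exists_mono [QuasiSeparatedSpace ↥S] (Y : AlgSp.Space S) (hD : ∀ i, IsAlgSpace (D.obj i))
    (t : D ⟶ (Functor.const I).obj Y.obj)
    (hDa : ∀ (i j : I) (φ : i ⟶ j), IsAffineMor (D.map φ))
    (hDc : ∀ (i j : I) (φ : i ⟶ j), RepWith @IsClosedImmersion (D.map φ))
    (c : Cone D) (hc : IsLimit c) (g : c.pt ⟶ Y.obj) (hg : ∀ i, c.π.app i ≫ t.app i = g)
    (hqc : ∀ i, IsQuasiCompactSp (D.obj i)) (hqs : ∀ i, IsQuasiSeparatedSp (D.obj i))
    (hYqs : IsQuasiSeparatedSp Y.obj)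
    (hft : ∀ i, LocP @LocallyOfFiniteType (t.app i)) [Mono g] :
    ∃ j : I, Mono (t.app j) := by
  obtain ⟨j₀⟩ := IsCofiltered.nonempty (C := I)
  have hZalg : ∀ j, IsAlgSpace ((dblSys D t).obj j) := fun j =>
    Groth.Agent.H52.isAlgSpace_of_isPullback (IsPullback.of_hasPullback (t.app j) (t.app j))
      Y.property.diag (hD j) (hD j)
  have hZa : ∀ (i j : I) (φ : i ⟶ j), IsAffineMor ((dblSys D t).map φ) := by
    intro i j φ
    show IsAffineMor (dmap (D.map φ) (t.app j) (t.app i) (t_nat D t φ))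
    rw [dmap_eq]
    exact isAffineMor_comp
      (isAffineMor_snd_of_isPullback
        (isPullback_mapL (D.map φ) (t.app j) (t.app i) (t_nat D t φ) (t.app i)).flip (hDa i j φ))
      (isAffineMor_snd_of_isPullback
        (isPullback_mapR (D.map φ) (t.app j) (t.app i) (t_nat D t φ) (t.app j)).flip (hDa i j φ))
  have sq₀ := IsPullback.of_hasPullback (t.app j₀) (t.app j₀)
  have htqc : IsQuasiCompactMor (t.app j₀) :=
    Groth.Agent.H52.isQuasiCompactMor_of_qc_qs (hD j₀) Y.property (t.app j₀) (hqc j₀) hYqs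
  have hZqc : IsQuasiCompactSp (pullback (t.app j₀) (t.app j₀)) :=
    htqc (hD j₀) (hqc j₀) (t.app j₀) _ _ sq₀
  have hZqs : IsQuasiSeparatedSp (pullback (t.app j₀) (t.app j₀)) :=
    Groth.Agent.H52.isQuasiSeparatedSp_of_isPullback sq₀ (hqs j₀) (hqs j₀)
  have hΔlfp : LocP @LocallyOfFinitePresentation (pullback.diagonal (t.app j₀)) :=
    (Groth.Agent.S9960.result (X := ⟨D.obj j₀, hD j₀⟩) (Y := Y) (ObjectProperty.homMk (t.app j₀))
      (hft j₀)).1
  haveI : Mono (c.π.app j₀) := mono_of_mono_fac (hg j₀)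
  obtain ⟨Δg, hΔg⟩ : ∃ Δg : c.pt ⟶ (dblCone D t c g hg).pt, Δg = pullback.diagonal g := ⟨_, rfl⟩
  haveI : IsIso Δg := by
    rw [hΔg]; exact (pullback.isIso_diagonal_iff g).2 inferInstance
  haveI : IsIso (𝟙 (dblCone D t c g hg).pt) := IsIso.id _
  haveI : IsIso (𝟙 ((dblSys D t).obj j₀)) := IsIso.id _
  have hYsq : IsPullback ((dblCone D t c g hg).π.app j₀) (𝟙 (dblCone D t c g hg).pt)
      (𝟙 ((dblSys D t).obj j₀)) ((dblCone D t c g hg).π.app j₀) :=
    IsPullback.of_vert_isIso ⟨by simp⟩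
  have hXsq : IsPullback (c.π.app j₀) Δg
      (pullback.diagonal (t.app j₀) : D.obj j₀ ⟶ (dblSys D t).obj j₀) ((dblCone D t c g hg).π.app j₀) := by
    rw [hΔg]
    exact isPullback_diag (c.π.app j₀) (t.app j₀) g (hg j₀)
  obtain ⟨i, φ, hi⟩ := descend_iso (dblSys D t) hZalg hZa (dblCone D t c g hg)
    (isLimitDblCone D t c g hg hc) j₀ (D.obj j₀) ((dblSys D t).obj j₀) (hD j₀) (hZalg j₀)
    (pullback.diagonal (t.app j₀) : D.obj j₀ ⟶ (dblSys D t).obj j₀) (𝟙 _) (hqc j₀) (hqs j₀) hZqc hZqs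
    c.pt (dblCone D t c g hg).pt Δg
    ((dblCone D t c g hg).π.app j₀) (𝟙 _) hYsq (c.π.app j₀) hXsq hΔlfp
  haveI : Mono (D.map φ) := Groth.Agent.H51.mono_of_closedImmersion (hDc i j₀ φ)
  haveI : IsIso (𝟙 ((dblSys D t).obj i)) := IsIso.id _
  have hYsqi : IsPullback ((dblSys D t).map φ) (𝟙 ((dblSys D t).obj i))
      (𝟙 ((dblSys D t).obj j₀)) ((dblSys D t).map φ) :=
    IsPullback.of_vert_isIso ⟨by simp⟩
  have hXsqi : IsPullback (D.map φ) (pullback.diagonal (t.app i) : D.obj i ⟶ (dblSys D t).obj i)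
      (pullback.diagonal (t.app j₀) : D.obj j₀ ⟶ (dblSys D t).obj j₀) ((dblSys D t).map φ) :=
    isPullback_diag (D.map φ) (t.app j₀) (t.app i) (t_nat D t φ)
  have hiso : IsIso (pullback.diagonal (t.app i) : D.obj i ⟶ (dblSys D t).obj i) :=
    hi (D.obj i) ((dblSys D t).obj i) _ ((dblSys D t).map φ) (𝟙 _) hYsqi (D.map φ) hXsqi
  exact ⟨i, (pullback.isIso_diagonal_iff (t.app i)).1 hiso⟩

end

end Groth.Agent.H94.AlgSpLimit22
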