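import Mathlib
import Groth.Prelude.Def_AlgSp4
import Groth.Prelude.Def_AlgSpDec
import Groth.Agent.H94.AlgSpLimit22
set_option autoImplicit false
universe u
open CategoryTheory CategoryTheory.Limits AlgebraicGeometry Topology
open AlgSp
namespace Groth.Agent.H94.AlgSpLimit23
open Groth.Agent.H50 Groth.Agent.H94.AlgSpLimit Groth.Agent.H94.AlgSpLimit9 Groth.Agent.H94.AlgSpLimit10
open Groth.Agent.H94.AlgSpLimit15 Groth.Agent.H94.AlgSpLimit16 Groth.Agent.H94.AlgSpLimit17
open Groth.Agent.H94.AlgSpLimit18 Groth.Agent.H94.AlgSpLimit20 Groth.Agent.H94.AlgSpLimit21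
open Groth.Agent.H94.AlgSpLimit22

section Sch
variable {J : Type u} [SmallCategory J] [IsCofiltered J]

theorem exists_isClosedImmersion_app (F : J ⥤ Scheme.{u}) [∀ {i j : J} (f : i ⟶ j), IsAffineHom (F.map f)]
    (V : Scheme.{u}) [IsAffine V] (t : F ⟶ (Functor.const J).obj V) (c : Cone F) (hc : IsLimit c)
    (f : c.pt ⟶ V) (hf : ∀ j, c.π.app j ≫ t.app j = f) [IsClosedImmersion f]
    (k : J) [IsAffine (F.obj k)] [LocallyOfFiniteType (t.app k)]
    (hcl : ∀ (j : J) (φ : j ⟶ k), IsClosedImmersion (F.map φ)) :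
    ∃ (j : J) (_ : j ⟶ k), IsClosedImmersion (t.app j) := by
  classical
  haveI : ∀ j : J, IsAffine (((Functor.const J).obj V).obj j) := fun _ => (inferInstance : IsAffine V)
  haveI : IsAffine c.pt := isAffine_of_isAffineHom f
  have hfs : Function.Surjective f.appTop := (IsClosedImmersion.isAffine_surjective_of_isAffine f).2
  have hft : (t.app k).appTop.hom.FiniteType :=
    (HasRingHomProperty.iff_of_isAffine (P := @LocallyOfFiniteType)).1 inferInstance
  letI alg : Algebra Γ(V, ⊤) Γ(F.obj k, ⊤) := (t.app k).appTop.hom.toAlgebra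
  obtain ⟨G, hG⟩ := (hft : Algebra.FiniteType Γ(V, ⊤) Γ(F.obj k, ⊤)).out
  have hA : ∀ b : Γ(F.obj k, ⊤), ∃ a : Γ(V, ⊤),
      (c.π.app k).appTop (b - (t.app k).appTop a) = 0 := by
    intro b
    obtain ⟨a, ha⟩ := hfs ((c.π.app k).appTop b)
    refine ⟨a, ?_⟩
    rw [map_sub, sub_eq_zero, ← ha, ← hf k, Scheme.Hom.comp_appTop, CommRingCat.comp_apply]
  choose aA haA using hA
  have hstage : ∀ G' : Finset Γ(F.obj k, ⊤), ∃ (j : J) (φ : j ⟶ k),
      ∀ b ∈ G', (F.map φ).appTop (b - (t.app k).appTop (aA b)) = 0 := by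
    intro G'
    induction G' using Finset.induction_on with
    | empty => exact ⟨k, 𝟙 k, fun b hb => absurd hb (Finset.notMem_empty b)⟩
    | insert b G' hb ih =>
      obtain ⟨j, φ, hj⟩ := ih
      obtain ⟨j', φ', hj'⟩ := exists_appTop_map_eq_zero_of_isLimit F c hc
        (b - (t.app k).appTop (aA b)) (haA b)
      refine ⟨IsCofiltered.eq (IsCofiltered.minToLeft j j' ≫ φ) (IsCofiltered.minToRight j j' ≫ φ'),
        IsCofiltered.eqHom (IsCofiltered.minToLeft j j' ≫ φ) (IsCofiltered.minToRight j j' ≫ φ') ≫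
          IsCofiltered.minToLeft j j' ≫ φ, ?_⟩
      intro b' hb'
      rcases Finset.mem_insert.1 hb' with rfl | hb'
      · rw [IsCofiltered.eq_condition, ← Category.assoc, F.map_comp, Scheme.Hom.comp_appTop,
          CommRingCat.comp_apply, hj', map_zero]
      · rw [← Category.assoc, F.map_comp, Scheme.Hom.comp_appTop, CommRingCat.comp_apply,
          hj b' hb', map_zero]
  obtain ⟨j, φ, hj⟩ := hstage G
  refine ⟨j, φ, ?_⟩
  haveI := hcl j φ
  haveI : IsAffine (F.obj j) := isAffine_of_isAffineHom (F.map φ)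
  apply IsClosedImmersion.of_surjective_of_isAffine
  have hφs : Function.Surjective (F.map φ).appTop :=
    (IsClosedImmersion.isAffine_surjective_of_isAffine (F.map φ)).2
  have hnat : F.map φ ≫ t.app k = t.app j := by
    have := t.naturality φ
    simpa using this
  have hcomp : ∀ r : Γ(V, ⊤), (F.map φ).appTop ((t.app k).appTop r) = (t.app j).appTop r := by
    intro r
    rw [← hnat, Scheme.Hom.comp_appTop, CommRingCat.comp_apply]
  let Sub : Subalgebra Γ(V, ⊤) Γ(F.obj k, ⊤) :=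
    { (Subring.comap (F.map φ).appTop.hom (t.app j).appTop.hom.range) with
      algebraMap_mem' := fun r => ⟨r, (hcomp r).symm⟩ }
  have hGsub : (G : Set Γ(F.obj k, ⊤)) ⊆ Sub := by
    intro b hb
    refine ⟨aA b, ?_⟩
    show (t.app j).appTop (aA b) = (F.map φ).appTop b
    have h0 := hj b (Finset.mem_coe.1 hb)
    rw [map_sub, sub_eq_zero] at h0
    rw [h0, hcomp]
  have hle : Algebra.adjoin Γ(V, ⊤) (G : Set Γ(F.obj k, ⊤)) ≤ Sub := Algebra.adjoin_le hGsub
  have hle' : (⊤ : Subalgebra Γ(V, ⊤) Γ(F.obj k, ⊤)) ≤ Sub := le_of_eq_of_le hG.symm hle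
  intro z
  obtain ⟨y, rfl⟩ := hφs z
  obtain ⟨a, ha⟩ := hle' (Algebra.mem_top : y ∈ (⊤ : Subalgebra Γ(V, ⊤) Γ(F.obj k, ⊤)))
  exact ⟨a, ha⟩

end Sch


section
variable {S : Scheme.{u}} {I : Type u} [SmallCategory I] [IsCofiltered I] (D : I ⥤ Sp S)

theorem main [QuasiSeparatedSpace ↥S] (Y : AlgSp.Space S) (hD : ∀ i, IsAlgSpace (D.obj i))
    (t : D ⟶ (Functor.const I).obj Y.obj)
    (hDc : ∀ (i j : I) (φ : i ⟶ j), RepWith @IsClosedImmersion (D.map φ))
    (c : Cone D) (hc : IsLimit c) (g : c.pt ⟶ Y.obj) (hg : ∀ i, c.π.app i ≫ t.app i = g)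
    (hqc : ∀ i, IsQuasiCompactSp (D.obj i)) (hqs : ∀ i, IsQuasiSeparatedSp (D.obj i))
    (hYqc : IsQuasiCompactSp Y.obj) (hYqs : IsQuasiSeparatedSp Y.obj)
    (hft : ∀ i, LocP @LocallyOfFiniteType (t.app i)) (hX : RepWith @IsClosedImmersion g) :
    ∃ i₀ : I, ∀ (i : I) (_ : i ⟶ i₀), RepWith @IsClosedImmersion (t.app i) := by
  have hci : ∀ ⦃A B : Scheme.{u}⦄ (f : A ⟶ B), IsClosedImmersion f → IsAffineHom f :=
    fun _ _ f hf => by haveI := hf; infer_instance
  have hDa : ∀ (i j : I) (φ : i ⟶ j), IsAffineMor (D.map φ) := fun i j φ =>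
    isAffineMor_of_repWith (repWith_mono hci (hDc i j φ))
  haveI : Mono g := Groth.Agent.H51.mono_of_closedImmersion hX
  obtain ⟨j₁, hmono⟩ := exists_mono D Y hD t hDa hDc c hc g hg hqc hqs hYqs hft
  -- representability
  have hrep : ∀ (j : I) (φ : j ⟶ j₁), Representable (t.app j) := by
    intro j φ
    haveI : Mono (D.map φ) := Groth.Agent.H51.mono_of_closedImmersion (hDc j j₁ φ)
    haveI : Mono (t.app j) := by rw [← t_nat D t φ]; exact mono_comp _ _
    exact ((Groth.Agent.S10613.result (X := ⟨D.obj j, hD j⟩) (Y := Y)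
      (ObjectProperty.homMk (t.app j))).2.2.2 ⟨hft j, (inferInstance : Mono (t.app j))⟩).1
  have hrep₁ : Representable (t.app j₁) := hrep j₁ (𝟙 _)
  have hlft₁ : RepWith @LocallyOfFiniteType (t.app j₁) :=
    repWith_of_locP goodProp_lft.desc hrep₁ Y.property.atlas (hft j₁)
  -- chart of Y
  obtain ⟨V, _, pV, _, _, hVaff, hpVe, hpVs, -, -⟩ := exists_affine_chart_over hYqc Y.property (𝟙 Y.obj)
  haveI : IsAffine V.left := hVaff
  obtain ⟨P₁, δ₁, fstP, sqP⟩ := hlft₁.1 pV
  haveI hδlft : LocallyOfFiniteType δ₁.left := hlft₁.2 _ _ _ sqP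
  have hqcm : IsQuasiCompactMor (t.app j₁) :=
    Groth.Agent.H52.isQuasiCompactMor_of_qc_qs (hD j₁) Y.property (t.app j₁) (hqc j₁) hYqs
  have hP₁qc' : IsQuasiCompactSp ((yon S).obj P₁) :=
    hqcm (IsAlgSpace.yon_obj V) (Groth.Agent.H52.isQuasiCompactSp_yon V) pV _ _ sqP
  haveI hP₁qc : CompactSpace ↥P₁.left := by
    haveI := Groth.Agent.H52.compactSpace_points_of_isQuasiCompactSp hP₁qc'
    exact (Points.schemeHomeo P₁).symm.compactSpace
  haveI hmono1 : Mono ((yon S).map δ₁) := by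
    have : ((MorphismProperty.monomorphisms (Sp S))) ((yon S).map δ₁) :=
      MorphismProperty.of_isPullback (P := MorphismProperty.monomorphisms (Sp S)) sqP
        (MorphismProperty.monomorphisms.infer_property (t.app j₁))
    exact this
  haveI hmono2 : Mono δ₁ := (yon S).mono_of_mono_map hmono1
  haveI hmono3 : Mono δ₁.left := inferInstance
  haveI hP₁qs : QuasiSeparatedSpace ↥P₁.left := quasiSeparatedSpace_of_quasiSeparated δ₁.left
  -- the chart system
  obtain ⟨W', b, s, L, hL, a, sL, hsq, htr, hbig, hsqj, hbn, hsw, hsLs⟩ :=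
    exists_chart_limit' D hDa c hc j₁ P₁ fstP
  have hscl : ∀ j, IsClosedImmersion (s j).left := by
    intro j
    have hh' : RepWith @IsClosedImmersion ((yon S).map (s j)) :=
      Groth.Agent.H50.repWith_snd_of_isPullback (hsq j) (hDc _ _ j.hom)
    exact (repWith_yon_map_iff @IsClosedImmersion _).1 hh'
  have sqbig : IsPullback a ((yon S).map sL ≫ (yon S).map δ₁) (c.π.app j₁ ≫ t.app j₁) pV :=
    hbig.paste_vert sqP
  have hLcl : IsClosedImmersion (sL ≫ δ₁).left := by
    have h1 : RepWith @IsClosedImmersion ((yon S).map (sL ≫ δ₁)) := by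
      rw [Functor.map_comp]
      exact Groth.Agent.H50.repWith_snd_of_isPullback sqbig (by rw [hg j₁]; exact hX)
    exact (repWith_yon_map_iff @IsClosedImmersion _).1 h1
  -- scheme-level system
  have hcompW : ∀ j : Over j₁, CompactSpace ↥(W'.obj j).left := fun j => by
    haveI : IsClosedImmersion (s j).left := hscl j
    exact QuasiCompact.compactSpace_of_compactSpace (s j).left
  have hqsW : ∀ j : Over j₁, QuasiSeparatedSpace ↥(W'.obj j).left := fun j => by
    haveI : IsClosedImmersion (s j).left := hscl j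
    exact quasiSeparatedSpace_of_quasiSeparated (s j).left
  have hLaff : IsAffine L.pt.left := by
    haveI : IsClosedImmersion (sL ≫ δ₁).left := hLcl
    exact isAffine_of_isAffineHom (sL ≫ δ₁).left
  have hlim : IsLimit ((Over.forget S).mapCone L) := isLimitOfPreserves _ hL
  haveI : ∀ {i j : Over j₁} (f : i ⟶ j), IsAffineHom ((W' ⋙ Over.forget S).map f) :=
    fun {i j} f => htr _ _ f
  haveI : ∀ j : Over j₁, CompactSpace ↥((W' ⋙ Over.forget S).obj j) := hcompW
  haveI : ∀ j : Over j₁, QuasiSeparatedSpace ↥((W' ⋙ Over.forget S).obj j) := hqsW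
  haveI : IsAffine ((Over.forget S).mapCone L).pt := hLaff
  obtain ⟨k, hk⟩ := Scheme.exists_isAffine_of_isLimit (W' ⋙ Over.forget S) ((Over.forget S).mapCone L) hlim
  let t' : (W' ⋙ Over.forget S) ⟶ (Functor.const (Over j₁)).obj V.left :=
    { app := fun j => (s j ≫ δ₁).left
      naturality := fun j k f => by
        show (W'.map f).left ≫ (s k ≫ δ₁).left = (s j ≫ δ₁).left ≫ 𝟙 _
        rw [Category.comp_id, ← Over.comp_left, ← Category.assoc, hsw j k f] }
  have hf' : ∀ j, ((Over.forget S).mapCone L).π.app j ≫ t'.app j = (sL ≫ δ₁).left := by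
    intro j
    show (L.π.app j).left ≫ (s j ≫ δ₁).left = (sL ≫ δ₁).left
    rw [← Over.comp_left, ← Category.assoc, hsLs j]
  haveI : IsAffine ((W' ⋙ Over.forget S).obj k) := hk
  have hlftk : LocallyOfFiniteType (s k ≫ δ₁).left := by
    rw [Over.comp_left]
    haveI : IsClosedImmersion (s k).left := hscl k
    infer_instance
  haveI : LocallyOfFiniteType (t'.app k) := hlftk
  obtain ⟨fL, hfL⟩ : ∃ fL : ((Over.forget S).mapCone L).pt ⟶ V.left, fL = (sL ≫ δ₁).left := ⟨_, rfl⟩
  haveI : IsClosedImmersion fL := by rw [hfL]; exact hLcl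
  have hf'' : ∀ j, ((Over.forget S).mapCone L).π.app j ≫ t'.app j = fL := fun j => by
    rw [hfL]; exact hf' j
  have hcl : ∀ (j : Over j₁) (φ : j ⟶ k), IsClosedImmersion ((W' ⋙ Over.forget S).map φ) := by
    intro j φ
    show IsClosedImmersion (W'.map φ).left
    haveI := hscl k
    haveI : IsClosedImmersion ((W'.map φ).left ≫ (s k).left) := by
      rw [← Over.comp_left, hsw j k φ]; exact hscl j
    exact IsClosedImmersion.of_comp (W'.map φ).left (s k).left
  obtain ⟨j, φ, hjcl⟩ := exists_isClosedImmersion_app (W' ⋙ Over.forget S) V.left t'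
    ((Over.forget S).mapCone L) hlim fL hf'' k hcl
  have sqj : IsPullback (b j) ((yon S).map (s j) ≫ (yon S).map δ₁) (D.map j.hom ≫ t.app j₁) pV :=
    (hsq j).paste_vert sqP
  have hrepj : Representable (t.app j.left) := hrep j.left j.hom
  have hclj : RepWith @IsClosedImmersion (t.app j.left) := by
    have h1 : RepWith @IsClosedImmersion ((yon S).map (s j) ≫ (yon S).map δ₁) := by
      rw [← Functor.map_comp]
      exact (repWith_yon_map_iff @IsClosedImmersion _).2 hjcl
    have sqj' : IsPullback (b j) ((yon S).map (s j) ≫ (yon S).map δ₁) (t.app j.left) pV := by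
      rw [← t_nat D t j.hom]; exact sqj
    exact Groth.Agent.H50.repWith_of_isPullback_atlas Groth.Agent.H52.isClosedImmersion_descendsAlong_fppf
      hrepj hpVe hpVs sqj' h1
  refine ⟨j.left, fun i ψ => ?_⟩
  rw [← t_nat D t ψ]
  have := AlgSp.repWith_isMultiplicative (S := S) @IsClosedImmersion
  exact (RepWith @IsClosedImmersion).comp_mem _ _ (hDc i j.left ψ) hclj

end

end Groth.Agent.H94.AlgSpLimit23
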