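import Mathlib
import Groth.Prelude.Def_AlgSp4
import Groth.Prelude.Def_AlgSpDec
import Groth.Agent.H94.AffineLimit
import Groth.Agent.H52.MonoPt
import Groth.Agent.H52.Topology
set_option autoImplicit false
universe u
open CategoryTheory CategoryTheory.Limits AlgebraicGeometry
open AlgSp
namespace Groth.Agent.H94.AlgSpLimit5

variable {S : Scheme.{u}}

/-- a cofiltered limit of spectra of fields has at most one point. -/
theorem subsingleton_of_isLimit {J : Type u} [SmallCategory J] [IsCofiltered J] (F : J ⥤ Scheme.{u})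
    [∀ j, IsAffine (F.obj j)] (hF : ∀ j, IsField Γ(F.obj j, ⊤)) (c : Cone F) (hc : IsLimit c) :
    Subsingleton c.pt := by
  haveI : IsAffine c.pt := Scheme.isAffine_of_isLimit c hc
  obtain ⟨j₀⟩ := IsCofiltered.nonempty (C := J)
  have hfield : IsField Γ(c.pt, ⊤) := by
    refine ⟨⟨0, 1, ?_⟩, mul_comm, ?_⟩
    · intro h01
      have h1 : (c.π.app j₀).appTop (1 : Γ(F.obj j₀, ⊤)) = 0 := by rw [map_one]; exact h01.symm
      obtain ⟨k, f, hk⟩ := exists_appTop_map_eq_zero_of_isAffine_of_isLimit F c hc j₀ 1 h1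
      rw [map_one] at hk
      exact (hF k).nontrivial.exists_pair_ne.elim (fun a ⟨b, hab⟩ => hab (by
        rw [← mul_one a, ← mul_one b, hk, mul_zero, mul_zero]))
    · intro a ha
      obtain ⟨j, t, rfl⟩ := exists_appTop_π_eq_of_isAffine_of_isLimit F c hc a
      have ht : t ≠ 0 := by
        rintro rfl
        exact ha (map_zero _)
      obtain ⟨t', ht'⟩ := (hF j).mul_inv_cancel ht
      exact ⟨(c.π.app j).appTop t', by rw [← map_mul, ht', map_one]⟩
  letI := hfield.toField
  have : Subsingleton (Spec Γ(c.pt, ⊤)) := by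
    change Subsingleton (PrimeSpectrum Γ(c.pt, ⊤))
    infer_instance
  exact c.pt.isoSpec.hom.homeomorph.injective.subsingleton


section
variable {I : Type u} [SmallCategory I] (D : I ⥤ Sp S)
  (p : ∀ i, FieldPt (D.obj i)) (hm : ∀ i, Mono (p i).toHom)
  (hq : ∀ i, RepWith @QuasiCompact (p i).toHom)
  (hcompat : ∀ (i j : I) (φ : i ⟶ j), Points.mk ((p i).map (D.map φ)) = Points.mk (p j))

include hm hq hcompat in
lemma trans_exists {i j : I} (φ : i ⟶ j) :
    ∃ c : (p i).pt ⟶ (p j).pt, (yon S).map c ≫ (p j).toHom = (p i).toHom ≫ D.map φ := by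
  obtain ⟨c, hc⟩ := Groth.Agent.H52.exists_factor_of_mk_eq (p j) ((p i).map (D.map φ)) (hm j) (hq j)
    (hcompat i j φ)
  exact ⟨c, hc.trans (FieldPt.toHom_map _ _)⟩

/-- the transition maps between the representing field points. -/
noncomputable def tr {i j : I} (φ : i ⟶ j) : (p i).pt ⟶ (p j).pt :=
  Classical.choose (trans_exists D p hm hq hcompat φ)

lemma tr_spec {i j : I} (φ : i ⟶ j) :
    (yon S).map (tr D p hm hq hcompat φ) ≫ (p j).toHom = (p i).toHom ≫ D.map φ :=
  Classical.choose_spec (trans_exists D p hm hq hcompat φ)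

include hm in
omit hq hcompat in
lemma hom_unique {T : Over S} {j : I} (c c' : T ⟶ (p j).pt)
    (h : (yon S).map c ≫ (p j).toHom = (yon S).map c' ≫ (p j).toHom) : c = c' := by
  haveI := hm j
  exact (yon S).map_injective ((cancel_mono (p j).toHom).1 h)

/-- the diagram of the representing field points. -/
noncomputable def P : I ⥤ Over S where
  obj i := (p i).pt
  map φ := tr D p hm hq hcompat φ
  map_id i := by
    apply hom_unique D p hm
    rw [tr_spec, D.map_id, Category.comp_id, (yon S).map_id, Category.id_comp]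
  map_comp {i j k} φ ψ := by
    apply hom_unique D p hm
    rw [tr_spec, D.map_comp, ← Category.assoc, ← tr_spec D p hm hq hcompat φ, Category.assoc,
      ← tr_spec D p hm hq hcompat ψ, Functor.map_comp, Category.assoc]


variable [IsCofiltered I]

include hm hq hcompat in
theorem exists_data (c : Cone D) (hc : IsLimit c) :
    ∃ (L : Over S) (a : (yon S).obj L ⟶ c.pt) (π : ∀ i, L ⟶ (p i).pt),
      Nonempty L.left ∧ Subsingleton L.left ∧
      (∀ i, a ≫ c.π.app i = (yon S).map (π i) ≫ (p i).toHom) ∧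
      (∀ (T : Over S) (g : (yon S).obj T ⟶ c.pt),
        (∀ i, ∃ d : T ⟶ (p i).pt, (yon S).map d ≫ (p i).toHom = g ≫ c.π.app i) →
          ∃ e : T ⟶ L, (yon S).map e ≫ a = g) := by
  let P' : I ⥤ Over S := P D p hm hq hcompat
  haveI haff : ∀ i, IsAffine ((P' ⋙ Over.forget S).obj i) := fun i =>
    inferInstanceAs (IsAffine (Spec (CommRingCat.of (p i).K)))
  haveI : ∀ (i j : I) (f : i ⟶ j), IsAffineHom ((P' ⋙ Over.forget S).map f) := by
    intro i j f
    haveI := haff i
    haveI := haff j
    infer_instance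
  haveI : HasLimit (P' ⋙ Over.forget S) := Groth.Agent.H94.AffineLimit.hasLimit _
  haveI : IsConnected I := IsCofiltered.isConnected _
  haveI : HasLimit P' := hasLimit_of_created P' (Over.forget S)
  have hL : IsLimit (limit.cone P') := limit.isLimit P'
  have hL' : IsLimit ((Over.forget S).mapCone (limit.cone P')) := isLimitOfPreserves _ hL
  have hne : Nonempty (limit P').left := by
    haveI : ∀ {i j : I} (f : i ⟶ j), IsAffineHom ((P' ⋙ Over.forget S).map f) := by
      intro i j f
      haveI := haff i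
      haveI := haff j
      infer_instance
    haveI : ∀ i, Nonempty ((P' ⋙ Over.forget S).obj i) := fun i =>
      inferInstanceAs (Nonempty (Spec (CommRingCat.of (p i).K)))
    haveI : ∀ i, CompactSpace ((P' ⋙ Over.forget S).obj i) := fun i =>
      inferInstanceAs (CompactSpace (Spec (CommRingCat.of (p i).K)))
    exact Scheme.nonempty_of_isLimit (P' ⋙ Over.forget S) _ hL'
  have hsub : Subsingleton (limit P').left := by
    refine subsingleton_of_isLimit (P' ⋙ Over.forget S) (fun i => ?_) _ hL'
    change IsField Γ(Spec (CommRingCat.of (p i).K), ⊤)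
    exact MulEquiv.isField (Field.toIsField (p i).K)
      (Scheme.ΓSpecIso (CommRingCat.of (p i).K)).commRingCatIsoToRingEquiv.toMulEquiv
  let πL : ∀ i, limit P' ⟶ (p i).pt := fun i => limit.π P' i
  have hπw : ∀ (i j : I) (φ : i ⟶ j), πL i ≫ tr D p hm hq hcompat φ = πL j :=
    fun i j φ => limit.w P' φ
  have hnat : ∀ (i j : I) (φ : i ⟶ j), (yon S).map (πL j) ≫ (p j).toHom =
      ((yon S).map (πL i) ≫ (p i).toHom) ≫ D.map φ := by
    intro i j φ
    rw [Category.assoc, ← tr_spec D p hm hq hcompat φ, ← Category.assoc, ← Functor.map_comp, hπw]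
  let coneX : Cone D :=
    { pt := (yon S).obj (limit P')
      π :=
        { app := fun i => (yon S).map (πL i) ≫ (p i).toHom
          naturality := by
            intro i j φ
            change 𝟙 _ ≫ (yon S).map (πL j) ≫ (p j).toHom =
              ((yon S).map (πL i) ≫ (p i).toHom) ≫ D.map φ
            rw [Category.id_comp, hnat i j φ] } }
  refine ⟨limit P', hc.lift coneX, πL, hne, hsub, fun i => hc.fac coneX i, ?_⟩
  intro T g hg
  choose d hd using hg
  have hdw : ∀ (i j : I) (φ : i ⟶ j), d i ≫ tr D p hm hq hcompat φ = d j := by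
    intro i j φ
    apply hom_unique D p hm
    rw [Functor.map_comp, Category.assoc, tr_spec, ← Category.assoc, hd i, Category.assoc, c.w, hd j]
  let coneP : Cone P' :=
    { pt := T
      π :=
        { app := fun i => d i
          naturality := by
            intro i j φ
            change 𝟙 _ ≫ d j = d i ≫ tr D p hm hq hcompat φ
            rw [Category.id_comp, hdw] } }
  have hlift : ∀ i, limit.lift P' coneP ≫ πL i = d i := fun i => limit.lift_π coneP i
  refine ⟨limit.lift P' coneP, ?_⟩
  apply hc.hom_ext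
  intro i
  rw [Category.assoc, hc.fac coneX i]
  change _ ≫ (yon S).map (πL i) ≫ (p i).toHom = _
  rw [← Category.assoc, ← Functor.map_comp, hlift]
  exact hd i

end

section
variable {I : Type u} [SmallCategory I] [IsCofiltered I] (D : I ⥤ Sp S)

theorem points_limit (c : Cone D) (hc : IsLimit c) (hdec : ∀ i, IsDecent (D.obj i)) :
    (∀ x x' : Points c.pt, (∀ i, Points.map (c.π.app i) x = Points.map (c.π.app i) x') → x = x') ∧
    (∀ s : ∀ i, Points (D.obj i), (∀ (i j : I) (φ : i ⟶ j), Points.map (D.map φ) (s i) = s j) →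
      ∃ x : Points c.pt, ∀ i, Points.map (c.π.app i) x = s i) := by
  -- common construction from a compatible family
  have key : ∀ s : ∀ i, Points (D.obj i), (∀ (i j : I) (φ : i ⟶ j), Points.map (D.map φ) (s i) = s j) →
      ∃ (L : Over S) (a : (yon S).obj L ⟶ c.pt), Nonempty L.left ∧ Subsingleton L.left ∧
        (∀ (ℓ : L.left) i, Points.map (c.π.app i) (Points.ofPt a ℓ) = s i) ∧
        (∀ q : FieldPt c.pt, (∀ i, Points.map (c.π.app i) (Points.mk q) = s i) →
          ∃ ℓ : L.left, Points.mk q = Points.ofPt a ℓ) := by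
    intro s hs
    choose p hp hm hq using fun i => hdec i (s i)
    have hcompat : ∀ (i j : I) (φ : i ⟶ j), Points.mk ((p i).map (D.map φ)) = Points.mk (p j) := by
      intro i j φ
      rw [← Points.map_mk, hp i, hs i j φ, hp j]
    obtain ⟨L, a, π, hne, hsub, ha, hfac⟩ := exists_data D p hm hq hcompat c hc
    refine ⟨L, a, hne, hsub, ?_, ?_⟩
    · intro ℓ i
      rw [Points.map_ofPt, ha i, Groth.Agent.H52.ofPt_yon_map_comp, Points.ofPt_toHom, hp i]
    · intro q hq'
      have hd : ∀ i, ∃ d : q.pt ⟶ (p i).pt, (yon S).map d ≫ (p i).toHom = q.toHom ≫ c.π.app i := by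
        intro i
        obtain ⟨d, hd⟩ := Groth.Agent.H52.exists_factor_of_mk_eq (p i) (q.map (c.π.app i)) (hm i) (hq i)
          (by rw [← Points.map_mk, hq' i, hp i])
        exact ⟨d, hd.trans (FieldPt.toHom_map _ _)⟩
      obtain ⟨e, he⟩ := hfac q.pt q.toHom hd
      refine ⟨e.left (IsLocalRing.closedPoint q.K : PrimeSpectrum q.K), ?_⟩
      rw [← Groth.Agent.H52.ofPt_yon_map_comp, he, Points.ofPt_toHom]
  refine ⟨?_, ?_⟩
  · intro x x' hxx'
    induction x using Points.ind with
    | h q =>
    induction x' using Points.ind with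
    | h q' =>
    obtain ⟨L, a, hne, hsub, -, hrep⟩ := key (fun i => Points.map (c.π.app i) (Points.mk q)) (by
      intro i j φ
      rw [← Points.map_comp, c.w])
    obtain ⟨ℓ, hℓ⟩ := hrep q (fun i => rfl)
    obtain ⟨ℓ', hℓ'⟩ := hrep q' (fun i => (hxx' i).symm)
    rw [hℓ, hℓ', Subsingleton.elim ℓ ℓ']
  · intro s hs
    obtain ⟨L, a, ⟨ℓ⟩, hsub, hpt, -⟩ := key s hs
    exact ⟨Points.ofPt a ℓ, hpt ℓ⟩

end

end Groth.Agent.H94.AlgSpLimit5
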