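import Mathlib
import Groth.Prelude.Def_AlgSp4
import Groth.Prelude.Def_AlgSpDec
import Groth.Prelude.Def_AlgSpSub
import Groth.Agent.H94.AlgSpLimit6
import Groth.Agent.H94.AlgSpLimit3
import Groth.Agent.H94.AlgSpLimit2
import Groth.Agent.H50.ClosedSub
import Groth.Agent.H50.Affine
import Groth.Agent.H50.OpenSubChart
set_option autoImplicit false
universe u
open CategoryTheory CategoryTheory.Limits AlgebraicGeometry
open AlgSp
namespace Groth.Agent.H94.AlgSpLimit8
open Groth.Agent.H94.AlgSpLimit Groth.Agent.H94.AlgSpLimit4 Groth.Agent.H94.AlgSpLimit6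

variable {S : Scheme.{u}}

/-- a morphism from a reduced scheme whose points all land in a closed subspace factors through it. -/
theorem exists_factor_of_points_mem_closed {U X : Sp S} (j : U ⟶ X) (hj : RepWith @IsClosedImmersion j)
    {T : Over S} [IsReduced T.left] (u : (yon S).obj T ⟶ X)
    (hpts : ∀ t : ↥T.left, Points.ofPt u t ∈ Set.range (Points.map j)) :
    ∃ r : (yon S).obj T ⟶ U, r ≫ j = u := by
  obtain ⟨T', ψ, fst, sq⟩ := hj.1 u
  have hψ : IsClosedImmersion ψ.left := hj.2 _ _ _ sq
  have hsurj : Function.Surjective ψ.left := by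
    intro t
    obtain ⟨z, hz⟩ := hpts t
    have h1 : Points.map j z = Points.map u (Points.ofScheme T t) := by
      rw [hz, Points.ofPt_eq_map_ofScheme]
    obtain ⟨w, hw1, hw2⟩ := Groth.Agent.H50.exists_point_of_isPullback sq z _ h1
    obtain ⟨t', rfl⟩ := (Points.schemeEquiv T').surjective w
    change Points.map _ (Points.ofScheme T' t') = _ at hw2
    rw [Groth.Agent.H52.map_yon_map_ofScheme] at hw2
    exact ⟨t', Groth.Agent.H52.ofScheme_injective _ hw2⟩
  haveI : Surjective ψ.left := ⟨hsurj⟩
  haveI : IsIso ψ.left := isIso_of_isClosedImmersion_of_surjective _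
  haveI : IsIso ((Over.forget S).map ψ) := (inferInstance : IsIso ψ.left)
  haveI : IsIso ψ := isIso_of_reflects_iso ψ (Over.forget S)
  refine ⟨(yon S).map (inv ψ) ≫ fst, ?_⟩
  rw [Category.assoc, sq.w, ← Category.assoc, ← Functor.map_comp, IsIso.inv_hom_id,
    CategoryTheory.Functor.map_id, Category.id_comp]

section
variable {I : Type u} [SmallCategory I] [IsCofiltered I] (D : I ⥤ Sp S)

theorem closure_point_limit (hD : ∀ i, IsAlgSpace (D.obj i))
    (hDa : ∀ (i j : I) (φ : i ⟶ j), IsAffineMor (D.map φ))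
    (c : Cone D) (hc : IsLimit c) (x : Points c.pt) :
    closure {x} = {x' | ∀ i, Points.map (c.π.app i) x' ∈ closure {Points.map (c.π.app i) x}} := by
  have htop := points_limit_topology D hD hDa c hc
  have hn : ∀ y : Points c.pt, @nhds _ (Points.topologicalSpace c.pt) y =
      ⨅ i, Filter.comap (Points.map (c.π.app i)) (nhds (Points.map (c.π.app i) y)) := by
    intro y
    rw [htop, nhds_iInf]
    simp only [nhds_induced]
  ext x'
  simp only [Set.mem_setOf_eq, ← specializes_iff_mem_closure]
  constructor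
  · intro h i
    exact h.map (Points.continuous_map (c.π.app i))
  · intro h
    show nhds x ≤ nhds x'
    rw [hn x, hn x']
    exact iInf_mono fun i => Filter.comap_mono (h i)

theorem isLimit_closure (hD : ∀ i, IsAlgSpace (D.obj i))
    (hDa : ∀ (i j : I) (φ : i ⟶ j), IsAffineMor (D.map φ))
    (c : Cone D) (hc : IsLimit c) (x : Points c.pt)
    (Z : Sp S) (zι : Z ⟶ c.pt) (hZ : IsRedInduced (closure {x}) zι)
    (DZ : I ⥤ Sp S) (ι : DZ ⟶ D)
    (hι : ∀ i, IsRedInduced (closure {Points.map (c.π.app i) x}) (ι.app i))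
    (ξ : (Functor.const I).obj Z ⟶ DZ) (hξ : ∀ i, ξ.app i ≫ ι.app i = zι ≫ c.π.app i) :
    Nonempty (IsLimit (Cone.mk Z ξ)) := by
  have hci : ∀ ⦃X Y : Scheme.{u}⦄ (g : X ⟶ Y), IsClosedImmersion g → IsAffineHom g :=
    fun _ _ g hg => by haveI := hg; infer_instance
  haveI hmono : ∀ i, Mono (ι.app i) := fun i =>
    Groth.Agent.H50.mono_of_repWith (fun _ _ g hg => by haveI := hg; infer_instance) (hι i).1
  -- transitions of `DZ` are affine
  have hDZa : ∀ (i j : I) (φ : i ⟶ j), IsAffineMor (DZ.map φ) := by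
    intro i j φ
    have h1 : IsAffineMor (ι.app i ≫ D.map φ) :=
      Groth.Agent.H50.isAffineMor_comp
        (Groth.Agent.H50.isAffineMor_of_repWith (Groth.Agent.H50.repWith_mono hci (hι i).1)) (hDa i j φ)
    rw [← ι.naturality] at h1
    have h2 : RepWith @IsAffineHom (DZ.map φ ≫ ι.app j) := repWith_of_isAffineMor _ h1
    exact Groth.Agent.H50.isAffineMor_of_repWith (Groth.Agent.H50.repWith_of_comp_mono _ _ h2)
  -- the limit of `DZ`
  let c' : Cone DZ := limit.cone DZ
  have hc' : IsLimit c' := limit.isLimit DZ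
  let m : c'.pt ⟶ c.pt := hc.lift ⟨c'.pt, c'.π ≫ ι⟩
  have hmπ : ∀ i, m ≫ c.π.app i = c'.π.app i ≫ ι.app i := fun i => hc.fac _ i
  have hm : RepWith @IsClosedImmersion m :=
    Groth.Agent.H94.AlgSpLimit3.closedImmersion_limMap DZ D ι (fun i => (hι i).1) c' hc' c hc m hmπ
  have hred : IsReducedSp c'.pt :=
    Groth.Agent.H94.AlgSpLimit2.isReducedSp_limit DZ hDZa c' hc' (fun i => (hι i).2.2)
  -- range of m
  have hrange : Set.range (Points.map m) = closure {x} := by
    rw [closure_point_limit D hD hDa c hc x]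
    apply Set.Subset.antisymm
    · rintro _ ⟨z', rfl⟩ i
      rw [← Points.map_comp, hmπ, Points.map_comp, ← (hι i).2.1]
      exact ⟨_, rfl⟩
    · intro x' hx'
      induction x' using Points.ind with
      | h p =>
      have hfac : ∀ i, ∃ r : (yon S).obj p.pt ⟶ DZ.obj i, r ≫ ι.app i = p.toHom ≫ c.π.app i := by
        intro i
        haveI : IsReduced p.pt.left := (inferInstance : IsReduced (Spec (CommRingCat.of p.K)))
        apply exists_factor_of_points_mem_closed (ι.app i) (hι i).1
        intro t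
        rw [← Points.map_ofPt, Points.ofPt_toHom, (hι i).2.1]
        exact hx' i
      choose r hr using hfac
      have hnat : ∀ (i j : I) (φ : i ⟶ j), r i ≫ DZ.map φ = r j := by
        intro i j φ
        rw [← cancel_mono (ι.app j), Category.assoc, ι.naturality, ← Category.assoc, hr i,
          Category.assoc, c.w, hr j]
      have hnat' : ∀ (i j : I) (φ : i ⟶ j),
          ((Functor.const I).obj ((yon S).obj p.pt)).map φ ≫ r j = r i ≫ DZ.map φ := by
        intro i j φ
        simpa using (hnat i j φ).symm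
      let cone' : Cone DZ := ⟨(yon S).obj p.pt, { app := r, naturality := hnat' }⟩
      let p' : (yon S).obj p.pt ⟶ c'.pt := hc'.lift cone'
      have hp' : p' ≫ m = p.toHom := by
        apply hc.hom_ext
        intro i
        rw [Category.assoc, hmπ, ← Category.assoc, hc'.fac cone' i]
        exact hr i
      obtain ⟨t₀⟩ : Nonempty ↥p.pt.left := (inferInstance : Nonempty (Spec (CommRingCat.of p.K)))
      refine ⟨Points.ofPt p' t₀, ?_⟩
      rw [Points.map_ofPt, hp', Points.ofPt_toHom]
  -- the fibre product of the two closed subspaces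
  have sq := IsPullback.of_hasPullback zι m
  have h1 : RepWith @IsClosedImmersion (pullback.fst zι m) :=
    Groth.Agent.H50.repWith_fst_of_isPullback sq hm
  have h2 : RepWith @IsClosedImmersion (pullback.snd zι m) :=
    Groth.Agent.H50.repWith_snd_of_isPullback sq hZ.1
  have hs1 : Function.Surjective (Points.map (pullback.fst zι m)) := by
    intro z
    have hz : Points.map zι z ∈ Set.range (Points.map m) := by
      rw [hrange, ← hZ.2.1]
      exact ⟨z, rfl⟩
    obtain ⟨z', hz'⟩ := hz
    obtain ⟨w, hw, -⟩ := Groth.Agent.H50.exists_point_of_isPullback sq z z' hz'.symm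
    exact ⟨w, hw⟩
  have hs2 : Function.Surjective (Points.map (pullback.snd zι m)) := by
    intro z'
    have hz : Points.map m z' ∈ Set.range (Points.map zι) := by
      rw [hZ.2.1, ← hrange]
      exact ⟨z', rfl⟩
    obtain ⟨z, hz⟩ := hz
    obtain ⟨w, -, hw⟩ := Groth.Agent.H50.exists_point_of_isPullback sq z z' hz
    exact ⟨w, hw⟩
  haveI i1 : IsIso (pullback.fst zι m) :=
    Groth.Agent.H50.isIso_of_repWith_isClosedImmersion_of_surjective _ h1 hs1 hZ.2.2
  haveI i2 : IsIso (pullback.snd zι m) :=
    Groth.Agent.H50.isIso_of_repWith_isClosedImmersion_of_surjective _ h2 hs2 hred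
  let e : Z ≅ c'.pt := (asIso (pullback.fst zι m)).symm ≪≫ asIso (pullback.snd zι m)
  have he : e.hom ≫ m = zι := by
    show (inv (pullback.fst zι m) ≫ pullback.snd zι m) ≫ m = zι
    rw [Category.assoc, ← pullback.condition, IsIso.inv_hom_id_assoc]
  have heπ : ∀ i, e.hom ≫ c'.π.app i = ξ.app i := by
    intro i
    rw [← cancel_mono (ι.app i), Category.assoc, ← hmπ, ← Category.assoc, he, hξ]
  refine ⟨IsLimit.ofIsoLimit hc' (Cones.ext e.symm (fun i => ?_))⟩
  show c'.π.app i = e.inv ≫ ξ.app i
  rw [← heπ, Iso.inv_hom_id_assoc]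

end

end Groth.Agent.H94.AlgSpLimit8
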