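import Mathlib
import Groth.Prelude.Def_BlowUp2
import Groth.Agent.S7894
import Groth.Agent.H22.FB_AFF
import Groth.Agent.H54.BUEX_BCO

/-! (GLUEBU) for helper95's S8859 squad: blow-ups of the affine opens glue to a blow-up. -/

set_option autoImplicit false
universe u
open CategoryTheory CategoryTheory.Limits AlgebraicGeometry

namespace Groth.Agent.H94.BUEX_GLUEBU

/-- the statement of (BCO), as a hypothesis. -/
def BCOStatement : Prop :=
  ∀ {U V B B' : Scheme.{u}} (J : V.IdealSheafData) (j : U ⟶ V) [Flat j]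
    (b : B ⟶ V) (_ : BlowUp.IsBlowUp b J) (b' : B' ⟶ U) (_ : BlowUp.IsBlowUp b' (J.comap j))
    (l : B' ⟶ B) (_ : l ≫ b = b' ≫ j), IsPullback l b' b j

section
variable (Y : Scheme.{u}) (I : Y.IdealSheafData)
  (B : Y.affineOpens → Scheme.{u}) (b : ∀ U : Y.affineOpens, B U ⟶ U.1.toScheme)
  (hB : ∀ U : Y.affineOpens, BlowUp.IsBlowUp (b U) (I.comap U.1.ι))

theorem comap_homOfLE {U V : Y.affineOpens} (h : U ≤ V) :
    (I.comap V.1.ι).comap (Y.homOfLE h) = I.comap U.1.ι := by
  rw [← Scheme.IdealSheafData.comap_comp, Scheme.homOfLE_ι]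

include hB in
theorem effCartier_trans {U V : Y.affineOpens} (h : U ≤ V) :
    BlowUp.IsEffCartierIdeal ((I.comap V.1.ι).comap (b U ≫ Y.homOfLE h)) := by
  rw [Scheme.IdealSheafData.comap_comp, comap_homOfLE]
  exact (hB U).1

/-- transition maps between the local blow-ups. -/
noncomputable def tmap {U V : Y.affineOpens} (h : U ≤ V) : B U ⟶ B V :=
  ((hB V).2 (B U) (b U ≫ Y.homOfLE h) (effCartier_trans Y I B b hB h)).choose

theorem tmap_fac {U V : Y.affineOpens} (h : U ≤ V) :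
    tmap Y I B b hB h ≫ b V = b U ≫ Y.homOfLE h :=
  ((hB V).2 (B U) (b U ≫ Y.homOfLE h) (effCartier_trans Y I B b hB h)).choose_spec.1

theorem tmap_uniq {U V : Y.affineOpens} (h : U ≤ V) (l : B U ⟶ B V)
    (hl : l ≫ b V = b U ≫ Y.homOfLE h) : l = tmap Y I B b hB h :=
  ((hB V).2 (B U) (b U ≫ Y.homOfLE h) (effCartier_trans Y I B b hB h)).choose_spec.2 l hl

theorem tmap_refl (U : Y.affineOpens) : tmap Y I B b hB (le_refl U) = 𝟙 (B U) := by
  symm
  apply tmap_uniq
  rw [Category.id_comp]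
  have : Y.homOfLE (le_refl U.1) = 𝟙 _ := Scheme.homOfLE_rfl _ _
  rw [this, Category.comp_id]

theorem tmap_comp {U V W : Y.affineOpens} (h1 : U ≤ V) (h2 : V ≤ W) :
    tmap Y I B b hB h1 ≫ tmap Y I B b hB h2 = tmap Y I B b hB (h1.trans h2) := by
  apply tmap_uniq
  rw [Category.assoc, tmap_fac, ← Category.assoc, tmap_fac, Category.assoc,
    Scheme.homOfLE_homOfLE]

include hB in
theorem hB' {U V : Y.affineOpens} (h : U ≤ V) :
    BlowUp.IsBlowUp (b U) ((I.comap V.1.ι).comap (Y.homOfLE h)) := by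
  rw [comap_homOfLE]
  exact hB U

/-- the functor of local blow-ups. -/
noncomputable def F : Y.directedAffineCover.I₀ ⥤ Scheme.{u} where
  obj U := B U
  map {U V} f := tmap Y I B b hB (leOfHom f)
  map_id U := tmap_refl Y I B b hB U
  map_comp {U V W} f g := (tmap_comp Y I B b hB (leOfHom f) (leOfHom g)).symm

/-- the structure maps. -/
noncomputable def α : F Y I B b hB ⟶ Y.directedAffineCover.functorOfLocallyDirected where
  app U := b U
  naturality {U V} f := tmap_fac Y I B b hB (leOfHom f)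

include hB in
theorem equifibered (hBCO : BCOStatement.{u}) : (α Y I B b hB).Equifibered := by
  intro U V f
  have : Flat (Y.homOfLE (leOfHom f)) := inferInstance
  exact hBCO (I.comap (Subtype.val (V : Y.affineOpens)).ι) (Y.homOfLE (leOfHom f)) (b V) (hB V) (b U)
    (hB' Y I B b hB (leOfHom f)) (tmap Y I B b hB (leOfHom f))
    (tmap_fac Y I B b hB (leOfHom f))

/-- the gluing datum. -/
noncomputable def d (hBCO : BCOStatement.{u}) : Y.directedAffineCover.RelativeGluingData where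
  functor := F Y I B b hB
  natTrans := α Y I B b hB
  equifibered := equifibered Y I B b hB hBCO

theorem isBlowUp_toBase (hBCO : BCOStatement.{u}) :
    BlowUp.IsBlowUp (d Y I B b hB hBCO).toBase I := by
  apply Groth.Agent.S7894.LOC _ I (fun U : Y.affineOpens => U.1) (iSup_affineOpens_eq_top Y)
  intro U
  have P1 := (d Y I B b hB hBCO).isPullback_natTrans_ι_toBase U
  have P2 := isPullback_morphismRestrict (d Y I B b hB hBCO).toBase U.1
  let e := P1.isoIsPullback _ _ P2
  have he : e.hom ≫ ((d Y I B b hB hBCO).toBase ∣_ U.1) = b U :=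
    P1.isoIsPullback_hom_fst _ _ P2
  have h := Groth.Agent.H22.FBAFF.ISO (b U) ((d Y I B b hB hBCO).toBase ∣_ U.1) e.symm
    (Iso.refl _) (by
      rw [Iso.symm_hom, Iso.refl_hom, Category.comp_id]
      exact (Iso.inv_comp_eq _).2 he.symm) (I.comap U.1.ι) (hB U)
  rw [Iso.refl_hom, Scheme.IdealSheafData.comap_id] at h
  exact h

end

/-- (GLUEBU) modulo (BCO). -/
theorem GLUEBU_of (hBCO : BCOStatement.{u}) (Y : Scheme.{u}) (I : Y.IdealSheafData)
    (h : ∀ U : Y.affineOpens, ∃ (B : Scheme.{u}) (b : B ⟶ U.1.toScheme),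
      BlowUp.IsBlowUp b (I.comap U.1.ι)) :
    ∃ (X' : Scheme.{u}) (b : X' ⟶ Y), BlowUp.IsBlowUp b I := by
  choose B b hB using h
  exact ⟨_, _, isBlowUp_toBase Y I B b hB hBCO⟩

/-- (GLUEBU) blow-ups glue. -/
theorem GLUEBU (Y : Scheme.{u}) (I : Y.IdealSheafData)
    (h : ∀ U : Y.affineOpens, ∃ (B : Scheme.{u}) (b : B ⟶ U.1.toScheme),
      BlowUp.IsBlowUp b (I.comap U.1.ι)) :
    ∃ (X' : Scheme.{u}) (b : X' ⟶ Y), BlowUp.IsBlowUp b I :=
  GLUEBU_of (fun J j _ b hb b' hb' l hl => Groth.Agent.H54.BUEX_BCO.BCO J j b hb b' hb' l hl) Y I h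

end Groth.Agent.H94.BUEX_GLUEBU
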