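import Mathlib
import Groth.Prelude.Def_AlgSp4
import Groth.Prelude.Def_AlgSpRep
import Groth.Agent.S9873
import Groth.Agent.H52.ProdAtlas
import Groth.Agent.H52.MonoField
import Groth.Agent.H52.DescCI
import Groth.Agent.H51.EtaleChart
import Groth.Agent.H51.EtSmoothST
import Groth.Agent.H51.LqfDescGen

/-!
# Bootstrap consequences of "separated + locally quasi-finite over a scheme is a scheme" (helper94)

Everything here takes the statement of S10259 (`H10259 S`) as an explicit HYPOTHESIS, so that this file is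
sorry-free and independent of when `Groth.Agent.S10259` lands.  The milestone files S10098, S10100, S10101 feed
`Groth.Agent.S10259.result` into `main10098`, `main10100`, `main10101`.
-/

set_option autoImplicit false
universe u
open CategoryTheory CategoryTheory.Limits AlgebraicGeometry Topology
open AlgSp
namespace Groth.Agent.H94.Boot1
open Groth.Agent.H50

variable {S : Scheme.{u}}

/-- The statement of S10259: an algebraic space separated and locally quasi-finite over a scheme is a scheme. -/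
def H10259 (S : Scheme.{u}) : Prop :=
  ∀ (T : Over S) (X : AlgSp.Space S) (f : X ⟶ (AlgSp.ofScheme S).obj T),
    AlgSp.LocP (@LocallyQuasiFinite ⊓ @LocallyOfFiniteType) f.hom → AlgSp.IsSeparatedMor f.hom →
    X.obj.obj.IsRepresentable



/-- a sheaf with jointly monic maps to two schemes, lqf over the second, is a scheme. -/
theorem isRepresentable_of_lqf_jointlyMono (h10259 : H10259 S) {W : Sp S} {U T : Over S}
    (u : W ⟶ (yon S).obj U) (τ : W ⟶ (yon S).obj T)
    (hjm : ∀ ⦃Z : Sp S⦄ (x x' : Z ⟶ W), x ≫ u = x' ≫ u → x ≫ τ = x' ≫ τ → x = x')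
    (hW : IsAlgSpace W) (hτ : LocP (@LocallyQuasiFinite ⊓ @LocallyOfFiniteType) τ) :
    W.obj.IsRepresentable := by
  have inst4 := AlgSp.repWith_isMultiplicative (S := S) @IsClosedImmersion
  have instE2 := AlgSp.repWith_isMultiplicative (S := S) @Etale
  obtain ⟨m, hm1, hm2⟩ : ∃ m : W ⟶ (yon S).obj (U ⨯ T),
      m ≫ (yon S).map prod.fst = u ∧ m ≫ (yon S).map prod.snd = τ := by
    refine ⟨prod.lift u τ ≫ inv (prodComparison (yon S) U T), ?_, ?_⟩
    · rw [Category.assoc, ← prodComparison_fst, IsIso.inv_hom_id_assoc, prod.lift_fst]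
    · rw [Category.assoc, ← prodComparison_snd, IsIso.inv_hom_id_assoc, prod.lift_snd]
  haveI hmono : Mono m := ⟨fun x x' h => hjm x x'
    (by rw [← hm1, ← Category.assoc, h, Category.assoc])
    (by rw [← hm2, ← Category.assoc, h, Category.assoc])⟩
  have hsep : IsSeparatedMor m :=
    MorphismProperty.of_isIso (RepWith @IsClosedImmersion) (pullback.diagonal m)
  have hqf : LocP (@LocallyQuasiFinite ⊓ @LocallyOfFiniteType) m := by
    intro A B a b h ha hb comm
    obtain ⟨β, rfl⟩ := (yon S).map_surjective b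
    have h1 : a ≫ τ = (yon S).map (h ≫ β ≫ prod.snd) ≫ 𝟙 _ := by
      rw [← hm2, ← Category.assoc, comm, Functor.map_comp, Functor.map_comp, Category.assoc,
        Category.comp_id]
    have hE := hτ a (𝟙 _) (h ≫ β ≫ prod.snd) ha ((RepWith @Etale).id_mem _) h1
    have h2 : (h ≫ β ≫ prod.snd).left = h.left ≫ (β ≫ prod.snd).left := rfl
    rw [h2] at hE
    have h3 : LocallyQuasiFinite (h.left ≫ (β ≫ prod.snd).left) := hE.1
    have h4 : LocallyOfFiniteType (h.left ≫ (β ≫ prod.snd).left) := hE.2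
    exact ⟨LocallyQuasiFinite.of_comp h.left (β ≫ prod.snd).left,
      locallyOfFiniteType_of_comp h.left (β ≫ prod.snd).left⟩
  exact h10259 (U ⨯ T) ⟨W, hW⟩ (ObjectProperty.homMk m) hqf hsep

theorem main10100 (h10259 : H10259 S) (F : AlgSp.PSp S) (X : Over S)
    (p : (AlgSp.pyon S).obj X ⟶ F)
    (hp : AlgSp.RepBySpWith (AlgSp.LocP (@LocallyQuasiFinite ⊓ @LocallyOfFiniteType)) p) :
    (AlgSp.pyon S).relativelyRepresentable p := by
  intro T ξ
  have sq := IsPullback.of_hasPullback p ξ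
  obtain ⟨hsh, halg, hQ⟩ := hp ξ _ _ sq
  have hrep : (pullback p ξ).IsRepresentable := by
    refine isRepresentable_of_lqf_jointlyMono h10259 (W := ⟨pullback p ξ, hsh⟩) (U := X) (T := T)
      (ObjectProperty.homMk (pullback.fst p ξ)) (ObjectProperty.homMk (pullback.snd p ξ)) ?_ halg hQ
    intro Z x x' h1 h2
    apply ObjectProperty.hom_ext
    apply pullback.hom_ext
    · exact congrArg (fun f => f.hom) h1
    · exact congrArg (fun f => f.hom) h2
  obtain ⟨Z, ⟨r⟩⟩ := hrep.has_representation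
  let W : Sp S := ⟨pullback p ξ, hsh⟩
  let e : (yon S).obj Z ≅ W := isoOfRepresentableBy (F := W) r
  obtain ⟨snd, hsnd⟩ : ∃ snd : Z ⟶ T, (yon S).map snd = e.hom ≫ ObjectProperty.homMk (pullback.snd p ξ) :=
    ⟨(yon S).preimage _, (yon S).map_preimage _⟩
  have hsnd' : (pyon S).map snd = e.hom.hom ≫ pullback.snd p ξ := congrArg (fun f => f.hom) hsnd
  haveI : IsIso e.hom.hom := ⟨e.inv.hom, congrArg (fun f => f.hom) e.hom_inv_id,
    congrArg (fun f => f.hom) e.inv_hom_id⟩
  have sqiso : IsPullback e.hom.hom (e.hom.hom ≫ pullback.snd p ξ) (pullback.snd p ξ) (𝟙 _) :=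
    IsPullback.of_horiz_isIso ⟨by rw [Category.comp_id]⟩
  have sq0' := sqiso.paste_horiz sq
  rw [← hsnd', Category.id_comp] at sq0'
  exact ⟨Z, snd, e.hom.hom ≫ pullback.fst p ξ, sq0'⟩





/-- the fibre product `U ×_F T` is a scheme when its projection to `T` is etale. -/
theorem isRepresentable_of_etale (h10259 : H10259 S) {F W : Sp S} {U T : Over S} (q : (yon S).obj U ⟶ F)
    (ξ : (yon S).obj T ⟶ F) (u : W ⟶ (yon S).obj U) (τ : W ⟶ (yon S).obj T)
    (sq : IsPullback u τ q ξ) (hW : IsAlgSpace W) (hτ : IsEtaleMor τ) :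
    W.obj.IsRepresentable := by
  have inst4 := AlgSp.repWith_isMultiplicative (S := S) @IsClosedImmersion
  obtain ⟨m, hm1, hm2⟩ : ∃ m : W ⟶ (yon S).obj (U ⨯ T),
      m ≫ (yon S).map prod.fst = u ∧ m ≫ (yon S).map prod.snd = τ := by
    refine ⟨prod.lift u τ ≫ inv (prodComparison (yon S) U T), ?_, ?_⟩
    · rw [Category.assoc, ← prodComparison_fst, IsIso.inv_hom_id_assoc, prod.lift_fst]
    · rw [Category.assoc, ← prodComparison_snd, IsIso.inv_hom_id_assoc, prod.lift_snd]
  haveI hmono : Mono m := ⟨fun x x' h => sq.hom_ext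
    (by rw [← hm1, ← Category.assoc, h, Category.assoc])
    (by rw [← hm2, ← Category.assoc, h, Category.assoc])⟩
  have hsep : IsSeparatedMor m :=
    MorphismProperty.of_isIso (RepWith @IsClosedImmersion) (pullback.diagonal m)
  have hqf : LocP (@LocallyQuasiFinite ⊓ @LocallyOfFiniteType) m := by
    intro A B a b h ha hb comm
    obtain ⟨β, rfl⟩ := (yon S).map_surjective b
    have hcomp : RepWith @Etale (a ≫ τ) := hτ a ha
    have h1 : a ≫ τ = (yon S).map (h ≫ β ≫ prod.snd) := by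
      rw [← hm2, ← Category.assoc, comm, Functor.map_comp, Functor.map_comp, Category.assoc]
    rw [h1] at hcomp
    have hE : Etale (h ≫ β ≫ prod.snd).left := (repWith_yon_map_iff @Etale _).1 hcomp
    have h2 : (h ≫ β ≫ prod.snd).left = h.left ≫ (β ≫ prod.snd).left := rfl
    rw [h2] at hE
    have h3 : LocallyQuasiFinite (h.left ≫ (β ≫ prod.snd).left) :=
      (Groth.Agent.H50.goodProp_lqf.etale _ hE).1
    have h4 : LocallyOfFiniteType (h.left ≫ (β ≫ prod.snd).left) := inferInstance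
    exact ⟨LocallyQuasiFinite.of_comp h.left (β ≫ prod.snd).left,
      locallyOfFiniteType_of_comp h.left (β ≫ prod.snd).left⟩
  exact h10259 (U ⨯ T) ⟨W, hW⟩ (ObjectProperty.homMk m) hqf hsep

theorem main10101 (h10259 : H10259 S) (F : Sp S) (X : AlgSp.Space S)
    (p : X.obj ⟶ F) (hp : RepBySpWith (IsSurjectiveMor ⊓ IsEtaleMor) p.hom) :
    IsAlgSpace F := by
  have hp' := (repBySpWith_hom_iff _ p).1 hp
  have instE1 := AlgSp.repWith_isStableUnderBaseChange (S := S) @Etale
  have instE2 := AlgSp.repWith_isMultiplicative (S := S) @Etale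
  obtain ⟨U, a, hae, has⟩ := X.property.atlas
  have hasurj : Function.Surjective (Points.map a) := by
    intro x
    obtain ⟨u, hu⟩ := Groth.Agent.H52.surjective_ofPt_of_surjective a has x
    exact ⟨Points.ofScheme U u, by rw [← Points.ofPt_eq_map_ofScheme]; exact hu⟩
  have hq : ∀ (T : Over S) (ξ : (yon S).obj T ⟶ F), ∃ (Z : Over S) (fst : (yon S).obj Z ⟶ (yon S).obj U)
      (snd : Z ⟶ T), IsPullback fst ((yon S).map snd) (a ≫ p) ξ ∧ Etale snd.left ∧ Surjective snd.left := by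
    intro T ξ
    have sqW := IsPullback.of_hasPullback p ξ
    obtain ⟨hWalg, hWsurj, hWet⟩ := hp' ξ _ _ sqW
    have sqW' := IsPullback.of_hasPullback a (pullback.fst p ξ)
    have hW'alg : IsAlgSpace (pullback a (pullback.fst p ξ)) :=
      Groth.Agent.H52.isAlgSpace_of_isPullback sqW' X.property.diag (IsAlgSpace.yon_obj U) hWalg
    have sqbig : IsPullback (pullback.fst a (pullback.fst p ξ))
        (pullback.snd a (pullback.fst p ξ) ≫ pullback.snd p ξ) (a ≫ p) ξ := sqW'.paste_vert sqW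
    have hsnd' : RepWith @Etale (pullback.snd a (pullback.fst p ξ)) :=
      MorphismProperty.of_isPullback sqW' hae
    have hτ : IsEtaleMor (pullback.snd a (pullback.fst p ξ) ≫ pullback.snd p ξ) := by
      intro A φ hφ
      rw [← Category.assoc]
      exact hWet _ ((RepWith @Etale).comp_mem _ _ hφ hsnd')
    have hτs : Function.Surjective (Points.map (pullback.snd a (pullback.fst p ξ) ≫ pullback.snd p ξ)) := by
      intro y
      obtain ⟨w, hw⟩ := hWsurj y
      obtain ⟨w', hw'⟩ := Groth.Agent.H52.surjective_map_snd_of_isPullback sqW' hasurj w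
      exact ⟨w', by rw [Points.map_comp, hw', hw]⟩
    have hrep := isRepresentable_of_etale h10259 (a ≫ p) ξ _ _ sqbig hW'alg hτ
    obtain ⟨Z, ⟨r⟩⟩ := hrep.has_representation
    obtain ⟨e, he⟩ : ∃ e : (yon S).obj Z ⟶ pullback a (pullback.fst p ξ), IsIso e :=
      ⟨(isoOfRepresentableBy r).hom, inferInstance⟩
    haveI := he
    obtain ⟨snd, hsnd⟩ : ∃ snd : Z ⟶ T, (yon S).map snd =
        e ≫ pullback.snd a (pullback.fst p ξ) ≫ pullback.snd p ξ :=
      ⟨(yon S).preimage _, (yon S).map_preimage _⟩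
    have sqiso : IsPullback e (e ≫ pullback.snd a (pullback.fst p ξ) ≫ pullback.snd p ξ)
        (pullback.snd a (pullback.fst p ξ) ≫ pullback.snd p ξ) (𝟙 _) :=
      IsPullback.of_horiz_isIso ⟨by rw [Category.comp_id]⟩
    have sq0' := sqiso.paste_horiz sqbig
    rw [← hsnd, Category.id_comp] at sq0'
    refine ⟨Z, e ≫ pullback.fst a (pullback.fst p ξ), snd, sq0', ?_, ?_⟩
    · rw [← isEtaleMor_yon_map_iff, hsnd]
      intro A φ hφ
      rw [← Category.assoc]
      exact hτ _ ((RepWith @Etale).comp_mem _ _ hφ (MorphismProperty.of_isIso (RepWith @Etale) e))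
    · refine ⟨fun t => ?_⟩
      obtain ⟨w, hw⟩ := hτs (Points.ofScheme T t)
      have hes : Function.Surjective (Points.map e) := by
        intro y
        refine ⟨Points.map (inv e) y, ?_⟩
        rw [← Points.map_comp, IsIso.inv_hom_id, Points.map_id]
      obtain ⟨z, rfl⟩ := hes w
      obtain ⟨z', rfl⟩ := (Points.schemeEquiv Z).surjective z
      refine ⟨z', ?_⟩
      apply Groth.Agent.H52.ofScheme_injective T
      rw [← Groth.Agent.H52.map_yon_map_ofScheme, hsnd, Points.map_comp]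
      exact hw
  have he : RepWith @Etale (a ≫ p) := by
    refine MorphismProperty.relative.of_exists (fun T ξ => ?_)
    obtain ⟨Z, fst, snd, sq, h1, -⟩ := hq T ξ
    exact ⟨Z, fst, snd, sq, h1⟩
  have hs : RepWith @Surjective (a ≫ p) := by
    refine MorphismProperty.relative.of_exists (fun T ξ => ?_)
    obtain ⟨Z, fst, snd, sq, -, h2⟩ := hq T ξ
    exact ⟨Z, fst, snd, sq, h2⟩
  exact Groth.Agent.S9873.result S ⟨(yon S).obj U, IsAlgSpace.yon_obj U⟩ F (a ≫ p) he hs





theorem isSeparated_descendsAlong_fppf :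
    MorphismProperty.DescendsAlong (@IsSeparated : MorphismProperty Scheme.{u}) fppfProp := by
  rw [IsSeparated.isSeparated_eq_diagonal_isClosedImmersion]
  have := Groth.Agent.H52.isClosedImmersion_descendsAlong_fppf.{u}
  infer_instance

theorem aux10098 (h10259 : H10259 S) (Q : MorphismProperty Scheme.{u}) [IsZariskiLocalAtTarget Q]
    [Q.IsStableUnderBaseChange] (hQ : Q.DescendsAlong fppfProp)
    (hQ' : ∀ ⦃R T : Over S⦄ (j : R ⟶ T), IsSeparated j.left → LocallyQuasiFinite j.left →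
      LocallyOfFiniteType j.left → Q j.left)
    (E F G H : Sp S)
    (a : E ⟶ F) (f : E ⟶ H) (g : F ⟶ G) (b : H ⟶ G) (sq : IsPullback a f g b)
    (hg : RepBySpWith (IsSurjectiveMor ⊓ LocP @Flat ⊓ LocP @LocallyOfFinitePresentation) g.hom)
    (ha : RepBySpWith (IsSeparatedMor ⊓ LocP (@LocallyQuasiFinite ⊓ @LocallyOfFiniteType)) a.hom) :
    RepWith Q b := by
  have hg' := (repBySpWith_hom_iff _ g).1 hg
  have ha' := (repBySpWith_hom_iff _ a).1 ha
  have instE1 := AlgSp.repWith_isStableUnderBaseChange (S := S) @Etale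
  have instE2 := AlgSp.repWith_isMultiplicative (S := S) @Etale
  have instC1 := AlgSp.repWith_isStableUnderBaseChange (S := S) @IsClosedImmersion
  refine MorphismProperty.relative.of_exists (fun T ξ => ?_)
  -- the fppf cover of `T`
  have sqF := IsPullback.of_hasPullback g ξ
  obtain ⟨hFTalg, ⟨hsurj, hflat⟩, hlfp⟩ := hg' ξ _ _ sqF
  obtain ⟨T'', α, hαe, hαs⟩ := hFTalg.atlas
  obtain ⟨c, hc⟩ : ∃ c : T'' ⟶ T, (yon S).map c = α ≫ pullback.snd g ξ :=
    ⟨(yon S).preimage _, (yon S).map_preimage _⟩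
  have hcomm : α ≫ pullback.snd g ξ = (yon S).map c ≫ 𝟙 _ := by rw [Category.comp_id, hc]
  have hid : RepWith @Etale (𝟙 ((yon S).obj T)) := (RepWith @Etale).id_mem _
  haveI hcflat : Flat c.left := hflat α (𝟙 _) c hαe hid hcomm
  haveI hclfp : LocallyOfFinitePresentation c.left := hlfp α (𝟙 _) c hαe hid hcomm
  haveI hcsurj : Surjective c.left := by
    refine ⟨fun t => ?_⟩
    obtain ⟨w, hw⟩ := hsurj (Points.ofScheme T t)
    obtain ⟨u, hu⟩ := Groth.Agent.H52.surjective_ofPt_of_surjective α hαs w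
    refine ⟨u, ?_⟩
    apply Groth.Agent.H52.ofScheme_injective T
    rw [← Groth.Agent.H52.map_yon_map_ofScheme, hc, Points.map_comp, ← Points.ofPt_eq_map_ofScheme,
      hu, hw]
  haveI hepi : Epi ((yon S).map c) := Groth.Agent.H52.epi_yon_map_of_fppf c
  -- the base change of `b`
  have sqH := IsPullback.of_hasPullback b ξ
  have sqR := IsPullback.of_hasPullback (pullback.snd b ξ) ((yon S).map c)
  obtain ⟨R₀, r1, r2, hR₀⟩ : ∃ (R₀ : Sp S) (r1 : R₀ ⟶ pullback b ξ) (r2 : R₀ ⟶ (yon S).obj T''),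
      IsPullback r1 r2 (pullback.snd b ξ) ((yon S).map c) := ⟨_, _, _, sqR⟩
  have hbig : IsPullback (r1 ≫ pullback.fst b ξ) r2 b ((yon S).map c ≫ ξ) := hR₀.paste_horiz sqH
  have hcξ : (yon S).map c ≫ ξ = (α ≫ pullback.fst g ξ) ≫ g := by
    rw [hc, Category.assoc, Category.assoc, sqF.w]
  rw [hcξ] at hbig
  obtain ⟨l, hl1, hl2⟩ : ∃ l : R₀ ⟶ E, l ≫ a = r2 ≫ (α ≫ pullback.fst g ξ) ∧
      l ≫ f = r1 ≫ pullback.fst b ξ :=
    ⟨sq.lift (r2 ≫ (α ≫ pullback.fst g ξ)) (r1 ≫ pullback.fst b ξ)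
      (by rw [Category.assoc, ← hbig.w]), sq.lift_fst _ _ _, sq.lift_snd _ _ _⟩
  rw [← hl2] at hbig
  have sqE : IsPullback l r2 a (α ≫ pullback.fst g ξ) := IsPullback.of_right hbig hl1 sq.flip
  obtain ⟨hR₀alg, hR₀sep, hR₀lqf⟩ := ha' _ _ _ sqE
  have hrep : R₀.obj.IsRepresentable :=
    h10259 T'' ⟨R₀, hR₀alg⟩ (ObjectProperty.homMk r2) hR₀lqf hR₀sep
  obtain ⟨R, ⟨r⟩⟩ := hrep.has_representation
  obtain ⟨e, he⟩ : ∃ e : (yon S).obj R ⟶ R₀, IsIso e :=
    ⟨(isoOfRepresentableBy r).hom, inferInstance⟩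
  haveI := he
  obtain ⟨j, hj⟩ : ∃ j : R ⟶ T'', (yon S).map j = e ≫ r2 :=
    ⟨(yon S).preimage _, (yon S).map_preimage _⟩
  have sqiso : IsPullback e (e ≫ r2) r2 (𝟙 _) := IsPullback.of_horiz_isIso ⟨by rw [Category.comp_id]⟩
  have hjsep : IsSeparated j.left := by
    rw [← isSeparatedMor_yon_map_iff, hj]
    exact MorphismProperty.of_isPullback (P := (RepWith (S := S) @IsClosedImmersion).diagonal) sqiso hR₀sep
  have hjq := hR₀lqf e (𝟙 _) j (MorphismProperty.of_isIso (RepWith @Etale) e)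
    ((RepWith @Etale).id_mem _) (by rw [Category.comp_id, hj])
  have hjlqf : LocallyQuasiFinite j.left := hjq.1
  have hjlft : LocallyOfFiniteType j.left := hjq.2
  have sq1 := sqiso.paste_horiz hR₀
  rw [← hj, Category.id_comp] at sq1
  have hrw : RepWith Q (pullback.snd b ξ) :=
    Groth.Agent.H51.LqfDescGen.repWith_of_epi_chart' Q hQ (pullback.snd b ξ) ((yon S).map c)
      (e ≫ r1) j sq1 (hQ' j hjsep hjlqf hjlft)
  obtain ⟨R', snd', fst', sq'⟩ := hrw.rep (𝟙 _)
  have hQs := hrw.property _ _ _ sq'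
  have sq2 := sq'.paste_horiz sqH
  rw [Category.id_comp] at sq2
  exact ⟨R', fst' ≫ pullback.fst b ξ, snd', sq2, hQs⟩

theorem main10098 (h10259 : H10259 S) (E F G H : Sp S)
    (a : E ⟶ F) (f : E ⟶ H) (g : F ⟶ G) (b : H ⟶ G) (sq : IsPullback a f g b)
    (hg : RepBySpWith (IsSurjectiveMor ⊓ LocP @Flat ⊓ LocP @LocallyOfFinitePresentation) g.hom)
    (ha : RepBySpWith (IsSeparatedMor ⊓ LocP (@LocallyQuasiFinite ⊓ @LocallyOfFiniteType)) a.hom) :
    RepWith @IsSeparated b ∧ RepWith (@LocallyQuasiFinite ⊓ @LocallyOfFiniteType) b := by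
  refine ⟨aux10098 h10259 @IsSeparated isSeparated_descendsAlong_fppf (fun _ _ j h _ _ => h) E F G H a f g b sq hg ha,
    aux10098 h10259 (@LocallyQuasiFinite ⊓ @LocallyOfFiniteType) goodProp_lqf.desc (fun _ _ j _ h1 h2 => ⟨h1, h2⟩)
      E F G H a f g b sq hg ha⟩



end Groth.Agent.H94.Boot1
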