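import Mathlib
import Groth.Prelude.Def_AlgSp4
import Groth.Prelude.Def_AlgSpRep
import Groth.Agent.H94.Boot1
import Groth.Agent.H51.EtSheafQuot
import Groth.Agent.H51.EtaleIff
set_option autoImplicit false
universe u
open CategoryTheory CategoryTheory.Limits AlgebraicGeometry Topology
open AlgSp
namespace Groth.Agent.H94.Boot2
open Groth.Agent.H50 Groth.Agent.H94.Boot1

variable {S : Scheme.{u}}

theorem main10109 (h10259 : H10259 S) (F : AlgSp.PSp S)
    (h1 : Presheaf.IsSheaf (QuotSh.J Scheme.etalePrecoverage S) F) (U : AlgSp.Space S) (p : U.obj.obj ⟶ F)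
    (h2 : AlgSp.RepBySpWith (AlgSp.IsSurjectiveMor ⊓ AlgSp.IsEtaleMor) p) :
    AlgSp.IsAlgSpaceP F := by
  have instE1 := AlgSp.repWith_isStableUnderBaseChange (S := S) @Etale
  have instE2 := AlgSp.repWith_isMultiplicative (S := S) @Etale
  obtain ⟨V, α, hαe, hαs⟩ := U.property.atlas
  have hasurj : Function.Surjective (Points.map α) := by
    intro x
    obtain ⟨u, hu⟩ := Groth.Agent.H52.surjective_ofPt_of_surjective α hαs x
    exact ⟨Points.ofScheme V u, by rw [← Points.ofPt_eq_map_ofScheme]; exact hu⟩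
  have hq : ∀ (T : Over S) (ξ : (pyon S).obj T ⟶ F), ∃ (Z : Over S) (snd : Z ⟶ T)
      (fst : (pyon S).obj Z ⟶ (pyon S).obj V),
      IsPullback fst ((pyon S).map snd) (α.hom ≫ p) ξ ∧ Etale snd.left ∧ Surjective snd.left := by
    intro T ξ
    have sqW := IsPullback.of_hasPullback p ξ
    obtain ⟨hsh, hWalg, hWsurj, hWet⟩ := h2 ξ _ _ sqW
    let W : Sp S := ⟨pullback p ξ, hsh⟩
    let wfst : W ⟶ U.obj := ObjectProperty.homMk (pullback.fst p ξ)
    let wsnd : W ⟶ (yon S).obj T := ObjectProperty.homMk (pullback.snd p ξ)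
    have sqW' := IsPullback.of_hasPullback α wfst
    have hW'alg : IsAlgSpace (pullback α wfst) :=
      Groth.Agent.H52.isAlgSpace_of_isPullback sqW' U.property.diag (IsAlgSpace.yon_obj V) hWalg
    have sqW'P : IsPullback (pullback.fst α wfst).hom (pullback.snd α wfst).hom α.hom
        (pullback.fst p ξ) := sqW'.map (sheafToPresheaf (J S) (Type (u + 1)))
    have sqbig : IsPullback (pullback.fst α wfst).hom
        ((pullback.snd α wfst).hom ≫ pullback.snd p ξ) (α.hom ≫ p) ξ := sqW'P.paste_vert sqW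
    have hsnd' : RepWith @Etale (pullback.snd α wfst) := MorphismProperty.of_isPullback sqW' hαe
    have hτ : IsEtaleMor (pullback.snd α wfst ≫ wsnd) := by
      intro A φ hφ
      rw [← Category.assoc]
      exact hWet _ ((RepWith @Etale).comp_mem _ _ hφ hsnd')
    have hτs : Function.Surjective (Points.map (pullback.snd α wfst ≫ wsnd)) := by
      intro y
      obtain ⟨w, hw⟩ := hWsurj y
      obtain ⟨w', hw'⟩ := Groth.Agent.H52.surjective_map_snd_of_isPullback sqW' hasurj w
      exact ⟨w', by rw [Points.map_comp, hw']; exact hw⟩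
    have hlqf : LocP (@LocallyQuasiFinite ⊓ @LocallyOfFiniteType) (pullback.snd α wfst ≫ wsnd) := by
      have hle := Groth.Agent.H51.locP_etale_of_isEtaleMor _ hτ
      exact fun _ _ a b h ha hb comm => goodProp_lqf.etale _ (hle a b h ha hb comm)
    have hrep : (pullback α wfst).obj.IsRepresentable := by
      refine isRepresentable_of_lqf_jointlyMono h10259 (pullback.fst α wfst)
        (pullback.snd α wfst ≫ wsnd) ?_ hW'alg hlqf
      intro Z x x' e1 e2
      apply ObjectProperty.hom_ext
      apply sqbig.hom_ext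
      · exact congrArg (fun f => f.hom) e1
      · exact congrArg (fun f => f.hom) e2
    obtain ⟨Z, ⟨r⟩⟩ := hrep.has_representation
    obtain ⟨e, he⟩ : ∃ e : (yon S).obj Z ⟶ pullback α wfst, IsIso e :=
      ⟨(isoOfRepresentableBy r).hom, inferInstance⟩
    haveI := he
    obtain ⟨snd, hsnd⟩ : ∃ snd : Z ⟶ T, (yon S).map snd = e ≫ pullback.snd α wfst ≫ wsnd :=
      ⟨(yon S).preimage _, (yon S).map_preimage _⟩
    have hsndP : (pyon S).map snd = e.hom ≫ (pullback.snd α wfst).hom ≫ pullback.snd p ξ :=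
      congrArg (fun f => f.hom) hsnd
    haveI : IsIso e.hom := ⟨(inv e).hom, congrArg (fun f => f.hom) (IsIso.hom_inv_id e),
      congrArg (fun f => f.hom) (IsIso.inv_hom_id e)⟩
    have sqiso : IsPullback e.hom (e.hom ≫ (pullback.snd α wfst).hom ≫ pullback.snd p ξ)
        ((pullback.snd α wfst).hom ≫ pullback.snd p ξ) (𝟙 _) :=
      IsPullback.of_horiz_isIso ⟨by rw [Category.comp_id]⟩
    have sq0' := sqiso.paste_horiz sqbig
    rw [← hsndP, Category.id_comp] at sq0'
    refine ⟨Z, snd, e.hom ≫ (pullback.fst α wfst).hom, sq0', ?_, ?_⟩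
    · rw [← isEtaleMor_yon_map_iff, hsnd]
      intro A φ hφ
      rw [← Category.assoc]
      exact hτ _ ((RepWith @Etale).comp_mem _ _ hφ (MorphismProperty.of_isIso (RepWith @Etale) e))
    · refine ⟨fun t => ?_⟩
      obtain ⟨w, hw⟩ := hτs (Points.ofScheme T t)
      have hes : Function.Surjective (Points.map e) := by
        intro y
        refine ⟨Points.map (inv e) y, ?_⟩
        rw [← Points.map_comp, IsIso.inv_hom_id, Points.map_id]
      obtain ⟨z, rfl⟩ := hes w
      obtain ⟨z', rfl⟩ := (Points.schemeEquiv Z).surjective z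
      refine ⟨z', ?_⟩
      apply Groth.Agent.H52.ofScheme_injective T
      rw [← Groth.Agent.H52.map_yon_map_ofScheme, hsnd, Points.map_comp]
      exact hw
  have he : (MorphismProperty.inverseImage @Etale (Over.forget S)).relative (pyon S) (α.hom ≫ p) := by
    refine MorphismProperty.relative.of_exists (fun T ξ => ?_)
    obtain ⟨Z, snd, fst, sq, h1, -⟩ := hq T ξ
    exact ⟨Z, fst, snd, sq, h1⟩
  have hs : (MorphismProperty.inverseImage @Surjective (Over.forget S)).relative (pyon S) (α.hom ≫ p) := by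
    refine MorphismProperty.relative.of_exists (fun T ξ => ?_)
    obtain ⟨Z, snd, fst, sq, -, h2⟩ := hq T ξ
    exact ⟨Z, fst, snd, sq, h2⟩
  exact Groth.Agent.H51.EtSheafQuot.isAlgSpaceP_of_etale_sheaf_chart F h1 V (α.hom ≫ p) he hs

end Groth.Agent.H94.Boot2
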