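import Mathlib
import Groth.Prelude.Def_AlgSp4
import Groth.Prelude.Def_AlgSpRep
import Groth.Agent.H94.Boot1
import Groth.Agent.H52.Sections
import Groth.Agent.H52.LocPOps
import Groth.Agent.H52.EtLocalInst
import Groth.Agent.H51.EtCoverIso
import Groth.Agent.H51.DiagOpen
import Groth.Agent.H50.Fibre
import Groth.Agent.H50.Etale
set_option autoImplicit false
universe u
open CategoryTheory CategoryTheory.Limits AlgebraicGeometry Topology
open AlgSp
namespace Groth.Agent.H94.Boot3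
open Groth.Agent.H50 Groth.Agent.H94.Boot1

variable {S : Scheme.{u}}

/-- sections of `F` lift to `X` after an fppf cover by a scheme. -/
theorem exists_fppf_lift (F : Sp S) (X : AlgSp.Space S) (p : X.obj ⟶ F)
    (hp : RepBySpWith (IsSurjectiveMor ⊓ LocP @Flat ⊓ LocP @LocallyOfFinitePresentation) p.hom)
    (T : Over S) (ξ : (yon S).obj T ⟶ F) :
    ∃ (T' : Over S) (c : T' ⟶ T) (x : (yon S).obj T' ⟶ X.obj), Flat c.left ∧
      LocallyOfFinitePresentation c.left ∧ Surjective c.left ∧ x ≫ p = (yon S).map c ≫ ξ := by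
  have hp' := (repBySpWith_hom_iff _ p).1 hp
  have instE2 := AlgSp.repWith_isMultiplicative (S := S) @Etale
  have sqF := IsPullback.of_hasPullback p ξ
  obtain ⟨hFTalg, ⟨hsurj, hflat⟩, hlfp⟩ := hp' ξ _ _ sqF
  obtain ⟨T'', α, hαe, hαs⟩ := hFTalg.atlas
  obtain ⟨c, hc⟩ : ∃ c : T'' ⟶ T, (yon S).map c = α ≫ pullback.snd p ξ :=
    ⟨(yon S).preimage _, (yon S).map_preimage _⟩
  have hcomm : α ≫ pullback.snd p ξ = (yon S).map c ≫ 𝟙 _ := by rw [Category.comp_id, hc]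
  have hid : RepWith @Etale (𝟙 ((yon S).obj T)) := (RepWith @Etale).id_mem _
  refine ⟨T'', c, α ≫ pullback.fst p ξ, hflat α (𝟙 _) c hαe hid hcomm,
    hlfp α (𝟙 _) c hαe hid hcomm, ?_, ?_⟩
  · refine ⟨fun t => ?_⟩
    obtain ⟨w, hw⟩ := hsurj (Points.ofScheme T t)
    obtain ⟨u, hu⟩ := Groth.Agent.H52.surjective_ofPt_of_surjective α hαs w
    refine ⟨u, ?_⟩
    apply Groth.Agent.H52.ofScheme_injective T
    rw [← Groth.Agent.H52.map_yon_map_ofScheme, hc, Points.map_comp, ← Points.ofPt_eq_map_ofScheme,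
      hu, hw]
  · rw [Category.assoc, sqF.w, ← Category.assoc, hc]

/-- a monomorphism locally of finite type to an algebraic space is locally quasi-finite. -/
theorem locP_lqf_of_mono {E G : Sp S} (hG : IsAlgSpace G) (f : E ⟶ G) [Mono f]
    (hf : LocP @LocallyOfFiniteType f) : LocP (@LocallyQuasiFinite ⊓ @LocallyOfFiniteType) f := by
  have instO := AlgSp.repWith_isMultiplicative (S := S) @IsOpenImmersion
  have hΔ : RepWith @IsOpenImmersion (pullback.diagonal f) :=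
    MorphismProperty.of_isIso (RepWith @IsOpenImmersion) (pullback.diagonal f)
  intro U V a b h ha hb comm
  haveI h1 : LocallyOfFiniteType h.left := hf a b h ha hb comm
  haveI h2 : FormallyUnramified h.left :=
    Groth.Agent.H51.formallyUnramified_of_diagonal_openImmersion hG f hΔ a b h ha hb comm
  exact ⟨locallyQuasiFinite_of_unramified h.left, h1⟩


theorem main10099 (h10259 : H10259 S) (F : Sp S) (X : AlgSp.Space S) (p : X.obj ⟶ F)
    (hp : RepBySpWith (IsSurjectiveMor ⊓ LocP @Flat ⊓ LocP @LocallyOfFinitePresentation) p.hom) :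
    Representable (Limits.diag F) := by
  have hp' := (repBySpWith_hom_iff _ p).1 hp
  have instE1 := AlgSp.repWith_isStableUnderBaseChange (S := S) @Etale
  have instE2 := AlgSp.repWith_isMultiplicative (S := S) @Etale
  have instC1 := AlgSp.repWith_isStableUnderBaseChange (S := S) @IsClosedImmersion
  have instC2 := AlgSp.repWith_isMultiplicative (S := S) @IsClosedImmersion
  have instL1 := AlgSp.repWith_isStableUnderBaseChange (S := S) @LocallyOfFiniteType
  intro T ζ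
  -- the two sections
  obtain ⟨ξ₁, hξ₁⟩ : ∃ ξ₁ : (yon S).obj T ⟶ F, ξ₁ = ζ ≫ prod.fst := ⟨_, rfl⟩
  obtain ⟨ξ₂, hξ₂⟩ : ∃ ξ₂ : (yon S).obj T ⟶ F, ξ₂ = ζ ≫ prod.snd := ⟨_, rfl⟩
  -- lift both after an fppf cover
  obtain ⟨T₁, c₁, y₁, hc₁f, hc₁p, hc₁s, hy₁⟩ := exists_fppf_lift F X p hp T ξ₁
  obtain ⟨T', c₂, x₂, hc₂f, hc₂p, hc₂s, hx₂'⟩ := exists_fppf_lift F X p hp T₁ ((yon S).map c₁ ≫ ξ₂)
  obtain ⟨c, hc⟩ : ∃ c : T' ⟶ T, c = c₂ ≫ c₁ := ⟨_, rfl⟩
  obtain ⟨x₁, hx₁d⟩ : ∃ x₁ : (yon S).obj T' ⟶ X.obj, x₁ = (yon S).map c₂ ≫ y₁ := ⟨_, rfl⟩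
  have hx₁ : x₁ ≫ p = (yon S).map c ≫ ξ₁ := by
    rw [hx₁d, Category.assoc, hy₁, hc, Functor.map_comp, Category.assoc]
  have hx₂ : x₂ ≫ p = (yon S).map c ≫ ξ₂ := by
    rw [hx₂', hc, Functor.map_comp, Category.assoc]
  haveI hcflat : Flat c.left := by
    have : c.left = c₂.left ≫ c₁.left := by rw [hc]; rfl
    rw [this]; infer_instance
  haveI hclfp : LocallyOfFinitePresentation c.left := by
    have : c.left = c₂.left ≫ c₁.left := by rw [hc]; rfl
    rw [this]; infer_instance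
  haveI hcsurj : Surjective c.left := by
    have : c.left = c₂.left ≫ c₁.left := by rw [hc]; rfl
    rw [this]; infer_instance
  haveI hepi : Epi ((yon S).map c) := Groth.Agent.H52.epi_yon_map_of_fppf c
  -- the equaliser `E` of `ξ₁, ξ₂`
  have sqE := IsPullback.of_hasPullback (Limits.diag F) ζ
  obtain ⟨E, e₁, π, hE⟩ : ∃ (E : Sp S) (e₁ : E ⟶ F) (π : E ⟶ (yon S).obj T),
      IsPullback e₁ π (Limits.diag F) ζ := ⟨_, _, _, sqE⟩
  have hd1 : Limits.diag F ≫ prod.fst = 𝟙 F := prod.lift_fst _ _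
  have hd2 : Limits.diag F ≫ prod.snd = 𝟙 F := prod.lift_snd _ _
  have hπ₁ : e₁ = π ≫ ξ₁ := by
    have h := congr($(hE.w) ≫ prod.fst)
    rw [Category.assoc, hd1, Category.comp_id, Category.assoc] at h
    rw [hξ₁]; exact h
  have hπ₂ : e₁ = π ≫ ξ₂ := by
    have h := congr($(hE.w) ≫ prod.snd)
    rw [Category.assoc, hd2, Category.comp_id, Category.assoc] at h
    rw [hξ₂]; exact h
  haveI hπmono : Mono π := ⟨fun z z' h => hE.hom_ext
    (by rw [hπ₁, ← Category.assoc, h, Category.assoc]) h⟩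
  -- `X₁ = X ×_F T'` along `x₁ ≫ p`
  have sqX₁ := IsPullback.of_hasPullback p (x₁ ≫ p)
  obtain ⟨X₁, pX, qX, hX₁⟩ : ∃ (X₁ : Sp S) (pX : X₁ ⟶ X.obj) (qX : X₁ ⟶ (yon S).obj T'),
      IsPullback pX qX p (x₁ ≫ p) := ⟨_, _, _, sqX₁⟩
  obtain ⟨hX₁alg, ⟨-, -⟩, hqXlfp⟩ := hp' (x₁ ≫ p) _ _ hX₁
  -- `E' = Eq(pX, qX ≫ x₂)`
  have hdX1 : Limits.diag X.obj ≫ prod.fst = 𝟙 _ := prod.lift_fst _ _
  have hdX2 : Limits.diag X.obj ≫ prod.snd = 𝟙 _ := prod.lift_snd _ _
  obtain ⟨D, hD1, hD2⟩ : ∃ D : X₁ ⟶ X.obj ⨯ X.obj, D ≫ prod.fst = pX ∧ D ≫ prod.snd = qX ≫ x₂ :=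
    ⟨prod.lift pX (qX ≫ x₂), prod.lift_fst _ _, prod.lift_snd _ _⟩
  have sqE' := IsPullback.of_hasPullback (Limits.diag X.obj) D
  obtain ⟨E', k, i, hE'⟩ : ∃ (E' : Sp S) (k : E' ⟶ X.obj) (i : E' ⟶ X₁),
      IsPullback k i (Limits.diag X.obj) D := ⟨_, _, _, sqE'⟩
  have hk1 : k = i ≫ pX := by
    have h := congr($(hE'.w) ≫ prod.fst)
    rw [Category.assoc, hdX1, Category.comp_id, Category.assoc, hD1] at h
    exact h
  have hk2 : k = i ≫ qX ≫ x₂ := by
    have h := congr($(hE'.w) ≫ prod.snd)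
    rw [Category.assoc, hdX2, Category.comp_id, Category.assoc, hD2] at h
    exact h
  obtain ⟨hdlft, -, -, -⟩ := Groth.Agent.H52.diag_props X.property
  have hilft : RepWith @LocallyOfFiniteType i := MorphismProperty.of_isPullback hE' hdlft
  have hE'alg : IsAlgSpace E' := isAlgSpace_of_representable hilft.rep hX₁alg
  obtain ⟨π', hπ'⟩ : ∃ π' : E' ⟶ (yon S).obj T', π' = i ≫ qX := ⟨_, rfl⟩
  have hπ'lft : LocP @LocallyOfFiniteType π' := by
    rw [hπ']
    refine Groth.Agent.H52.locP_comp Groth.Agent.H52.etLocal_lft hX₁alg i qX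
      (locP_of_repWith (fun _ _ g hg => by have := hg; infer_instance) hilft)
      (Groth.Agent.H51.locP_mono (fun _ _ g hg => by have := hg; infer_instance) hqXlfp)
  have hEq : π' ≫ x₁ ≫ p = π' ≫ x₂ ≫ p := by
    rw [hπ', Category.assoc, ← hX₁.w, ← Category.assoc, ← hk1, hk2, Category.assoc, Category.assoc,
      Category.assoc]
  haveI hπ'mono : Mono π' := by
    refine ⟨fun z z' h => ?_⟩
    have h' : z ≫ i ≫ qX = z' ≫ i ≫ qX := by rw [hπ'] at h; simpa using h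
    have hi : z ≫ i = z' ≫ i := by
      apply hX₁.hom_ext
      · rw [Category.assoc, Category.assoc, ← hk1, hk2, ← Category.assoc, ← Category.assoc,
          ← Category.assoc, ← Category.assoc]
        rw [Category.assoc z, Category.assoc z', h']
      · rw [Category.assoc, Category.assoc, h']
    apply hE'.hom_ext
    · rw [hk1, ← Category.assoc, hi, Category.assoc]
    · exact hi
  have hπ'lqf := locP_lqf_of_mono (IsAlgSpace.yon_obj T') π' hπ'lft
  have hπ'sep : IsSeparatedMor π' :=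
    MorphismProperty.of_isIso (RepWith @IsClosedImmersion) (pullback.diagonal π')
  have hrep : E'.obj.IsRepresentable :=
    h10259 T' ⟨E', hE'alg⟩ (ObjectProperty.homMk π') hπ'lqf hπ'sep
  obtain ⟨R, ⟨r⟩⟩ := hrep.has_representation
  obtain ⟨e, he⟩ : ∃ e : (yon S).obj R ⟶ E', IsIso e :=
    ⟨(isoOfRepresentableBy r).hom, inferInstance⟩
  haveI := he
  obtain ⟨j, hj⟩ : ∃ j : R ⟶ T', (yon S).map j = e ≫ π' :=
    ⟨(yon S).preimage _, (yon S).map_preimage _⟩
  have sqiso : IsPullback e (e ≫ π') π' (𝟙 _) := IsPullback.of_horiz_isIso ⟨by rw [Category.comp_id]⟩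
  have hjsep : IsSeparated j.left := by
    rw [← isSeparatedMor_yon_map_iff, hj]
    exact MorphismProperty.of_isPullback (P := (RepWith (S := S) @IsClosedImmersion).diagonal) sqiso hπ'sep
  have hjq := hπ'lqf e (𝟙 _) j (MorphismProperty.of_isIso (RepWith @Etale) e)
    ((RepWith @Etale).id_mem _) (by rw [Category.comp_id, hj])
  haveI hjlqf : LocallyQuasiFinite j.left := hjq.1
  haveI hjlft : LocallyOfFiniteType j.left := hjq.2
  -- the comparison `E' ⟶ E`
  have hcomm₁ : (π' ≫ (yon S).map c ≫ ξ₁) ≫ Limits.diag F = (π' ≫ (yon S).map c) ≫ ζ := by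
    apply Limits.prod.hom_ext
    · rw [Category.assoc, hd1, Category.comp_id, Category.assoc, Category.assoc, hξ₁]
    · rw [Category.assoc, hd2, Category.comp_id, Category.assoc, Category.assoc,
        ← hξ₂, ← hx₁, ← hx₂, hEq]
  obtain ⟨g₁, hg₁a, hg₁b⟩ : ∃ g₁ : E' ⟶ E, g₁ ≫ e₁ = π' ≫ (yon S).map c ≫ ξ₁ ∧
      g₁ ≫ π = π' ≫ (yon S).map c :=
    ⟨hE.lift _ _ hcomm₁, hE.lift_fst _ _ _, hE.lift_snd _ _ _⟩
  have sqg : IsPullback g₁ π' π ((yon S).map c) := by
    refine ⟨⟨hg₁b⟩, ⟨PullbackCone.IsLimit.mk _ (fun s => ?_) (fun s => ?_) (fun s => ?_)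
      (fun s m h1 h2 => ?_)⟩⟩
    · -- the lift
      have hw : (s.snd ≫ x₂) ≫ p = s.snd ≫ x₁ ≫ p := by
        have h1 : s.snd ≫ (yon S).map c ≫ ξ₂ = s.snd ≫ (yon S).map c ≫ ξ₁ := by
          rw [← Category.assoc, ← s.condition, Category.assoc, ← hπ₂, hπ₁, ← Category.assoc,
            s.condition, Category.assoc]
        rw [Category.assoc, hx₂, hx₁, h1]
      refine hE'.lift (s.snd ≫ x₂) (hX₁.lift (s.snd ≫ x₂) s.snd hw) ?_
      apply Limits.prod.hom_ext
      · rw [Category.assoc, hdX1, Category.comp_id, Category.assoc, hD1, hX₁.lift_fst]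
      · rw [Category.assoc, hdX2, Category.comp_id, Category.assoc, hD2, ← Category.assoc,
          hX₁.lift_snd]
    · rw [← cancel_mono π, Category.assoc, hg₁b, hπ', ← Category.assoc, ← Category.assoc,
        hE'.lift_snd, hX₁.lift_snd, s.condition]
    · rw [hπ', ← Category.assoc, hE'.lift_snd, hX₁.lift_snd]
    · rw [← cancel_mono π', h2, hπ', ← Category.assoc, hE'.lift_snd, hX₁.lift_snd]
  have sq1 := sqiso.paste_horiz sqg
  rw [← hj, Category.id_comp] at sq1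
  have hrw : RepWith @IsSeparated π :=
    Groth.Agent.H51.LqfDescGen.repWith_of_epi_chart' @IsSeparated isSeparated_descendsAlong_fppf π
      ((yon S).map c) (e ≫ g₁) j sq1 hjsep
  obtain ⟨R', snd', fst', sq'⟩ := hrw.rep (𝟙 _)
  have sq2 := sq'.paste_horiz hE
  rw [Category.id_comp] at sq2
  exact ⟨R', snd', fst' ≫ e₁, sq2⟩

end Groth.Agent.H94.Boot3
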