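import Groth.Prelude.Def_W4c1hurwitzcptBd
import Mathlib.RingTheory.PowerSeries.Expand
import Mathlib.RingTheory.PowerSeries.Order
import Mathlib.Tactic

/-!
Helper lemmas on orders of power series of the shape `expand p r * (X^m * g)`, used for the
crimp computations (rows S19485, S19486).
-/

namespace Groth.Agent.H94.Crimp

open W4c1hurwitzcpt

variable {k : Type*} [Field k]

theorem val_smul {p : ℕ} [NeZero p] (r : PowerSeries k) (z : RootDisk p k) :
    RootDisk.val (r • z) = PowerSeries.expand p (NeZero.ne p) r * RootDisk.val z := rfl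

theorem order_add_ne_of_lt (A B : PowerSeries k) (N : ℕ) (hA : A.order ≠ N)
    (hB : (N : ℕ∞) < B.order) : (A + B).order ≠ N := by
  rcases lt_or_gt_of_ne hA with h | h
  · have hlt : A.order < B.order := lt_trans h hB
    rw [PowerSeries.order_add_of_order_ne _ _ (ne_of_lt hlt), min_eq_left (le_of_lt hlt)]
    exact hA
  · have h1 : (N : ℕ∞) < (A + B).order :=
      lt_of_lt_of_le (lt_min h hB) (PowerSeries.min_order_le_order_add _ _)
    exact ne_of_gt h1

theorem order_add_ne (A₁ A₂ : PowerSeries k) (N : ℕ) (h₁ : A₁.order ≠ N) (h₂ : A₂.order ≠ N)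
    (h : A₁.order ≠ A₂.order ∨ A₁ = 0) : (A₁ + A₂).order ≠ N := by
  rcases h with h | h
  · rw [PowerSeries.order_add_of_order_ne _ _ h]
    rcases le_total A₁.order A₂.order with hle | hle
    · rw [min_eq_left hle]; exact h₁
    · rw [min_eq_right hle]; exact h₂
  · rw [h, zero_add]; exact h₂

theorem order_expand_mul (p : ℕ) (hp : p ≠ 0) (r g : PowerSeries k) (m : ℕ) (hg : g.order = 0) :
    (PowerSeries.expand p hp r * (PowerSeries.X ^ m * g)) = 0 ∨
    ∃ d : ℕ, (PowerSeries.expand p hp r * (PowerSeries.X ^ m * g)).order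
      = ((p * d + m : ℕ) : ℕ∞) := by
  by_cases hr : r = 0
  · left; rw [hr, map_zero, zero_mul]
  · right
    have hfin : r.order < ⊤ := PowerSeries.order_finite_iff_ne_zero.mpr hr
    obtain ⟨d, hd⟩ : ∃ d : ℕ, r.order = d := ⟨r.order.toNat, (ENat.natCast_toNat hfin.ne).symm⟩
    refine ⟨d, ?_⟩
    rw [PowerSeries.order_mul, PowerSeries.order_mul, PowerSeries.order_expand,
      PowerSeries.order_X_pow, hg, add_zero, hd]
    push_cast
    rw [nsmul_eq_mul]

theorem order_expand_alone (p : ℕ) (hp : p ≠ 0) (r : PowerSeries k) :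
    PowerSeries.expand p hp r = 0 ∨
    ∃ d : ℕ, (PowerSeries.expand p hp r).order = ((p * d : ℕ) : ℕ∞) := by
  by_cases hr : r = 0
  · left; rw [hr, map_zero]
  · right
    have hfin : r.order < ⊤ := PowerSeries.order_finite_iff_ne_zero.mpr hr
    obtain ⟨d, hd⟩ : ∃ d : ℕ, r.order = d := ⟨r.order.toNat, (ENat.natCast_toNat hfin.ne).symm⟩
    refine ⟨d, ?_⟩
    rw [PowerSeries.order_expand, hd, nsmul_eq_mul]
    push_cast
    rfl

theorem order_sq (g : PowerSeries k) (m : ℕ) (hg : g.order = 0) :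
    (PowerSeries.X ^ m * g * (PowerSeries.X ^ m * g)).order = ((2 * m : ℕ) : ℕ∞) := by
  rw [PowerSeries.order_mul, PowerSeries.order_mul, PowerSeries.order_X_pow, hg, add_zero]
  push_cast
  ring

theorem lt_order_mul_X_pow (c : PowerSeries k) (N n : ℕ) (h : N < n) :
    (N : ℕ∞) < (c * PowerSeries.X ^ n).order := by
  rw [PowerSeries.order_mul, PowerSeries.order_X_pow]
  exact lt_of_lt_of_le (Nat.cast_lt.mpr h) le_add_self

theorem not_sq_two (m n : ℕ) (hm : Odd m) (hmn : 2 * m < n) (hp : 2 ≠ 0)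
    (g r₂ c : PowerSeries k) (hg : g.order = 0) :
    PowerSeries.expand 2 hp r₂ * (PowerSeries.X ^ m * g) + c * PowerSeries.X ^ n ≠
      PowerSeries.X ^ m * g * (PowerSeries.X ^ m * g) := by
  intro h
  have hC := order_sq g m hg
  have hB := lt_order_mul_X_pow c (2 * m) n hmn
  have hA : (PowerSeries.expand 2 hp r₂ * (PowerSeries.X ^ m * g)).order ≠ ((2 * m : ℕ) : ℕ∞) := by
    rcases order_expand_mul 2 hp r₂ g m hg with h0 | ⟨d, hd⟩
    · rw [h0, PowerSeries.order_zero]; exact ENat.top_ne_natCast _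
    · rw [hd]
      intro heq
      have := Nat.cast_injective heq
      obtain ⟨q, rfl⟩ := hm
      omega
  exact order_add_ne_of_lt _ _ _ hA hB (h ▸ hC)

theorem not_sq_three (m n : ℕ) (hm : ¬ 3 ∣ m) (hmn : 2 * m < n) (hp : 3 ≠ 0)
    (g r₁ r₂ c : PowerSeries k) (hg : g.order = 0) :
    PowerSeries.expand 3 hp r₁ + PowerSeries.expand 3 hp r₂ * (PowerSeries.X ^ m * g)
        + c * PowerSeries.X ^ n ≠
      PowerSeries.X ^ m * g * (PowerSeries.X ^ m * g) := by
  intro h
  have hC := order_sq g m hg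
  have hB := lt_order_mul_X_pow c (2 * m) n hmn
  have hA₂ : (PowerSeries.expand 3 hp r₂ * (PowerSeries.X ^ m * g)).order
      ≠ ((2 * m : ℕ) : ℕ∞) := by
    rcases order_expand_mul 3 hp r₂ g m hg with h0 | ⟨d, hd⟩
    · rw [h0, PowerSeries.order_zero]; exact ENat.top_ne_natCast _
    · rw [hd]
      intro heq
      have := Nat.cast_injective heq
      omega
  have hA₁ : (PowerSeries.expand 3 hp r₁).order ≠ ((2 * m : ℕ) : ℕ∞) := by
    rcases order_expand_alone 3 hp r₁ with h0 | ⟨d, hd⟩
    · rw [h0, PowerSeries.order_zero]; exact ENat.top_ne_natCast _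
    · rw [hd]
      intro heq
      have := Nat.cast_injective heq
      omega
  have hne : (PowerSeries.expand 3 hp r₁).order ≠
      (PowerSeries.expand 3 hp r₂ * (PowerSeries.X ^ m * g)).order ∨
      PowerSeries.expand 3 hp r₁ = 0 := by
    rcases order_expand_alone 3 hp r₁ with h0 | ⟨d, hd⟩
    · right; exact h0
    · left
      rcases order_expand_mul 3 hp r₂ g m hg with h0 | ⟨d', hd'⟩
      · rw [h0, PowerSeries.order_zero, hd]; exact ENat.natCast_ne_top _
      · rw [hd, hd']
        intro heq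
        have := Nat.cast_injective heq
        omega
  have hA := order_add_ne _ _ _ hA₁ hA₂ hne
  exact order_add_ne_of_lt _ _ _ hA hB (h ▸ hC)

end Groth.Agent.H94.Crimp
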