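import Mathlib
import Groth.Prelude.Def_AlgSpGpd
import Groth.Prelude.Def_AlgSpCov
import Groth.Agent.H51.LargestOpenInst
import Groth.Agent.H51.OpenIso
import Groth.Agent.H94.AlgSpLimit7
set_option autoImplicit false
universe u
open CategoryTheory CategoryTheory.Limits AlgebraicGeometry Topology
open AlgSp AlgSp.GroupoidSp Groth.Agent.H50 Groth.Agent.H51

namespace Groth.Agent.H94.GpdInv

variable {S : Scheme.{u}} {B : Sp S} (G : GroupoidSp B)

/-- composition of two arrows of the groupoid. -/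
noncomputable def cmp {T : Sp S} (α β : T ⟶ G.R) (h : α ≫ G.s = β ≫ G.t) : T ⟶ G.R :=
  pullback.lift α β h ≫ G.c

lemma precomp_cmp {T T' : Sp S} (l : T' ⟶ T) (α β : T ⟶ G.R) (h : α ≫ G.s = β ≫ G.t) :
    l ≫ cmp G α β h = cmp G (l ≫ α) (l ≫ β) (by rw [Category.assoc, Category.assoc, h]) := by
  unfold cmp
  rw [← Category.assoc]
  congr 1
  apply pullback.hom_ext
  · rw [Category.assoc, pullback.lift_fst, pullback.lift_fst]
  · rw [Category.assoc, pullback.lift_snd, pullback.lift_snd]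

lemma cmp_congr {T : Sp S} {α α' β β' : T ⟶ G.R} (hα : α = α') (hβ : β = β')
    (h : α ≫ G.s = β ≫ G.t) (h' : α' ≫ G.s = β' ≫ G.t) : cmp G α β h = cmp G α' β' h' := by
  subst hα; subst hβ; rfl

lemma cmp_s {T : Sp S} (α β : T ⟶ G.R) (h : α ≫ G.s = β ≫ G.t) : cmp G α β h ≫ G.s = β ≫ G.s :=
  G.comp_s α β h

lemma cmp_t {T : Sp S} (α β : T ⟶ G.R) (h : α ≫ G.s = β ≫ G.t) : cmp G α β h ≫ G.t = α ≫ G.t :=
  G.comp_t α β h

lemma cmp_assoc {T : Sp S} (α β γ : T ⟶ G.R) (h₁ : α ≫ G.s = β ≫ G.t) (h₂ : β ≫ G.s = γ ≫ G.t)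
    (h : cmp G α β h₁ ≫ G.s = γ ≫ G.t) (h' : α ≫ G.s = cmp G β γ h₂ ≫ G.t) :
    cmp G (cmp G α β h₁) γ h = cmp G α (cmp G β γ h₂) h' :=
  G.assoc α β γ h₁ h₂

lemma cmp_e {T : Sp S} (α β : T ⟶ G.R) (hβ : β = α ≫ G.s ≫ G.e) (h : α ≫ G.s = β ≫ G.t) :
    cmp G α β h = α := by
  subst hβ
  exact G.comp_e α

lemma e_cmp {T : Sp S} (α β : T ⟶ G.R) (hβ : β = α ≫ G.t ≫ G.e) (h : β ≫ G.s = α ≫ G.t) :
    cmp G β α h = α := by
  subst hβ
  exact G.e_comp α

lemma cmp_i {T : Sp S} (α : T ⟶ G.R) (h : α ≫ G.s = (α ≫ G.i) ≫ G.t) :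
    cmp G α (α ≫ G.i) h = α ≫ G.t ≫ G.e := G.comp_i α

lemma i_cmp {T : Sp S} (α : T ⟶ G.R) (h : (α ≫ G.i) ≫ G.s = α ≫ G.t) :
    cmp G (α ≫ G.i) α h = α ≫ G.s ≫ G.e := G.i_comp α

/-- `(f, g) ↦ (f ∘ g, g)` identifies `R ×_{s,t} A` with `R ×_{s,s} A`. -/
theorem isPullback_cmp_snd {A : Sp S} (γ : A ⟶ G.R) :
    IsPullback (cmp G (pullback.fst G.s (γ ≫ G.t)) (pullback.snd G.s (γ ≫ G.t) ≫ γ)
        (by rw [Category.assoc]; exact pullback.condition))
      (pullback.snd G.s (γ ≫ G.t)) G.s (γ ≫ G.s) := by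
  refine ⟨⟨by rw [cmp_s, Category.assoc]⟩, ⟨PullbackCone.IsLimit.mk _ (fun c => ?_) (fun c => ?_)
    (fun c => ?_) (fun c m h1 h2 => ?_)⟩⟩
  · -- lift
    have hc : c.fst ≫ G.s = c.snd ≫ γ ≫ G.s := c.condition
    have h1 : c.fst ≫ G.s = ((c.snd ≫ γ) ≫ G.i) ≫ G.t := by
      rw [Category.assoc, G.i_t, Category.assoc]; exact hc
    refine pullback.lift (cmp G c.fst ((c.snd ≫ γ) ≫ G.i) h1) c.snd ?_
    rw [cmp_s, Category.assoc, G.i_s, Category.assoc]
  · -- fac_left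
    have hc : c.fst ≫ G.s = c.snd ≫ γ ≫ G.s := c.condition
    have h1 : c.fst ≫ G.s = ((c.snd ≫ γ) ≫ G.i) ≫ G.t := by
      rw [Category.assoc, G.i_t, Category.assoc]; exact hc
    have h2 : ((c.snd ≫ γ) ≫ G.i) ≫ G.s = (c.snd ≫ γ) ≫ G.t := by rw [Category.assoc, G.i_s]
    rw [precomp_cmp]
    have e : ∀ (α β : c.pt ⟶ G.R) (hα : α = cmp G c.fst ((c.snd ≫ γ) ≫ G.i) h1) (hβ : β = c.snd ≫ γ)
        (h : α ≫ G.s = β ≫ G.t), cmp G α β h = c.fst := by
      intro α β hα hβ h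
      subst hα; subst hβ
      rw [cmp_assoc G _ _ _ h1 h2 _ (by rw [cmp_t]; exact h1)]
      refine cmp_e G _ _ ?_ _
      rw [i_cmp]
      simp only [Category.assoc]
      exact (by rw [← Category.assoc, hc]; simp only [Category.assoc] :
        c.fst ≫ G.s ≫ G.e = c.snd ≫ γ ≫ G.s ≫ G.e).symm
    exact e _ _ (pullback.lift_fst _ _ _) (by rw [← Category.assoc, pullback.lift_snd]) _
  · -- fac_right
    exact pullback.lift_snd _ _ _
  · -- uniq
    have hc : c.fst ≫ G.s = c.snd ≫ γ ≫ G.s := c.condition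
    have h1' : c.fst ≫ G.s = ((c.snd ≫ γ) ≫ G.i) ≫ G.t := by
      rw [Category.assoc, G.i_t, Category.assoc]; exact hc
    apply pullback.hom_ext
    · rw [pullback.lift_fst]
      -- ψ := m ≫ fst
      have hψ : (m ≫ pullback.fst G.s (γ ≫ G.t)) ≫ G.s = (c.snd ≫ γ) ≫ G.t := by
        rw [Category.assoc, pullback.condition, ← Category.assoc, h2, Category.assoc]
      have ha : cmp G (m ≫ pullback.fst G.s (γ ≫ G.t)) (c.snd ≫ γ) hψ = c.fst := by
        rw [← h1, precomp_cmp]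
        exact cmp_congr G rfl (by rw [← Category.assoc, h2]) _ _
      have h3 : (c.snd ≫ γ) ≫ G.s = ((c.snd ≫ γ) ≫ G.i) ≫ G.t := by simp only [Category.assoc, G.i_t]
      have e1 : cmp G c.fst ((c.snd ≫ γ) ≫ G.i) h1' =
          cmp G (cmp G (m ≫ pullback.fst G.s (γ ≫ G.t)) (c.snd ≫ γ) hψ) ((c.snd ≫ γ) ≫ G.i)
            (by rw [cmp_s]; exact h3) :=
        cmp_congr G ha.symm rfl _ _
      rw [e1, cmp_assoc G _ _ _ hψ h3 _ (by rw [cmp_t]; exact hψ)]
      refine (cmp_e G _ _ ?_ _).symm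
      rw [cmp_i]
      simp only [← Category.assoc]
      rw [hψ]
    · rw [pullback.lift_snd]; exact h2


/-- The key statement: invariance of the largest open over which `f` has `P`, given the two pullback squares. -/
theorem key {Q : MorphismProperty (Sp S)} (hQ : CoverClass Q) {P : MorphismProperty (Sp S)}
    (hP : IsLocalOnBase (coverOf Q) P) (hU : IsAlgSpace G.U) (hR : IsAlgSpace G.R)
    (hs : Q G.s) (ht : Q G.t) {X : Sp S} (hX : IsAlgSpace X) (f : X ⟶ G.U)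
    (hpb : ∀ {A : Sp S} (γ : A ⟶ G.R), IsAlgSpace A → ∃ (Z : Sp S) (p : Z ⟶ A) (m₁ m₂ : Z ⟶ X),
      IsAlgSpace Z ∧ IsPullback m₁ p f (γ ≫ G.t) ∧ IsPullback m₂ p f (γ ≫ G.s))
    {W : Sp S} (hWsp : IsAlgSpace W) (w : W ⟶ G.U) (hw : RepWith @IsOpenImmersion w)
    (hmax : ∀ (W' : Sp S) (w' : W' ⟶ G.U), IsAlgSpace W' → RepWith @IsOpenImmersion w' →
      (P (pullback.snd f w') ↔ ∃ k : W' ⟶ W, k ≫ w = w')) :
    G.IsInvariant w := by
  have hWopen : IsOpen (Set.range (Points.map w)) :=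
    isOpen_range_of_repWith_isOpenImmersion hWsp hU w hw
  -- Step 0
  have h0 : P (pullback.snd f (openSubι G.U (Set.range (Points.map w)))) := by
    refine (hmax _ _ (isAlgSpace_openSub hWopen hU) (repWith_isOpenImmersion_openSubι hWopen)).2 ?_
    obtain ⟨g, hg⟩ := (Groth.Agent.S10194.result (X := ⟨G.U, hU⟩) (X' := ⟨W, hWsp⟩)
      (Y := ⟨openSub G.U (Set.range (Points.map w)), isAlgSpace_openSub hWopen hU⟩)
      (ObjectProperty.homMk w) hw (ObjectProperty.homMk (openSubι G.U _))).2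
      (by
        show Set.range (Points.map (openSubι G.U (Set.range (Points.map w)))) ⊆ Set.range (Points.map w)
        rw [range_map_openSubι])
    exact ⟨g.hom, congrArg (fun k => k.hom) hg⟩
  -- Step 1
  have sqW := IsPullback.of_hasPullback G.t w
  have hRW : IsAlgSpace (pullback G.t w) :=
    Groth.Agent.H52.isAlgSpace_of_isPullback sqW hU.diag hR hWsp
  have hι : RepWith @IsOpenImmersion (pullback.fst G.t w) := repWith_fst_of_isPullback sqW hw
  have hQι : Q (pullback.fst G.t w) := hQ.of_open _ hRW hR hι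
  have hQ1 : Q (pullback.fst G.t w ≫ G.t) := hQ.comp _ _ hRW hR hU hQι ht
  have hQ2 : Q (pullback.fst G.t w ≫ G.s) := hQ.comp _ _ hRW hR hU hQι hs
  have hsub1 : Set.range (Points.map (pullback.fst G.t w ≫ G.t)) ⊆ Set.range (Points.map w) := by
    rintro _ ⟨x, rfl⟩
    rw [pullback.condition, Points.map_comp]
    exact ⟨_, rfl⟩
  -- Step 2
  obtain ⟨Z, p, m₁, m₂, hZ, sq₁, sq₂⟩ := hpb (pullback.fst G.t w) hRW
  have hPp : P p :=
    (P_baseChange_of_P_restrict hQ hP hX hU hRW hZ f hWopen _ m₁ p sq₁ hQ1 hsub1).1 h0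
  have hV₂ : IsOpen (Set.range (Points.map (pullback.fst G.t w ≫ G.s))) :=
    hQ.isOpen_range _ hRW hU hQ2
  have hP2 : P (pullback.snd f (openSubι G.U (Set.range (Points.map (pullback.fst G.t w ≫ G.s))))) :=
    (P_baseChange_of_P_restrict hQ hP hX hU hRW hZ f hV₂ _ m₂ p sq₂ hQ2 subset_rfl).2 rfl hPp
  obtain ⟨k, hk⟩ := (hmax _ _ (isAlgSpace_openSub hV₂ hU) (repWith_isOpenImmersion_openSubι hV₂)).1 hP2
  have hV₂sub : Set.range (Points.map (pullback.fst G.t w ≫ G.s)) ⊆ Set.range (Points.map w) := by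
    intro v hv
    rw [← range_map_openSubι G.U (Set.range (Points.map (pullback.fst G.t w ≫ G.s)))] at hv
    obtain ⟨z, rfl⟩ := hv
    rw [← hk, Points.map_comp]
    exact ⟨_, rfl⟩
  -- Step 3
  have claimA : ∀ ρ : Points G.R, Points.map G.t ρ ∈ Set.range (Points.map w) →
      Points.map G.s ρ ∈ Set.range (Points.map w) := by
    rintro ρ ⟨ω, hω⟩
    obtain ⟨x, hx1, -⟩ := exists_point_of_isPullback sqW ρ ω hω.symm
    apply hV₂sub
    refine ⟨x, ?_⟩
    rw [Points.map_comp, hx1]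
  have claimB : ∀ ρ : Points G.R, Points.map G.s ρ ∈ Set.range (Points.map w) →
      Points.map G.t ρ ∈ Set.range (Points.map w) := by
    intro ρ hρ
    have h := claimA (Points.map G.i ρ) (by rw [← Points.map_comp, G.i_t]; exact hρ)
    rwa [← Points.map_comp, G.i_s] at h
  -- Step 4
  intro T r
  constructor
  · rintro ⟨a, ha⟩
    refine Groth.Agent.H94.AlgSpLimit7.exists_factor_of_points_mem w hw (r ≫ G.s) (fun x => ?_)
    rw [← Points.map_ofPt]
    apply claimA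
    rw [Points.map_ofPt, ← ha, ← Points.map_ofPt]
    exact ⟨_, rfl⟩
  · rintro ⟨a, ha⟩
    refine Groth.Agent.H94.AlgSpLimit7.exists_factor_of_points_mem w hw (r ≫ G.t) (fun x => ?_)
    rw [← Points.map_ofPt]
    apply claimB
    rw [Points.map_ofPt, ← ha, ← Points.map_ofPt]
    exact ⟨_, rfl⟩

/-- The pullback squares for `f = s`. -/
theorem hpb_s (hU : IsAlgSpace G.U) (hR : IsAlgSpace G.R) {A : Sp S} (γ : A ⟶ G.R) (hA : IsAlgSpace A) :
    ∃ (Z : Sp S) (p : Z ⟶ A) (m₁ m₂ : Z ⟶ G.R),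
      IsAlgSpace Z ∧ IsPullback m₁ p G.s (γ ≫ G.t) ∧ IsPullback m₂ p G.s (γ ≫ G.s) :=
  ⟨_, _, _, _, Groth.Agent.H52.isAlgSpace_of_isPullback (IsPullback.of_hasPullback G.s (γ ≫ G.t))
    hU.diag hR hA, IsPullback.of_hasPullback G.s (γ ≫ G.t), isPullback_cmp_snd G γ⟩

theorem main12197 (G : GroupoidSp B) (hU : IsAlgSpace G.U) (hR : IsAlgSpace G.R)
    (τ : CovNotion S) (hτ : τ = IsFppfCover ∨ τ = IsEtCover ∨ τ = IsSmCover)
    (P : MorphismProperty (Sp S)) (hP : IsLocalOnBase τ P)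
    (hs : τ (fun _ : PUnit.{u + 1} => G.R) (fun _ => G.s)) (ht : τ (fun _ : PUnit.{u + 1} => G.R) (fun _ => G.t))
    {W : Sp S} (hWsp : IsAlgSpace W) (w : W ⟶ G.U) (hw : RepWith @IsOpenImmersion w)
    (hmax : ∀ (W' : Sp S) (w' : W' ⟶ G.U), IsAlgSpace W' → RepWith @IsOpenImmersion w' →
      (P (pullback.snd G.s w') ↔ ∃ k : W' ⟶ W, k ≫ w = w')) :
    G.IsInvariant w := by
  rcases hτ with rfl | rfl | rfl
  · exact key G coverClass_fppf hP hU hR (hs.1 PUnit.unit) (ht.1 PUnit.unit) hR G.s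
      (fun γ hA => hpb_s G hU hR γ hA) hWsp w hw hmax
  · exact key G coverClass_etale hP hU hR (hs.1 PUnit.unit) (ht.1 PUnit.unit) hR G.s
      (fun γ hA => hpb_s G hU hR γ hA) hWsp w hw hmax
  · exact key G coverClass_smooth hP hU hR (hs.1 PUnit.unit) (ht.1 PUnit.unit) hR G.s
      (fun γ hA => hpb_s G hU hR γ hA) hWsp w hw hmax

end Groth.Agent.H94.GpdInv
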