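import Mathlib
import Groth.Prelude.Def_AlgSpGpd
import Groth.Prelude.Def_AlgSpCov
import Groth.Agent.H94.GpdInv
set_option autoImplicit false
universe u
open CategoryTheory CategoryTheory.Limits AlgebraicGeometry Topology
open AlgSp AlgSp.GroupoidSp Groth.Agent.H50 Groth.Agent.H51 Groth.Agent.H94.GpdInv

namespace Groth.Agent.H94.GpdInv2

variable {S : Scheme.{u}} {B : Sp S} (G : GroupoidSp B)

lemma stabι_t : G.stabilizerι ≫ G.t = G.stabilizerToU := by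
  have h := congrArg (fun m => m ≫ pullback.fst G.pU G.pU) (pullback.condition (f := G.j) (g := G.diag))
  simp only [Category.assoc, G.j_fst] at h
  have h2 : G.diag ≫ pullback.fst G.pU G.pU = 𝟙 _ := pullback.lift_fst _ _ _
  rw [h2, Category.comp_id] at h
  exact h

lemma stabι_s : G.stabilizerι ≫ G.s = G.stabilizerToU := by
  have h := congrArg (fun m => m ≫ pullback.snd G.pU G.pU) (pullback.condition (f := G.j) (g := G.diag))
  simp only [Category.assoc, G.j_snd] at h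
  have h2 : G.diag ≫ pullback.snd G.pU G.pU = 𝟙 _ := pullback.lift_snd _ _ _
  rw [h2, Category.comp_id] at h
  exact h

lemma stab_hom_ext {T : Sp S} (a b : T ⟶ G.stabilizer) (h : a ≫ G.stabilizerι = b ≫ G.stabilizerι) :
    a = b := by
  apply pullback.hom_ext
  · exact h
  · have h1 : a ≫ G.stabilizerToU = b ≫ G.stabilizerToU := by
      rw [← stabι_t, ← Category.assoc, h, Category.assoc]
    exact h1

noncomputable def stabLift {T : Sp S} (h : T ⟶ G.R) (hh : h ≫ G.t = h ≫ G.s) : T ⟶ G.stabilizer :=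
  pullback.lift h (h ≫ G.t) (by
    apply pullback.hom_ext
    · rw [Category.assoc, G.j_fst, Category.assoc]
      have h2 : G.diag ≫ pullback.fst G.pU G.pU = 𝟙 _ := pullback.lift_fst _ _ _
      rw [Category.assoc, h2, Category.comp_id]
    · rw [Category.assoc, G.j_snd, Category.assoc]
      have h2 : G.diag ≫ pullback.snd G.pU G.pU = 𝟙 _ := pullback.lift_snd _ _ _
      rw [Category.assoc, h2, Category.comp_id, hh])

lemma stabLift_ι {T : Sp S} (h : T ⟶ G.R) (hh : h ≫ G.t = h ≫ G.s) :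
    stabLift G h hh ≫ G.stabilizerι = h := pullback.lift_fst _ _ _

lemma stabLift_toU {T : Sp S} (h : T ⟶ G.R) (hh : h ≫ G.t = h ≫ G.s) :
    stabLift G h hh ≫ G.stabilizerToU = h ≫ G.t := pullback.lift_snd _ _ _

/-- `a ∘ ((b ∘ x) ∘ a) ∘ b = x` when `a ∘ b` is the identity at the (common) source and target of `x`. -/
lemma sandwich {T : Sp S} (a b x : T ⟶ G.R) (hab : a ≫ G.s = b ≫ G.t) (hbx : b ≫ G.s = x ≫ G.t)
    (hxa : x ≫ G.s = a ≫ G.t) (hu : cmp G a b hab = x ≫ G.t ≫ G.e) (hx : x ≫ G.t = x ≫ G.s)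
    (p1 : cmp G b x hbx ≫ G.s = a ≫ G.t) (p2 : a ≫ G.s = cmp G (cmp G b x hbx) a p1 ≫ G.t)
    (p3 : cmp G a (cmp G (cmp G b x hbx) a p1) p2 ≫ G.s = b ≫ G.t) :
    cmp G (cmp G a (cmp G (cmp G b x hbx) a p1) p2) b p3 = x := by
  have q1 : a ≫ G.s = cmp G b x hbx ≫ G.t := by rw [cmp_t]; exact hab
  have r1 : cmp G a b hab ≫ G.s = x ≫ G.t := by rw [cmp_s]; exact hbx
  have S3 : cmp G (cmp G a b hab) x r1 = x := e_cmp G x (cmp G a b hab) hu r1
  have S2 : cmp G a (cmp G b x hbx) q1 = x := (cmp_assoc G a b x hab hbx r1 q1).symm.trans S3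
  have q2 : cmp G a (cmp G b x hbx) q1 ≫ G.s = a ≫ G.t := by rw [cmp_s]; exact p1
  have S1 : cmp G a (cmp G (cmp G b x hbx) a p1) p2 = cmp G x a hxa :=
    (cmp_assoc G a (cmp G b x hbx) a q1 p1 q2 p2).symm.trans (cmp_congr G S2 rfl _ _)
  have q3 : cmp G x a hxa ≫ G.s = b ≫ G.t := by rw [cmp_s]; exact hab
  have q4 : x ≫ G.s = cmp G a b hab ≫ G.t := by rw [cmp_t]; exact hxa
  refine (cmp_congr G S1 rfl p3 q3).trans ?_
  rw [cmp_assoc G x a b hxa hab q3 q4]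
  refine cmp_e G x _ ?_ _
  rw [hu, ← Category.assoc, hx, Category.assoc]

/-- conjugation identifies the base changes of the stabilizer along `γ ≫ s` and `γ ≫ t`. -/
theorem exists_isPullback_conj {A : Sp S} (γ : A ⟶ G.R) :
    ∃ m₁ : pullback G.stabilizerToU (γ ≫ G.s) ⟶ G.stabilizer,
      IsPullback m₁ (pullback.snd G.stabilizerToU (γ ≫ G.s)) G.stabilizerToU (γ ≫ G.t) := by
  have hcond : pullback.fst G.stabilizerToU (γ ≫ G.s) ≫ G.stabilizerToU =
      pullback.snd G.stabilizerToU (γ ≫ G.s) ≫ γ ≫ G.s := pullback.condition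
  have hht : (pullback.fst G.stabilizerToU (γ ≫ G.s) ≫ G.stabilizerι) ≫ G.t =
      (pullback.snd G.stabilizerToU (γ ≫ G.s) ≫ γ) ≫ G.s := by
    rw [Category.assoc, stabι_t, hcond, Category.assoc]
  have hhs : (pullback.fst G.stabilizerToU (γ ≫ G.s) ≫ G.stabilizerι) ≫ G.s =
      (pullback.snd G.stabilizerToU (γ ≫ G.s) ≫ γ) ≫ G.s := by
    rw [Category.assoc, stabι_s, hcond, Category.assoc]
  have c2 : cmp G (pullback.snd G.stabilizerToU (γ ≫ G.s) ≫ γ)
      (pullback.fst G.stabilizerToU (γ ≫ G.s) ≫ G.stabilizerι) hht.symm ≫ G.s =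
      ((pullback.snd G.stabilizerToU (γ ≫ G.s) ≫ γ) ≫ G.i) ≫ G.t := by
    rw [cmp_s, hhs, Category.assoc _ G.i, G.i_t]
  have hconj : cmp G (cmp G (pullback.snd G.stabilizerToU (γ ≫ G.s) ≫ γ)
      (pullback.fst G.stabilizerToU (γ ≫ G.s) ≫ G.stabilizerι) hht.symm)
      ((pullback.snd G.stabilizerToU (γ ≫ G.s) ≫ γ) ≫ G.i) c2 ≫ G.t =
      cmp G (cmp G (pullback.snd G.stabilizerToU (γ ≫ G.s) ≫ γ)
      (pullback.fst G.stabilizerToU (γ ≫ G.s) ≫ G.stabilizerι) hht.symm)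
      ((pullback.snd G.stabilizerToU (γ ≫ G.s) ≫ γ) ≫ G.i) c2 ≫ G.s := by
    rw [cmp_t, cmp_t, cmp_s, Category.assoc _ G.i, G.i_s]
  refine ⟨stabLift G _ hconj, ⟨⟨?_⟩, ⟨PullbackCone.IsLimit.mk _ (fun c => ?_) (fun c => ?_)
    (fun c => ?_) (fun c m h1 h2 => ?_)⟩⟩⟩
  · rw [stabLift_toU, cmp_t, cmp_t, Category.assoc]
  · -- lift
    have hc : c.fst ≫ G.stabilizerToU = c.snd ≫ γ ≫ G.t := c.condition
    have h't : (c.fst ≫ G.stabilizerι) ≫ G.t = (c.snd ≫ γ) ≫ G.t := by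
      rw [Category.assoc, stabι_t, hc, Category.assoc]
    have h's : (c.fst ≫ G.stabilizerι) ≫ G.s = (c.snd ≫ γ) ≫ G.t := by
      rw [Category.assoc, stabι_s, hc, Category.assoc]
    have d1 : ((c.snd ≫ γ) ≫ G.i) ≫ G.s = (c.fst ≫ G.stabilizerι) ≫ G.t := by
      rw [Category.assoc _ G.i, G.i_s, h't]
    have d2 : cmp G ((c.snd ≫ γ) ≫ G.i) (c.fst ≫ G.stabilizerι) d1 ≫ G.s = (c.snd ≫ γ) ≫ G.t := by
      rw [cmp_s, h's]
    have hcinv : cmp G (cmp G ((c.snd ≫ γ) ≫ G.i) (c.fst ≫ G.stabilizerι) d1) (c.snd ≫ γ) d2 ≫ G.t =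
        cmp G (cmp G ((c.snd ≫ γ) ≫ G.i) (c.fst ≫ G.stabilizerι) d1) (c.snd ≫ γ) d2 ≫ G.s := by
      rw [cmp_t, cmp_t, cmp_s, Category.assoc _ G.i, G.i_t]
    refine pullback.lift (stabLift G _ hcinv) c.snd ?_
    rw [stabLift_toU, cmp_t, cmp_t, Category.assoc _ G.i, G.i_t, Category.assoc]
  · -- fac_left
    have hc : c.fst ≫ G.stabilizerToU = c.snd ≫ γ ≫ G.t := c.condition
    have h't : (c.fst ≫ G.stabilizerι) ≫ G.t = (c.snd ≫ γ) ≫ G.t := by
      rw [Category.assoc, stabι_t, hc, Category.assoc]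
    have h's : (c.fst ≫ G.stabilizerι) ≫ G.s = (c.snd ≫ γ) ≫ G.t := by
      rw [Category.assoc, stabι_s, hc, Category.assoc]
    have d1 : ((c.snd ≫ γ) ≫ G.i) ≫ G.s = (c.fst ≫ G.stabilizerι) ≫ G.t := by
      rw [Category.assoc _ G.i, G.i_s, h't]
    have d2 : cmp G ((c.snd ≫ γ) ≫ G.i) (c.fst ≫ G.stabilizerι) d1 ≫ G.s = (c.snd ≫ γ) ≫ G.t := by
      rw [cmp_s, h's]
    apply stab_hom_ext
    rw [Category.assoc, stabLift_ι, precomp_cmp]
    have e : ∀ (α δ : c.pt ⟶ G.R)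
        (hα : α = cmp G (c.snd ≫ γ) (cmp G (cmp G ((c.snd ≫ γ) ≫ G.i) (c.fst ≫ G.stabilizerι) d1) (c.snd ≫ γ) d2)
          (by rw [cmp_t, cmp_t, Category.assoc _ G.i, G.i_t]))
        (hδ : δ = (c.snd ≫ γ) ≫ G.i) (q : α ≫ G.s = δ ≫ G.t), cmp G α δ q = c.fst ≫ G.stabilizerι := by
      intro α δ hα hδ q
      subst hα; subst hδ
      refine sandwich G (c.snd ≫ γ) ((c.snd ≫ γ) ≫ G.i) (c.fst ≫ G.stabilizerι)
        (by rw [Category.assoc _ G.i, G.i_t]) d1 h's ?_ (h't.trans h's.symm) d2 _ _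
      rw [cmp_i, ← Category.assoc, ← h't, Category.assoc]
    refine e _ _ ?_ ?_ _
    · rw [precomp_cmp]
      refine cmp_congr G ?_ ?_ _ _
      · rw [← Category.assoc, pullback.lift_snd]
      · rw [← Category.assoc, pullback.lift_fst, stabLift_ι]
    · rw [← Category.assoc, ← Category.assoc, pullback.lift_snd]
  · exact pullback.lift_snd _ _ _
  · -- uniq
    have hc : c.fst ≫ G.stabilizerToU = c.snd ≫ γ ≫ G.t := c.condition
    have h't : (c.fst ≫ G.stabilizerι) ≫ G.t = (c.snd ≫ γ) ≫ G.t := by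
      rw [Category.assoc, stabι_t, hc, Category.assoc]
    have h's : (c.fst ≫ G.stabilizerι) ≫ G.s = (c.snd ≫ γ) ≫ G.t := by
      rw [Category.assoc, stabι_s, hc, Category.assoc]
    have d1 : ((c.snd ≫ γ) ≫ G.i) ≫ G.s = (c.fst ≫ G.stabilizerι) ≫ G.t := by
      rw [Category.assoc _ G.i, G.i_s, h't]
    have d2 : cmp G ((c.snd ≫ γ) ≫ G.i) (c.fst ≫ G.stabilizerι) d1 ≫ G.s = (c.snd ≫ γ) ≫ G.t := by
      rw [cmp_s, h's]
    apply pullback.hom_ext
    · rw [pullback.lift_fst]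
      apply stab_hom_ext
      rw [stabLift_ι]
      -- hm := (m ≫ fstZ) ≫ stabι
      have hmt : ((m ≫ pullback.fst G.stabilizerToU (γ ≫ G.s)) ≫ G.stabilizerι) ≫ G.t = (c.snd ≫ γ) ≫ G.s := by
        rw [Category.assoc, Category.assoc, ← Category.assoc _ G.stabilizerι, hht, ← Category.assoc,
          ← Category.assoc, h2]
      have hms : ((m ≫ pullback.fst G.stabilizerToU (γ ≫ G.s)) ≫ G.stabilizerι) ≫ G.s = (c.snd ≫ γ) ≫ G.s := by
        rw [Category.assoc, Category.assoc, ← Category.assoc _ G.stabilizerι, hhs, ← Category.assoc,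
          ← Category.assoc, h2]
      have c2' : cmp G (c.snd ≫ γ) ((m ≫ pullback.fst G.stabilizerToU (γ ≫ G.s)) ≫ G.stabilizerι) hmt.symm ≫ G.s =
          ((c.snd ≫ γ) ≫ G.i) ≫ G.t := by
        rw [cmp_s, hms, Category.assoc _ G.i, G.i_t]
      -- h' = conj(g', hm)
      have hh' : c.fst ≫ G.stabilizerι =
          cmp G (cmp G (c.snd ≫ γ) ((m ≫ pullback.fst G.stabilizerToU (γ ≫ G.s)) ≫ G.stabilizerι) hmt.symm)
            ((c.snd ≫ γ) ≫ G.i) c2' := by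
        rw [← h1, Category.assoc, stabLift_ι, precomp_cmp]
        refine cmp_congr G ?_ ?_ _ _
        · rw [precomp_cmp]
          refine cmp_congr G ?_ ?_ _ _
          · rw [← Category.assoc, h2]
          · rw [Category.assoc]
        · rw [← Category.assoc, ← Category.assoc, h2]
      have e : ∀ (x : c.pt ⟶ G.R) (hx : x = cmp G (cmp G (c.snd ≫ γ) ((m ≫ pullback.fst G.stabilizerToU (γ ≫ G.s)) ≫ G.stabilizerι) hmt.symm)
            ((c.snd ≫ γ) ≫ G.i) c2') (q1 : ((c.snd ≫ γ) ≫ G.i) ≫ G.s = x ≫ G.t)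
          (q2 : cmp G ((c.snd ≫ γ) ≫ G.i) x q1 ≫ G.s = (c.snd ≫ γ) ≫ G.t),
          (m ≫ pullback.fst G.stabilizerToU (γ ≫ G.s)) ≫ G.stabilizerι =
            cmp G (cmp G ((c.snd ≫ γ) ≫ G.i) x q1) (c.snd ≫ γ) q2 := by
        intro x hx q1 q2
        subst hx
        refine (sandwich G ((c.snd ≫ γ) ≫ G.i) (c.snd ≫ γ) ((m ≫ pullback.fst G.stabilizerToU (γ ≫ G.s)) ≫ G.stabilizerι)
          (by rw [Category.assoc _ G.i, G.i_s]) hmt.symm (by rw [hms, Category.assoc _ G.i, G.i_t]) ?_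
          (hmt.trans hms.symm) c2' _ _).symm
        rw [i_cmp, ← Category.assoc, ← hmt, Category.assoc]
      exact e _ hh' d1 d2
    · rw [pullback.lift_snd]; exact h2


theorem isAlgSpace_stabilizer (hB : IsAlgSpace B) (hU : IsAlgSpace G.U) (hR : IsAlgSpace G.R) :
    IsAlgSpace G.stabilizer := by
  have hUU : IsAlgSpace (pullback G.pU G.pU) :=
    Groth.Agent.H52.isAlgSpace_of_isPullback (IsPullback.of_hasPullback G.pU G.pU) hB.diag hU hU
  exact Groth.Agent.H52.isAlgSpace_of_isPullback (IsPullback.of_hasPullback G.j G.diag) hUU.diag hR hU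

theorem hpb_stab (hB : IsAlgSpace B) (hU : IsAlgSpace G.U) (hR : IsAlgSpace G.R)
    {A : Sp S} (γ : A ⟶ G.R) (hA : IsAlgSpace A) :
    ∃ (Z : Sp S) (p : Z ⟶ A) (m₁ m₂ : Z ⟶ G.stabilizer),
      IsAlgSpace Z ∧ IsPullback m₁ p G.stabilizerToU (γ ≫ G.t) ∧
        IsPullback m₂ p G.stabilizerToU (γ ≫ G.s) := by
  obtain ⟨m₁, h₁⟩ := exists_isPullback_conj G γ
  exact ⟨_, _, m₁, _, Groth.Agent.H52.isAlgSpace_of_isPullback
    (IsPullback.of_hasPullback G.stabilizerToU (γ ≫ G.s)) hU.diag (isAlgSpace_stabilizer G hB hU hR) hA,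
    h₁, IsPullback.of_hasPullback G.stabilizerToU (γ ≫ G.s)⟩

theorem main12198 (hB : IsAlgSpace B) (G : GroupoidSp B) (hU : IsAlgSpace G.U) (hR : IsAlgSpace G.R)
    (τ : CovNotion S) (hτ : τ = IsFppfCover ∨ τ = IsEtCover ∨ τ = IsSmCover)
    (P : MorphismProperty (Sp S)) (hP : IsLocalOnBase τ P)
    (hs : τ (fun _ : PUnit.{u + 1} => G.R) (fun _ => G.s)) (ht : τ (fun _ : PUnit.{u + 1} => G.R) (fun _ => G.t))
    {W : Sp S} (hWsp : IsAlgSpace W) (w : W ⟶ G.U) (hw : RepWith @IsOpenImmersion w)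
    (hmax : ∀ (W' : Sp S) (w' : W' ⟶ G.U), IsAlgSpace W' → RepWith @IsOpenImmersion w' →
      (P (pullback.snd G.stabilizerToU w') ↔ ∃ k : W' ⟶ W, k ≫ w = w')) :
    G.IsInvariant w := by
  have hX := isAlgSpace_stabilizer G hB hU hR
  rcases hτ with rfl | rfl | rfl
  · exact key G coverClass_fppf hP hU hR (hs.1 PUnit.unit) (ht.1 PUnit.unit) hX G.stabilizerToU
      (fun γ hA => hpb_stab G hB hU hR γ hA) hWsp w hw hmax
  · exact key G coverClass_etale hP hU hR (hs.1 PUnit.unit) (ht.1 PUnit.unit) hX G.stabilizerToU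
      (fun γ hA => hpb_stab G hB hU hR γ hA) hWsp w hw hmax
  · exact key G coverClass_smooth hP hU hR (hs.1 PUnit.unit) (ht.1 PUnit.unit) hX G.stabilizerToU
      (fun γ hA => hpb_stab G hB hU hR γ hA) hWsp w hw hmax

end Groth.Agent.H94.GpdInv2
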