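import Mathlib

/-!
# Descending morphisms from a cofiltered limit: finite type + scheme-theoretically dominant
transitions (helper94)

* `exists_eq_comp_of_finiteType_of_injective` : ring-level factorisation through a stage for a
  finite type algebra when all colimit legs are injective.
* `affine_case`, `exists_π_app_comp_eq_of_locallyOfFiniteType_of_dominant` : scheme-level version of
  Mathlib's `Scheme.exists_π_app_comp_eq_of_locallyOfFinitePresentation` with `LocallyOfFiniteType`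
  + scheme-theoretically dominant transition maps (proof adapted from Mathlib).
* `app_injective_of_dominant` : sections inject into the limit.
* `main` : the `Over S` formulation (S18742).
-/

open CategoryTheory Limits AlgebraicGeometry

universe u

namespace Groth.Agent.H94.LimitHomLFT

/-- morphism to an affine scheme from a ring map -/
noncomputable def homOfAppTop {Y X : Scheme.{u}} [IsAffine X] (φ : Γ(X, ⊤) ⟶ Γ(Y, ⊤)) : Y ⟶ X :=
  Y.toSpecΓ ≫ Spec.map φ ≫ X.isoSpec.inv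

theorem isoSpec_inv_appTop' (X : Scheme.{u}) [IsAffine X] :
    X.isoSpec.inv.appTop = (Scheme.ΓSpecIso Γ(X, ⊤)).inv := by
  have h1 : X.isoSpec.inv.appTop ≫ X.isoSpec.hom.appTop = 𝟙 _ := by
    rw [← Scheme.Hom.comp_appTop, Iso.hom_inv_id]; rfl
  have h2 : X.isoSpec.hom.appTop = (Scheme.ΓSpecIso Γ(X, ⊤)).hom := Scheme.toSpecΓ_appTop X
  rw [h2] at h1
  rw [← cancel_mono (Scheme.ΓSpecIso Γ(X, ⊤)).hom, h1, Iso.inv_hom_id]

theorem homOfAppTop_appTop {Y X : Scheme.{u}} [IsAffine X] (φ : Γ(X, ⊤) ⟶ Γ(Y, ⊤)) :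
    (homOfAppTop φ).appTop = φ := by
  rw [homOfAppTop, Scheme.Hom.comp_appTop, Scheme.Hom.comp_appTop, isoSpec_inv_appTop',
    Scheme.toSpecΓ_appTop, Category.assoc, Scheme.ΓSpecIso_naturality, Iso.inv_hom_id_assoc]


section ring
universe vJ uJ

variable {J : Type uJ} [Category.{vJ} J] [IsFiltered J]
variable (R : CommRingCat.{u}) (F : J ⥤ CommRingCat.{u}) (α : (Functor.const _).obj R ⟶ F)
variable {S : CommRingCat.{u}} (f : R ⟶ S) (c : Cocone F) (hc : IsColimit c)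
variable [PreservesColimit F (forget CommRingCat)]

set_option backward.defeqAttrib.useBackward true in
set_option backward.isDefEq.respectTransparency false in
include hc in
lemma exists_eq_comp_of_finiteType_of_injective (hf : f.hom.FiniteType)
    (hinj : ∀ i, Function.Injective (c.ι.app i))
    (g : S ⟶ c.pt) (hg : ∀ i, f ≫ g = α.app i ≫ c.ι.app i) :
    ∃ (i : J) (g' : S ⟶ F.obj i), f ≫ g' = α.app i ∧ g = g' ≫ c.ι.app i := by
  classical
  have hc' := isColimitOfPreserves (forget _) hc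
  let := f.hom.toAlgebra
  obtain ⟨n, hn⟩ := Algebra.FiniteType.iff_quotient_mvPolynomial''.mp hf
  let P := CommRingCat.of (MvPolynomial (Fin n) R)
  let iP : R ⟶ P := CommRingCat.ofHom MvPolynomial.C
  obtain ⟨π, rfl, hπ⟩ :
      ∃ π : P ⟶ S, iP ≫ π = f ∧ Function.Surjective π := by
    obtain ⟨π, h₁⟩ := hn
    exact ⟨CommRingCat.ofHom π, by ext1; exact π.comp_algebraMap, h₁⟩
  obtain ⟨i, g', hg', hg''⟩ : ∃ (i : J) (g' : P ⟶ F.obj i),
      π ≫ g = g' ≫ c.ι.app i ∧ iP ≫ g' = α.app i := by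
    choose j x h using fun i ↦ Types.jointly_surjective_of_isColimit hc' ((π ≫ g) (.X i))
    obtain ⟨i, ⟨hi⟩⟩ : ∃ i, Nonempty (∀ a, (j a ⟶ i)) := by
      have : ∃ i, ∀ a, Nonempty (j a ⟶ i) := by
        simpa using! IsFiltered.sup_objs_exists (Finset.univ.image j)
      simpa [← exists_true_iff_nonempty, Classical.skolem, -exists_const_iff] using! this
    refine ⟨i, CommRingCat.ofHom (MvPolynomial.eval₂Hom
      (α.app i).hom (F.map (hi _) <| x ·)), ?_, ?_⟩
    · ext1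
      apply MvPolynomial.ringHom_ext
      · simpa using! fun x ↦ congr($(hg i).hom x)
      · intro i
        simp only [CommRingCat.hom_comp, RingHom.coe_comp, Function.comp_apply,
          Functor.const_obj_obj, CommRingCat.hom_ofHom, MvPolynomial.coe_eval₂Hom,
          MvPolynomial.eval₂_X]
        exact (congr($(c.w (hi i)).hom (x i)).trans (h i)).symm
    · ext x
      simp [P, iP]
  refine ⟨i, CommRingCat.ofHom (RingHom.liftOfSurjective π.hom hπ ⟨g'.hom, ?_⟩), ?_, ?_⟩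
  · intro r hr
    rw [RingHom.mem_ker] at hr ⊢
    apply hinj i
    have : (g' ≫ c.ι.app i) r = 0 := by
      rw [← hg']
      simp [hr]
    rw [map_zero]
    exact this
  · ext x
    suffices (iP ≫ g') x = α.app i x by
      simpa [RingHom.liftOfRightInverse_comp_apply] using! this
    exact congr($(hg'').hom x)
  · ext x
    obtain ⟨x, rfl⟩ := hπ x
    suffices (π ≫ g) x = (g' ≫ c.ι.app _) x by
      simpa only [CommRingCat.hom_comp, CommRingCat.hom_ofHom,
        RingHom.liftOfRightInverse_comp_apply, RingHom.coe_comp, Function.comp_apply] using! this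
    exact congr($(hg').hom x)


end ring

variable {I : Type u} [Category.{u} I] {S X : Scheme.{u}} (D : I ⥤ Scheme.{u})
  (t : D ⟶ (Functor.const I).obj S) (f : X ⟶ S) (c : Cone D) (hc : IsLimit c)

set_option backward.defeqAttrib.useBackward true in
set_option backward.isDefEq.respectTransparency false in
include hc in
lemma affine_case [IsCofiltered I] [LocallyOfFiniteType f]
    [IsAffine S] [IsAffine X] [∀ i, IsAffine (D.obj i)]
    (hinj : ∀ i, Function.Injective (c.π.app i).appTop)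
    (a : c.pt ⟶ X) (ha : c.π ≫ t = (Functor.const _).map (a ≫ f)) :
    ∃ (i : I) (g : D.obj i ⟶ X), c.π.app i ≫ g = a ∧ g ≫ f = t.app i := by
  have : ∀ i, IsAffine (D.op.obj i).unop := by dsimp; infer_instance
  have hcol : IsColimit (Scheme.Γ.mapCocone c.op) := isColimitOfPreserves Scheme.Γ hc.op
  let α : (Functor.const Iᵒᵖ).obj Γ(S, ⊤) ⟶ D.op ⋙ Scheme.Γ :=
    { app := fun i => (t.app i.unop).appTop
      naturality := fun i j u => by
        have := t.naturality u.unop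
        dsimp at this ⊢
        rw [Category.id_comp, ← Scheme.Hom.comp_appTop, this, Category.comp_id] }
  have hf : f.appTop.hom.FiniteType :=
    (HasRingHomProperty.iff_of_isAffine (P := @LocallyOfFiniteType)).mp inferInstance
  have hha : ∀ i, c.π.app i ≫ t.app i = a ≫ f := fun i => congr(($ha).app i)
  obtain ⟨i, g', h1, h2⟩ := exists_eq_comp_of_finiteType_of_injective Γ(S, ⊤) (D.op ⋙ Scheme.Γ) α
    f.appTop (Scheme.Γ.mapCocone c.op) hcol hf (fun i => hinj i.unop) a.appTop (fun i => by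
      dsimp [α]
      rw [← Scheme.Hom.comp_appTop, ← Scheme.Hom.comp_appTop, hha])
  refine ⟨i.unop, homOfAppTop g', ?_, ?_⟩
  · have : IsAffine c.pt := Scheme.isAffine_of_isLimit _ hc
    apply ext_of_isAffine
    rw [Scheme.Hom.comp_appTop, homOfAppTop_appTop]
    exact h2.symm
  · apply ext_of_isAffine
    rw [Scheme.Hom.comp_appTop, homOfAppTop_appTop]
    exact h1


section general

variable [IsCofiltered I] [∀ {i j} (f : i ⟶ j), IsAffineHom (D.map f)]

include hc in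
lemma app_injective_of_dominant
    (hdom : ∀ {i j : I} (u : i ⟶ j), IsSchemeTheoreticallyDominant (D.map u))
    (j : I) (U : (D.obj j).Opens) : Function.Injective ((c.π.app j).app U) := by
  wlog hU : IsAffineOpen U generalizing U; swap
  · rw [injective_iff_map_eq_zero]
    intro s hs
    obtain ⟨k, u, hk⟩ := exists_app_map_eq_zero_of_isLimit D c hc hU.isCompact s hs
    have := hdom u
    exact (D.map u).app_injective U (by rw [hk, map_zero])
  rw [injective_iff_map_eq_zero]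
  intro s hs
  refine (D.obj j).IsSheaf.section_ext fun x hx ↦ ?_
  obtain ⟨_, ⟨V, hV, rfl⟩, hxV, hVU : V ≤ U⟩ :=
    (D.obj j).isBasis_affineOpens.exists_subset_of_mem_open hx U.isOpen
  refine ⟨V, hVU, hxV, this V hV ?_⟩
  rw [← ConcreteCategory.comp_apply, (c.π.app j).naturality]
  simp [hs]

omit [IsCofiltered I] [∀ {i j} (f : i ⟶ j), IsAffineHom (D.map f)] in
lemma resLE_appTop_injective {A B : Scheme.{u}} (g : A ⟶ B)
    (hg : ∀ U, Function.Injective (g.app U)) (U : B.Opens) (W : A.Opens) (e : W ≤ g ⁻¹ᵁ U)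
    (he : g ⁻¹ᵁ U ≤ W) : Function.Injective (g.resLE U W e).appTop := by
  obtain rfl : W = g ⁻¹ᵁ U := le_antisymm e he
  rw [Scheme.Hom.resLE_eq_morphismRestrict]
  rw [Scheme.Hom.appTop, morphismRestrict_app]
  change Function.Injective ((ConcreteCategory.hom (A.presheaf.map (eqToHom _).op)) ∘
    (ConcreteCategory.hom (Scheme.Hom.app g (U.ι ''ᵁ ⊤))))
  exact Function.Injective.comp (ConcreteCategory.bijective_of_isIso _).1 (hg _)

end general


set_option backward.defeqAttrib.useBackward true in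
set_option backward.isDefEq.respectTransparency false in
open TopologicalSpace Scheme in
include hc in
/-- lft + scheme-theoretically dominant transitions version of
`Scheme.exists_π_app_comp_eq_of_locallyOfFinitePresentation`. -/
lemma exists_π_app_comp_eq_of_locallyOfFiniteType_of_dominant
    [IsCofiltered I] [LocallyOfFiniteType f]
    [∀ {i j} (f : i ⟶ j), IsAffineHom (D.map f)]
    (hdom : ∀ {i j : I} (u : i ⟶ j), IsSchemeTheoreticallyDominant (D.map u))
    [∀ i, CompactSpace (D.obj i)] [∀ i, QuasiSeparatedSpace (D.obj i)]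
    (a : c.pt ⟶ X) (ha : c.π ≫ t = (Functor.const _).map (a ≫ f)) :
    ∃ (i : I) (g : D.obj i ⟶ X), c.π.app i ≫ g = a ∧ g ≫ f = t.app i := by
  have 𝒰 := (c.pt.isBasis_affineOpens).isOpenCover_mem_and_le
    (((X.isBasis_affineOpens).isOpenCover_mem_and_le
    ((S.isBasis_affineOpens).isOpenCover.comap f.base.hom)).comap a.base.hom)
  obtain ⟨i, s, 𝒱, h𝒱, h𝒱𝒰⟩ := Scheme.exists_isOpenCover_and_isAffine D c hc _ 𝒰 fun U ↦ U.2.1
  obtain ⟨i', fi'i, hi'⟩ : ∃ (i' : I) (fi'i : i' ⟶ i),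
      ∀ j, D.map fi'i ⁻¹ᵁ 𝒱 j ≤ t.app i' ⁻¹ᵁ j.1.1.2.1.2.1 := by
    choose k fk hk using fun j ↦ exists_map_preimage_le_map_preimage D c hc (h𝒱𝒰 j).1.isCompact
      (V := t.app i ⁻¹ᵁ j.1.1.2.1.2.1) (by
      rw [← Hom.comp_preimage, ← NatTrans.comp_app, ha]
      exact (h𝒱𝒰 j).2.symm.trans_le (j.1.prop.2.trans (a.preimage_mono j.1.1.2.prop.2)))
    obtain ⟨i', fi'i, fi', hfi'⟩ := IsCofiltered.wideCospan fk
    refine ⟨i', fi'i, fun j ↦ ?_⟩
    rw [← hfi', Functor.map_comp, Hom.comp_preimage]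
    refine (Hom.preimage_mono _ (hk _)).trans ?_
    simp only [← Hom.comp_preimage, t.naturality, Functor.const_obj_obj,
      Functor.const_obj_map, Category.comp_id, le_refl]
  have : ∃ k, ∃ (fk : k ⟶ i), ∀ j, ∃ (ak : ↑(D.map fk ⁻¹ᵁ 𝒱 j) ⟶ X),
      ak ≫ f = Opens.ι _ ≫ t.app k ∧ c.π.app _ ∣_ _ ≫ ak = Opens.ι _ ≫ a := by
    let 𝒱' := (D.map fi'i ⁻¹ᵁ 𝒱 ·)
    have h𝒱'𝒰 (j : s) : c.π.app i' ⁻¹ᵁ 𝒱' j = j.1.1.1 := by
      rw [← Hom.comp_preimage, c.w fi'i]; exact (h𝒱𝒰 j).2.symm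
    have _ (j k) : IsAffine ((opensDiagram D i' (𝒱' j)).obj k) := ((h𝒱𝒰 _).1.preimage _).preimage _
    let t𝒱 (j : _) : opensDiagram D i' (𝒱' j) ⟶ (Functor.const (Over i')).obj j.1.1.2.1.2 :=
    { app k := (t.app k.left).resLE _ _ <| by
        refine (Hom.preimage_mono _ (hi' _)).trans ?_
        simp only [Functor.const_obj_obj, ← Hom.comp_preimage, t.naturality,
          Functor.const_obj_map, Category.comp_id, le_refl]
      naturality {k₁ k₂} f₁₂ := by simp [Hom.resLE_comp_resLE] }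
    have (j : s) : IsAffine j.1.1.2.1.1 := j.1.1.2.prop.1
    have hinj (j : s) (k : Over i') :
        Function.Injective ((opensCone D c i' (𝒱' j)).π.app k).appTop := by
      dsimp [opensCone]
      refine resLE_appTop_injective _ (app_injective_of_dominant D c hc hdom k.left) _ _ _ ?_
      rw [← Hom.comp_preimage, c.w]
    choose k ak hk hk' using fun j ↦ affine_case
      _ (t𝒱 j) (f.resLE _ _ j.1.1.2.prop.2) _ (isLimitOpensCone D c hc i' (𝒱' j)) (hinj j)
      (a.resLE _ _ ((h𝒱'𝒰 _).trans_le j.1.prop.2)) (by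
      ext k
      simp [t𝒱, Hom.resLE_comp_resLE, show c.π.app k.left ≫ t.app k.left = a ≫ f from
        congr(($ha).app k.left)])
    obtain ⟨i'', fi''i', fi'', hi''⟩ := IsCofiltered.wideCospan fun j ↦ (k j).hom
    refine ⟨i'', fi''i' ≫ fi'i, fun j ↦
      ⟨Scheme.homOfLE _ ?_ ≫ D.map (fi'' _) ∣_ _ ≫ ak j ≫ Opens.ι _, ?_, ?_⟩⟩
    · simp only [← Hom.comp_preimage, ← Functor.map_comp, 𝒱', reassoc_of% hi'']; rfl
    · have : ak j ≫ Opens.ι _ ≫ f = Opens.ι _ ≫ t.app (k j).left := by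
        simpa [t𝒱] using! congr($(hk' j) ≫ Opens.ι _)
      simp [this]
    · have e : c.π.app i'' ⁻¹ᵁ D.map (fi''i' ≫ fi'i) ⁻¹ᵁ 𝒱 j ≤ c.π.app i' ⁻¹ᵁ 𝒱' j := by
        simp only [← Hom.comp_preimage, Cone.w, 𝒱']; rfl
      simpa [← AlgebraicGeometry.Scheme.Hom.resLE_eq_morphismRestrict,
        Scheme.Hom.resLE_comp_resLE_assoc] using! congr(Scheme.homOfLE _ e ≫ $(hk j) ≫ Opens.ι _)
  choose k fki ak hak hak' using this
  obtain ⟨l, flk, hl⟩ : ∃ (l : I) (flk : l ⟶ k), ∀ j₁ j₂, Scheme.homOfLE _ inf_le_left ≫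
      D.map flk ∣_ _ ≫ ak j₁ = Scheme.homOfLE _ inf_le_right ≫ D.map flk ∣_ _ ≫ ak j₂ := by
    let 𝒱' := (D.map fki ⁻¹ᵁ 𝒱 ·)
    have (j₁ j₂ : s) : ∃ (l : I) (flk : l ⟶ k), Scheme.homOfLE _ inf_le_left ≫ D.map flk ∣_ _ ≫
        ak j₁ = Scheme.homOfLE _ inf_le_right ≫ D.map flk ∣_ _ ≫ ak j₂ := by
      have _ (x) : CompactSpace ↥((opensDiagram D k (𝒱' j₁ ⊓ 𝒱' j₂)).obj x) :=
        isCompact_iff_compactSpace.mp (QuasiCompact.isCompact_preimage _ (𝒱' j₁ ⊓ 𝒱' j₂).isOpen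
          (((h𝒱𝒰 _).1.preimage _).isCompact.inter_of_isOpen ((h𝒱𝒰 _).1.preimage _).isCompact
            (D.map fki ⁻¹ᵁ 𝒱 j₁).2 (D.map fki ⁻¹ᵁ 𝒱 j₂).2))
      obtain ⟨⟨l, ⟨⟨⟩⟩, flk⟩, ⟨flk', ⟨⟨⟨⟩⟩⟩, h⟩, e⟩ :=
        Scheme.exists_hom_comp_eq_comp_of_locallyOfFiniteType _
          (opensDiagramι .. ≫ (Over.forget k).whiskerLeft t) f _
          (isLimitOpensCone D c hc k (𝒱' j₁ ⊓ 𝒱' j₂)) (i := .mk (𝟙 k))
          (Scheme.homOfLE _ (by simp [𝒱']) ≫ ak j₁) (Scheme.homOfLE _ (by simp [𝒱']) ≫ ak j₂)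
          (by simp [hak]) (by simp [hak]) (by simp; simp [Hom.resLE, hak'])
      obtain rfl : flk = flk' := by simpa using! h.symm
      refine ⟨l, flk, by simpa [← Scheme.Hom.resLE_eq_morphismRestrict] using! e⟩
    choose l flk hflk using this
    obtain ⟨l', fl'k, fl'l, hl'⟩ := IsCofiltered.wideCospan (I := s × s) fun x ↦ flk x.1 x.2
    refine ⟨l', fl'k, fun j₁ j₂ ↦ ?_⟩
    have H : (D.map fl'k ≫ D.map fki) ⁻¹ᵁ (𝒱 j₁ ⊓ 𝒱 j₂) ≤
        (D.map (fl'l (j₁, j₂)) ≫ D.map (flk j₁ j₂) ≫ D.map fki) ⁻¹ᵁ (𝒱 j₁ ⊓ 𝒱 j₂) := by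
      simp only [← Functor.map_comp, reassoc_of% hl']; rfl
    simpa [← Scheme.Hom.resLE_eq_morphismRestrict, Scheme.Hom.resLE_comp_resLE_assoc,
      ← Functor.map_comp, hl'] using! congr((D.map (fl'l (j₁, j₂))).resLE _ _ H ≫ $(hflk j₁ j₂))
  let h𝒲 := (h𝒱.comap (D.map fki).base.hom).comap (D.map flk).base.hom
  let 𝒲 := Scheme.openCoverOfIsOpenCover _ (D.map flk ⁻¹ᵁ D.map fki ⁻¹ᵁ 𝒱 ·) h𝒲
  let F := 𝒲.glueMorphisms (fun j ↦ D.map flk ∣_ D.map fki ⁻¹ᵁ 𝒱 j ≫ ak j) (fun j₁ j₂ ↦ by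
      rw [← cancel_epi (isPullback_opens_inf _ _).isoPullback.hom]
      simpa [𝒲] using! hl j₁ j₂)
  have hF (j : s) : (D.map flk ⁻¹ᵁ D.map fki ⁻¹ᵁ 𝒱 j).ι ≫ F = D.map flk ∣_ _ ≫ ak j :=
    Scheme.Cover.ι_glueMorphisms ..
  refine ⟨l, F, ?_, ?_⟩
  · refine Cover.hom_ext (𝒲.pullback₁ (c.π.app l)) _ _ fun j ↦ ?_
    rw [← cancel_epi (isPullback_morphismRestrict _ _).flip.isoPullback.hom]
    dsimp [𝒲]
    simp only [pullback.condition_assoc, IsPullback.isoPullback_hom_snd_assoc,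
      IsPullback.isoPullback_hom_fst_assoc, hF]
    have h : c.π.app l ⁻¹ᵁ D.map flk ⁻¹ᵁ D.map fki ⁻¹ᵁ 𝒱 j ≤ c.π.app k ⁻¹ᵁ D.map fki ⁻¹ᵁ 𝒱 j := by
      simp only [← Hom.comp_preimage, c.w_assoc, c.w]; rfl
    simpa [← Scheme.Hom.resLE_eq_morphismRestrict, Scheme.Hom.resLE_comp_resLE_assoc] using!
      congr(Scheme.homOfLE _ h ≫ $(hak' j))
  · refine 𝒲.hom_ext _ _ fun j ↦ ?_
    simp [F, Cover.ι_glueMorphisms_assoc, hak]; rfl


set_option backward.defeqAttrib.useBackward true in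
set_option backward.isDefEq.respectTransparency false in
theorem main {S : Scheme.{u}} [CompactSpace S]
    [QuasiSeparatedSpace S] {I : Type u} [SmallCategory I] [IsCofiltered I] (D : I ⥤ Over S)
    (c : Cone D) (hc : IsLimit c)
    [∀ (i j : I) (t : i ⟶ j), IsAffineHom (D.map t).left]
    [∀ (i j : I) (t : i ⟶ j), IsSchemeTheoreticallyDominant (D.map t).left]
    [∀ i, CompactSpace (D.obj i).left] [∀ i, QuasiSeparatedSpace (D.obj i).left]
    (Y : Over S) [CompactSpace Y.left] [QuasiSeparatedSpace Y.left] [LocallyOfFiniteType Y.hom] :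
    (∀ φ : c.pt ⟶ Y, ∃ (i : I) (φi : D.obj i ⟶ Y), c.π.app i ≫ φi = φ) ∧
      ∀ (i : I) (φ ψ : D.obj i ⟶ Y), c.π.app i ≫ φ = c.π.app i ≫ ψ →
        ∃ (j : I) (t : j ⟶ i), D.map t ≫ φ = D.map t ≫ ψ := by
  have (i : I) : CompactSpace ((D ⋙ Over.forget S).obj i) := by dsimp; infer_instance
  have (i : I) : QuasiSeparatedSpace ((D ⋙ Over.forget S).obj i) := by dsimp; infer_instance
  have {i j : I} (f : i ⟶ j) : IsAffineHom ((D ⋙ Over.forget S).map f) := by
    dsimp; infer_instance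
  have hdom : ∀ {i j : I} (u : i ⟶ j), IsSchemeTheoreticallyDominant ((D ⋙ Over.forget S).map u) := by
    intro i j u; dsimp; infer_instance
  constructor
  · intro g
    obtain ⟨k, u, h, h'⟩ := exists_π_app_comp_eq_of_locallyOfFiniteType_of_dominant
      (D ⋙ Over.forget _) (.mk (fun _ ↦ (D.obj _).hom)) Y.hom _ (isLimitOfPreserves _ hc) hdom
      g.left (by ext; simp)
    exact ⟨k, Over.homMk u h', by ext; exact h⟩
  · intro k g₁ g₂ hg
    obtain ⟨k, hik, heq⟩ := Scheme.exists_hom_comp_eq_comp_of_locallyOfFiniteType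
      (D ⋙ Over.forget _) (.mk (fun _ ↦ (D.obj _).hom)) Y.hom _ (isLimitOfPreserves _ hc)
      g₁.left g₂.left (Over.w g₁).symm (Over.w g₂).symm congr($(hg).left)
    exact ⟨k, hik, by ext; exact heq⟩

end Groth.Agent.H94.LimitHomLFT
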