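import Mathlib
import Groth.Agent.H9.ComapIdeal

/-!
# Descending inequalities of locally principal ideal sheaves from a cofiltered limit (helper94)

* `affine_div` : for a cofiltered diagram of affine schemes, a relation `a = r * b` between
  pulled back global sections at the limit already holds at a finite stage.
* `exists_comap_le` : `D` cofiltered with affine transitions, `A B` locally principal ideal sheaves
  on a quasi-compact `D i` with `A.comap π_i ≤ B.comap π_i` at the limit; then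
  `A.comap (D.map w) ≤ B.comap (D.map w)` for some `w : j ⟶ i`.
* `le_of_comap_ι_le_of_cover`, `ideal_le_of_comap_ι_le` : compare ideal sheaves on an affine open cover
  after restriction.
-/

open CategoryTheory Limits AlgebraicGeometry

universe u

namespace Groth.Agent.H94.LimitIdeal

section affine
variable {K : Type u} [Category.{u} K] [IsCofiltered K] (P : K ⥤ Scheme.{u})
  (c : Cone P) (hc : IsLimit c) [∀ k, IsAffine (P.obj k)]

/-- pullback of global sections to the limit -/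
def pr (k : K) : Γ(P.obj k, ⊤) →+* Γ(c.pt, ⊤) := (c.π.app k).appTop.hom

omit [IsCofiltered K] [∀ k, IsAffine (P.obj k)] in
lemma pr_map {k k' : K} (u : k ⟶ k') (x : Γ(P.obj k', ⊤)) :
    pr P c k ((P.map u).appTop x) = pr P c k' x := by
  change (c.π.app k).appTop ((P.map u).appTop x) = (c.π.app k').appTop x
  rw [← ConcreteCategory.comp_apply, ← Scheme.Hom.comp_appTop, c.w]

include hc in
/-- affine descent of a divisibility relation between global sections -/
lemma affine_div (k0 : K) (a b : Γ(P.obj k0, ⊤)) (r : Γ(c.pt, ⊤))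
    (h : pr P c k0 a = r * pr P c k0 b) :
    ∃ (k : K) (u : k ⟶ k0) (r' : Γ(P.obj k, ⊤)),
      (P.map u).appTop a = r' * (P.map u).appTop b := by
  obtain ⟨k1, r1, hr1⟩ := exists_appTop_π_eq_of_isAffine_of_isLimit P c hc r
  replace hr1 : pr P c k1 r1 = r := hr1
  let k2 := IsCofiltered.min k0 k1
  let u0 : k2 ⟶ k0 := IsCofiltered.minToLeft k0 k1
  let u1 : k2 ⟶ k1 := IsCofiltered.minToRight k0 k1
  let e : Γ(P.obj k2, ⊤) := (P.map u0).appTop a - (P.map u1).appTop r1 * (P.map u0).appTop b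
  have he : (c.π.app k2).appTop e = 0 := by
    change pr P c k2 e = 0
    simp only [e, map_sub, map_mul, pr_map, hr1, h, sub_self]
  obtain ⟨k3, v, hv⟩ := exists_appTop_map_eq_zero_of_isAffine_of_isLimit P c hc k2 e he
  refine ⟨k3, v ≫ u0, (P.map v).appTop ((P.map u1).appTop r1), ?_⟩
  have h0 : ∀ x, (P.map v).appTop ((P.map u0).appTop x) = (P.map (v ≫ u0)).appTop x := by
    intro x
    rw [← ConcreteCategory.comp_apply, ← Scheme.Hom.comp_appTop, ← P.map_comp]
  simp only [e, map_sub, map_mul, h0, sub_eq_zero] at hv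
  exact hv

end affine


section N

lemma ideal_le_of_comap_ι_le {X : Scheme.{u}} (A B : X.IdealSheafData) (V : X.affineOpens)
    (h : A.comap V.1.ι ≤ B.comap V.1.ι) : A.ideal V ≤ B.ideal V := by
  have hV : IsAffine V.1.toScheme := V.2
  have e : (⊤ : V.1.toScheme.Opens) ≤ V.1.ι ⁻¹ᵁ V.1 := by
    intro x _; exact x.2
  have e1 := Groth.Agent.H9.comap_ideal V.1.ι A V ⟨⊤, isAffineOpen_top _⟩ e
  have e2 := Groth.Agent.H9.comap_ideal V.1.ι B V ⟨⊤, isAffineOpen_top _⟩ e
  have h' := h ⟨⊤, isAffineOpen_top _⟩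
  rw [e1, e2] at h'
  have hiso : IsIso (V.1.ι.appLE V.1 ⊤ e) := by
    rw [Scheme.Opens.ι_appLE]
    have : V.1.ι ''ᵁ ⊤ = V.1 := by simp
    have h1 : IsIso (homOfLE (x := V.1.ι ''ᵁ ⊤) (y := V.1) (Set.image_subset_iff.mpr e)) :=
      ⟨homOfLE this.ge, Subsingleton.elim _ _, Subsingleton.elim _ _⟩
    have h2 : IsIso (homOfLE (x := V.1.ι ''ᵁ ⊤) (y := V.1) (Set.image_subset_iff.mpr e)).op :=
      inferInstance
    exact Functor.map_isIso _ _
  have hbij := ConcreteCategory.bijective_of_isIso (V.1.ι.appLE V.1 ⊤ e)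
  intro x hx
  have hx' : (V.1.ι.appLE V.1 ⊤ e).hom x ∈ (B.ideal V).map (V.1.ι.appLE V.1 ⊤ e).hom :=
    h' (Ideal.mem_map_of_mem _ hx)
  obtain ⟨y, hy, hyx⟩ := (Ideal.mem_map_iff_of_surjective _ hbij.2).mp hx'
  rwa [← hbij.1 hyx]

lemma le_of_comap_ι_le_of_cover {X : Scheme.{u}} (A B : X.IdealSheafData) {ι : Type*}
    (V : ι → X.affineOpens) (hV : ⨆ m, (V m).1 = ⊤)
    (h : ∀ m, A.comap (V m).1.ι ≤ B.comap (V m).1.ι) : A ≤ B :=
  Scheme.IdealSheafData.le_of_iSup_eq_top V hV fun m => ideal_le_of_comap_ι_le A B (V m) (h m)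

end N


section piece

variable {I : Type u} [Category.{u} I] [IsCofiltered I] (D : I ⥤ Scheme.{u})
  (c : Cone D) (hc : IsLimit c) [∀ {i j} (f : i ⟶ j), IsAffineHom (D.map f)]
  (i : I) (U : (D.obj i).affineOpens)

/-- the structure map of the restricted piece -/
noncomputable def gmap (j : Over i) : ((opensDiagram D i U.1).obj j) ⟶ D.obj i :=
  (D.map j.hom ⁻¹ᵁ U.1).ι ≫ D.map j.hom

omit [IsCofiltered I] [∀ {i j} (f : i ⟶ j), IsAffineHom (D.map f)] in
lemma gmap_le (j : Over i) : (⊤ : ((opensDiagram D i U.1).obj j).Opens) ≤ gmap D i U j ⁻¹ᵁ U.1 := by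
  intro x _
  exact x.2

set_option backward.isDefEq.respectTransparency false in
omit [IsCofiltered I] [∀ {i j} (f : i ⟶ j), IsAffineHom (D.map f)] in
lemma map_gmap {j k : Over i} (u : j ⟶ k) :
    (opensDiagram D i U.1).map u ≫ gmap D i U k = gmap D i U j := by
  simp only [gmap, opensDiagram_map, opensDiagram_obj, Scheme.Hom.resLE_comp_ι_assoc, Category.assoc]
  rw [← D.map_comp, Over.w u]

/-- the structure map of the limit piece -/
noncomputable def ginf : (opensCone D c i U.1).pt ⟶ D.obj i :=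
  (c.π.app i ⁻¹ᵁ U.1).ι ≫ c.π.app i

set_option backward.isDefEq.respectTransparency false in
omit [IsCofiltered I] [∀ {i j} (f : i ⟶ j), IsAffineHom (D.map f)] in
lemma π_gmap (j : Over i) :
    (opensCone D c i U.1).π.app j ≫ gmap D i U j = ginf D c i U := by
  simp only [gmap, ginf, opensCone_pt, opensCone_π_app, Scheme.Hom.resLE_comp_ι_assoc]
  rw [c.w]

end piece


section piece2

lemma comap_ideal_top {Q Y : Scheme.{u}} [IsAffine Q] (g : Q ⟶ Y) (A : Y.IdealSheafData)
    (U : Y.affineOpens) (e : (⊤ : Q.Opens) ≤ g ⁻¹ᵁ U.1) (a : Γ(Y, U.1))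
    (hA : A.ideal U = Ideal.span {a}) :
    (A.comap g).ideal ⟨⊤, isAffineOpen_top Q⟩ = Ideal.span {(g.appLE U.1 ⊤ e).hom a} := by
  rw [Groth.Agent.H9.comap_ideal g A U ⟨⊤, isAffineOpen_top Q⟩ e, hA, Ideal.map_span,
    Set.image_singleton]

lemma appLE_comp_top {Q' Q Y : Scheme.{u}} (q : Q' ⟶ Q) (g : Q ⟶ Y) (U : Y.Opens)
    (e : (⊤ : Q.Opens) ≤ g ⁻¹ᵁ U) (e' : (⊤ : Q'.Opens) ≤ (q ≫ g) ⁻¹ᵁ U) (x : Γ(Y, U)) :
    ((q ≫ g).appLE U ⊤ e').hom x = q.appTop.hom ((g.appLE U ⊤ e).hom x) := by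
  have h0 : q.appLE ⊤ ⊤ le_top = q.appTop := by
    rw [Scheme.Hom.appTop, Scheme.Hom.app_eq_appLE]
    rfl
  have h1 := Scheme.Hom.appLE_comp_appLE q g U ⊤ ⊤ e le_top
  rw [h0] at h1
  have : (q ≫ g).appLE U ⊤ e' = g.appLE U ⊤ e ≫ q.appTop := h1.symm
  rw [this]
  rfl

variable {I : Type u} [Category.{u} I] [IsCofiltered I] (D : I ⥤ Scheme.{u})
  (c : Cone D) (hc : IsLimit c) [∀ {i j} (f : i ⟶ j), IsAffineHom (D.map f)]
  (i : I) (U : (D.obj i).affineOpens)

instance (j : Over i) : IsAffine ((opensDiagram D i U.1).obj j) :=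
  U.2.preimage (D.map j.hom)

include hc in
lemma piece (A B : (D.obj i).IdealSheafData) (a b : Γ(D.obj i, U.1))
    (hA : A.ideal U = Ideal.span {a}) (hB : B.ideal U = Ideal.span {b})
    (h : A.comap (c.π.app i) ≤ B.comap (c.π.app i)) :
    ∃ k : Over i, A.comap (gmap D i U k) ≤ B.comap (gmap D i U k) := by
  have hlim := isLimitOpensCone D c hc i U.1
  have haff : IsAffine (opensCone D c i U.1).pt := Scheme.isAffine_of_isLimit _ hlim
  -- inequality on the limit piece
  have h1 : A.comap (ginf D c i U) ≤ B.comap (ginf D c i U) := by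
    have : (A.comap (c.π.app i)).comap (c.π.app i ⁻¹ᵁ U.1).ι ≤
        (B.comap (c.π.app i)).comap (c.π.app i ⁻¹ᵁ U.1).ι :=
      Scheme.IdealSheafData.comap_mono (c.π.app i ⁻¹ᵁ U.1).ι h
    rw [← Scheme.IdealSheafData.comap_comp, ← Scheme.IdealSheafData.comap_comp] at this
    exact this
  have einf : (⊤ : (opensCone D c i U.1).pt.Opens) ≤ ginf D c i U ⁻¹ᵁ U.1 := by
    intro x _; exact x.2
  have h2 := h1 ⟨⊤, isAffineOpen_top _⟩
  rw [comap_ideal_top _ A U einf a hA, comap_ideal_top _ B U einf b hB,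
    Ideal.span_singleton_le_span_singleton] at h2
  obtain ⟨r, hr⟩ := h2
  let top : Over i := Over.mk (𝟙 i)
  have key := affine_div (opensDiagram D i U.1) (opensCone D c i U.1) hlim top
    ((gmap D i U top).appLE U.1 ⊤ (gmap_le D i U top) |>.hom a)
    ((gmap D i U top).appLE U.1 ⊤ (gmap_le D i U top) |>.hom b) r (by
      have e' : (⊤ : (opensCone D c i U.1).pt.Opens) ≤
          ((opensCone D c i U.1).π.app top ≫ gmap D i U top) ⁻¹ᵁ U.1 := by
        rw [π_gmap]; exact einf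
      have e1 := appLE_comp_top ((opensCone D c i U.1).π.app top) (gmap D i U top) U.1
        (gmap_le D i U top) e' a
      have e2 := appLE_comp_top ((opensCone D c i U.1).π.app top) (gmap D i U top) U.1
        (gmap_le D i U top) e' b
      have e3 : ∀ x, (((opensCone D c i U.1).π.app top ≫ gmap D i U top).appLE U.1 ⊤ e').hom x =
          ((ginf D c i U).appLE U.1 ⊤ einf).hom x := by
        intro x
        congr 2
        exact Groth.Agent.H9.appLE_congr_hom (π_gmap D c i U top) U.1 ⊤ e' einf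
      have hpa : pr (opensDiagram D i U.1) (opensCone D c i U.1) top
          (((gmap D i U top).appLE U.1 ⊤ (gmap_le D i U top)).hom a) =
          ((ginf D c i U).appLE U.1 ⊤ einf).hom a := e1.symm.trans (e3 a)
      have hpb : pr (opensDiagram D i U.1) (opensCone D c i U.1) top
          (((gmap D i U top).appLE U.1 ⊤ (gmap_le D i U top)).hom b) =
          ((ginf D c i U).appLE U.1 ⊤ einf).hom b := e2.symm.trans (e3 b)
      rw [hpa, hpb, hr, mul_comm])
  obtain ⟨k, u, r', hk⟩ := key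
  refine ⟨k, Scheme.IdealSheafData.le_of_isAffine ?_⟩
  rw [comap_ideal_top _ A U (gmap_le D i U k) a hA, comap_ideal_top _ B U (gmap_le D i U k) b hB,
    Ideal.span_singleton_le_span_singleton]
  have e' : (⊤ : ((opensDiagram D i U.1).obj k).Opens) ≤
      ((opensDiagram D i U.1).map u ≫ gmap D i U top) ⁻¹ᵁ U.1 := by
    rw [map_gmap]; exact gmap_le D i U k
  have e1 := appLE_comp_top ((opensDiagram D i U.1).map u) (gmap D i U top) U.1
    (gmap_le D i U top) e' a
  have e2 := appLE_comp_top ((opensDiagram D i U.1).map u) (gmap D i U top) U.1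
    (gmap_le D i U top) e' b
  have e3 : ∀ x, (((opensDiagram D i U.1).map u ≫ gmap D i U top).appLE U.1 ⊤ e').hom x =
      ((gmap D i U k).appLE U.1 ⊤ (gmap_le D i U k)).hom x := by
    intro x
    congr 2
    exact Groth.Agent.H9.appLE_congr_hom (map_gmap D i U u) U.1 ⊤ e' (gmap_le D i U k)
  refine ⟨r', ?_⟩
  rw [← e3 a, ← e3 b, e1, e2, mul_comm]
  exact hk

end piece2


section glob

lemma principal_of_le {X : Scheme.{u}} (A : X.IdealSheafData) {U V : X.affineOpens} (h : U ≤ V)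
    (a : Γ(X, V.1)) (hA : A.ideal V = Ideal.span {a}) :
    ∃ a' : Γ(X, U.1), A.ideal U = Ideal.span {a'} := by
  refine ⟨(X.presheaf.map (homOfLE h).op).hom a, ?_⟩
  rw [← A.map_ideal h, hA, Ideal.map_span, Set.image_singleton]

variable {I : Type u} [Category.{u} I] [IsCofiltered I] (D : I ⥤ Scheme.{u})
  (c : Cone D) (hc : IsLimit c) [∀ {i j} (f : i ⟶ j), IsAffineHom (D.map f)]
  (i : I)

omit [IsCofiltered I] [∀ {i j} (f : i ⟶ j), IsAffineHom (D.map f)] in
lemma comap_gmap_mono (U : (D.obj i).affineOpens) (A B : (D.obj i).IdealSheafData)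
    {j k : Over i} (u : j ⟶ k) (h : A.comap (gmap D i U k) ≤ B.comap (gmap D i U k)) :
    A.comap (gmap D i U j) ≤ B.comap (gmap D i U j) := by
  rw [← map_gmap D i U u, Scheme.IdealSheafData.comap_comp, Scheme.IdealSheafData.comap_comp]
  exact Scheme.IdealSheafData.comap_mono _ h

include hc in
lemma exists_comap_le [CompactSpace (D.obj i)] (A B : (D.obj i).IdealSheafData)
    (hA : ∀ x : D.obj i, ∃ U : (D.obj i).affineOpens, x ∈ U.1 ∧
      ∃ a : Γ(D.obj i, U.1), A.ideal U = Ideal.span {a})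
    (hB : ∀ x : D.obj i, ∃ U : (D.obj i).affineOpens, x ∈ U.1 ∧
      ∃ b : Γ(D.obj i, U.1), B.ideal U = Ideal.span {b})
    (h : A.comap (c.π.app i) ≤ B.comap (c.π.app i)) :
    ∃ (j : I) (w : j ⟶ i), A.comap (D.map w) ≤ B.comap (D.map w) := by
  classical
  have key : ∀ x : D.obj i, ∃ (U : (D.obj i).affineOpens) (k : Over i), x ∈ U.1 ∧
      A.comap (gmap D i U k) ≤ B.comap (gmap D i U k) := by
    intro x
    obtain ⟨UA, hxA, a, ha⟩ := hA x
    obtain ⟨UB, hxB, b, hb⟩ := hB x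
    obtain ⟨_, ⟨U, hU, rfl⟩, hxU, hUle⟩ :=
      (D.obj i).isBasis_affineOpens.exists_subset_of_mem_open
        (show x ∈ ((UA.1 ⊓ UB.1 : (D.obj i).Opens) : Set (D.obj i)) from ⟨hxA, hxB⟩)
        (UA.1 ⊓ UB.1).isOpen
    let U' : (D.obj i).affineOpens := ⟨U, hU⟩
    have hUA : U' ≤ UA := fun y hy => (hUle hy).1
    have hUB : U' ≤ UB := fun y hy => (hUle hy).2
    obtain ⟨a', ha'⟩ := principal_of_le A hUA a ha
    obtain ⟨b', hb'⟩ := principal_of_le B hUB b hb
    obtain ⟨k, hk⟩ := piece D c hc i U' A B a' b' ha' hb' h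
    exact ⟨U', k, hxU, hk⟩
  choose U k hxU hk using key
  obtain ⟨t, ht⟩ := CompactSpace.elim_nhds_subcover (fun x => ((U x).1 : Set (D.obj i)))
    (fun x => (U x).1.2.mem_nhds (hxU x))
  obtain ⟨j, w, v, hv⟩ := IsCofiltered.wideCospan (fun x : t => (k x.1).hom)
  refine ⟨j, w, ?_⟩
  refine le_of_comap_ι_le_of_cover _ _
    (fun x : t => ⟨D.map w ⁻¹ᵁ (U x.1).1, (U x.1).2.preimage (D.map w)⟩) ?_ ?_
  · rw [eq_top_iff]
    intro y _
    have : (D.map w) y ∈ ⋃ x ∈ t, ((U x).1 : Set (D.obj i)) := by rw [ht]; trivial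
    obtain ⟨x, hx, hy⟩ := Set.mem_iUnion₂.mp this
    exact TopologicalSpace.Opens.mem_iSup.mpr ⟨⟨x, hx⟩, hy⟩
  · intro x
    have h1 := comap_gmap_mono D i (U x.1) A B
      (Over.homMk (v x) (hv x) : Over.mk w ⟶ k x.1) (hk x.1)
    rw [← Scheme.IdealSheafData.comap_comp, ← Scheme.IdealSheafData.comap_comp]
    exact h1

end glob

end Groth.Agent.H94.LimitIdeal
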