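import Mathlib
import Groth.Prelude.Def_W4c6modpairsegaMP
import Groth.Agent.H94.EffCartierDense
import Groth.Agent.S18732
import Groth.Agent.S18737

set_option autoImplicit false
universe u
open CategoryTheory CategoryTheory.Limits AlgebraicGeometry TopologicalSpace

namespace Groth.Agent.H94.ModPairLib
open Groth.Agent.H94.EffCartierDense

variable {X Y : Scheme.{u}}

theorem interior_comap (J : Y.IdealSheafData) (f : X ⟶ Y) :
    ModPair.interior (J.comap f) = f ⁻¹ᵁ ModPair.interior J := by
  unfold ModPair.interior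
  rw [Scheme.IdealSheafData.support_comap]
  rfl

theorem interior_mono {I J : X.IdealSheafData} (h : I ≤ J) :
    ModPair.interior I ≤ ModPair.interior J := by
  intro x hx hx'
  exact hx (Scheme.IdealSheafData.support_antitone h hx')

theorem interior_le_preimage_of_isAmbient (I : X.IdealSheafData) (J : Y.IdealSheafData) (f : X ⟶ Y)
    (h : ModPair.IsAmbient I J f) : ModPair.interior I ≤ f ⁻¹ᵁ ModPair.interior J := by
  rw [← interior_comap]
  exact interior_mono h

theorem isAffineHom_interior_ι (I : X.IdealSheafData) (hI : BlowUp.IsEffCartierIdeal I) :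
    IsAffineHom (ModPair.interior I).ι :=
  Groth.Agent.S18732.isAffineHom_compl_ι I hI

theorem dominant_interior_ι (I : X.IdealSheafData) (hI : BlowUp.IsEffCartierIdeal I) :
    IsSchemeTheoreticallyDominant (ModPair.interior I).ι :=
  dominant_compl_of_isEffCartier I hI

theorem isAffineHom_preimage_ι (f : X ⟶ Y) (U : Y.Opens) [IsAffineHom U.ι] :
    IsAffineHom (f ⁻¹ᵁ U).ι :=
  MorphismProperty.of_isPullback (isPullback_morphismRestrict f U) inferInstance

theorem isAffineHom_inf_ι (A B : X.Opens) [IsAffineHom A.ι] [IsAffineHom B.ι] :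
    IsAffineHom (A ⊓ B).ι := by
  haveI : IsAffineHom (X.homOfLE (inf_le_right : A ⊓ B ≤ B)) :=
    MorphismProperty.of_isPullback (isPullback_opens_inf A B) inferInstance
  rw [← Scheme.homOfLE_ι X (inf_le_right : A ⊓ B ≤ B)]
  infer_instance

/-- Precomposing with a quasi-compact scheme-theoretically dominant morphism does not change
the kernel. -/
theorem ker_comp_of_dominant {W : Scheme.{u}} (g : W ⟶ X) (c : X ⟶ Y)
    [IsSchemeTheoreticallyDominant g] [QuasiCompact g] : (g ≫ c).ker = c.ker := by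
  unfold Scheme.Hom.ker
  congr 1
  funext U
  ext a
  have key : ((g ≫ c).app U.1).hom a = (g.app (c ⁻¹ᵁ U.1)).hom ((c.app U.1).hom a) := by
    rw [Scheme.Hom.comp_app]; rfl
  rw [RingHom.mem_ker, RingHom.mem_ker, key]
  constructor
  · intro h
    exact Scheme.Hom.app_injective g _ (by rw [map_zero]; exact h)
  · intro h
    rw [h, map_zero]
    rfl

/-- Lifting a morphism to the scheme-theoretic image of `j`, given that it factors through `j`
on a dense open. -/
theorem exists_lift_image {P W W₀ : Scheme.{u}} (j : W₀ ⟶ P) (c₀ : W ⟶ P) (D : W.Opens)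
    [IsSchemeTheoreticallyDominant D.ι] [QuasiCompact D.ι]
    (c₁ : (D : Scheme.{u}) ⟶ W₀) (h : c₁ ≫ j = D.ι ≫ c₀) :
    ∃ c : W ⟶ j.image, c ≫ j.imageι = c₀ := by
  have hk : j.imageι.ker ≤ c₀.ker := by
    rw [← ker_comp_of_dominant D.ι c₀, ← h]
    have : j.imageι.ker = j.ker := by
      rw [Scheme.Hom.imageι, Scheme.IdealSheafData.ker_subschemeι]
    rw [this]
    exact Scheme.Hom.le_ker_comp c₁ j
  exact ⟨IsClosedImmersion.lift j.imageι c₀ hk, IsClosedImmersion.lift_fac _ _ _⟩

/-- the inclusion of the scheme theoretic image is an iso if the morphism is dominant -/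
theorem isIso_imageι_of_dominant {P W₀ : Scheme.{u}} (j : W₀ ⟶ P) [IsSchemeTheoreticallyDominant j] :
    IsIso j.imageι := by
  rw [IsClosedImmersion.isIso_iff_ker_eq_bot, Scheme.Hom.imageι,
    Scheme.IdealSheafData.ker_subschemeι, Scheme.Hom.ker_eq_bot]

/-- a morphism through the interiors -/
theorem exists_restrict_interior {W : Scheme.{u}} (c₀ : W ⟶ X) (D : W.Opens) (U : X.Opens)
    (h : D ≤ c₀ ⁻¹ᵁ U) : ∃ c₁ : (D : Scheme.{u}) ⟶ U, c₁ ≫ U.ι = D.ι ≫ c₀ := by
  have hrange : Set.range (D.ι ≫ c₀) ⊆ Set.range U.ι := by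
    rintro _ ⟨v, rfl⟩
    rw [Scheme.Opens.range_ι]
    exact h v.2
  exact ⟨IsOpenImmersion.lift U.ι (D.ι ≫ c₀) hrange, IsOpenImmersion.lift_fac _ _ _⟩

end Groth.Agent.H94.ModPairLib
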