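import Mathlib
import Groth.Agent.H69.DirColim
import Groth.Agent.H15.NilPair.Base
import Groth.Agent.H15.NilPair.Defs
import Groth.Agent.H15.NilPair.Sys
import Groth.Agent.H15.NilPair.Lemmas

/-! (DIR) for helper15's S18016 squad: the index poset of valid raw indices is directed and
nonempty. -/

set_option autoImplicit false
universe u
open CategoryTheory MvPolynomial Limits
open Groth.Agent.H69 Groth.Agent.H15.NilPair
open scoped Classical

namespace Groth.Agent.H94.NilPair_DIR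

variable {R B D D' P : Type u} [CommRing R] [CommRing B] [CommRing D] [CommRing D'] [CommRing P]
  [Algebra R B] [Algebra R D] [Algebra R D'] [Algebra R P]
variable {f : B →ₐ[R] D} {i : D' →ₐ[R] D} {q₁ : P →ₐ[R] B} {q₂ : P →ₐ[R] D'}

/-- componentwise union of raw indices. -/
noncomputable def rsup (a b : Raw R P D') : Raw R P D' :=
  ⟨a.Z ∪ b.Z, a.S ∪ b.S, a.TB ∪ b.TB, a.T' ∪ b.T', a.N ∪ b.N⟩

theorem le_rsup_left (a b : Raw R P D') : a ≤ rsup a b :=
  ⟨Finset.subset_union_left, Finset.subset_union_left, Finset.subset_union_left,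
    Finset.subset_union_left, Finset.subset_union_left⟩

theorem le_rsup_right (a b : Raw R P D') : b ≤ rsup a b :=
  ⟨Finset.subset_union_right, Finset.subset_union_right, Finset.subset_union_right,
    Finset.subset_union_right, Finset.subset_union_right⟩

/-- the contribution of a valid index `a ≤ c` to the validity clauses of `c`. -/
theorem side {a c : Raw R P D'} (h : a ≤ c) (va : Valid f i q₁ q₂ a) :
    (∀ t ∈ a.TB, t ∈ PS R c.WB ∧ evB q₁ D' t = 0 ∧ evD i q₂ t = 0) ∧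
    (∀ t ∈ a.T', t ∈ PS R c.WD ∧ evD' q₂ t = 0) ∧
    (∀ t ∈ a.N, t ∈ PS R c.WD ∧ evD i q₂ t = 0) ∧
    (∀ x : PS R c.WD, (x : MvPolynomial (P ⊕ D') R) ∈ a.TB ∪ a.N →
      IsNilpotent (mkq c.WD c.T' x)) ∧
    (Function.Surjective f → (∀ x ∈ RingHom.ker f.toRingHom, IsNilpotent x) →
      ∀ x : PS R c.WB, (x : MvPolynomial (P ⊕ D') R) ∈ a.T' ∪ a.N →
        IsNilpotent (mkq c.WB c.TB x)) ∧
    (f.toRingHom.IsIntegral → ∀ s (hs : s ∈ a.S), c.phi.toRingHom.IsIntegralElem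
      (mkq c.WD c.TD ⟨X (Sum.inr s), X_mem_PS (Finset.inr_mem_disjSum.mpr (h.2.1 hs))⟩)) := by
  obtain ⟨v1, v2, v3, v4, v5, v6, v7⟩ := va
  refine ⟨?_, ?_, ?_, ?_, ?_, ?_⟩
  · intro t ht
    exact ⟨PS_mono (Raw.WB_mono h) (v1 t ht).1, (v1 t ht).2⟩
  · intro t ht
    exact ⟨PS_mono (Raw.WD_mono h) (v2 t ht).1, (v2 t ht).2⟩
  · intro t ht
    exact ⟨PS_mono (Raw.WD_mono h) (v3 t ht).1, (v3 t ht).2⟩
  · rintro ⟨q, hq⟩ hmem
    have hqa : q ∈ PS R a.WD := by
      rcases Finset.mem_union.mp hmem with h1 | h1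
      · exact PS_mono Raw.WB_sub_WD (v1 q h1).1
      · exact (v3 q h1).1
    exact nil_transfer_D' h q hqa (v4 ⟨q, hqa⟩ hmem)
  · rintro hsurj hnil ⟨q, hq⟩ hmem
    have hqa : q ∈ PS R a.WD := by
      rcases Finset.mem_union.mp hmem with h1 | h1
      · exact (v2 q h1).1
      · exact (v3 q h1).1
    have hW : a.WD = a.WB := by
      unfold Raw.WD Raw.WB
      rw [v5 hsurj]
    have hqa' : q ∈ PS R a.WB := hW ▸ hqa
    exact nil_transfer_B h q hqa' (v6 hsurj hnil ⟨q, hqa'⟩ hmem)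
  · intro hint s hs
    exact int_transfer h (X (Sum.inr s)) (X_mem_PS (Finset.inr_mem_disjSum.mpr hs))
      (v7 hint s hs)

/-- the componentwise union of two valid indices is valid. -/
theorem valid_rsup {a b : Raw R P D'} (va : Valid f i q₁ q₂ a) (vb : Valid f i q₁ q₂ b) :
    Valid f i q₁ q₂ (rsup a b) := by
  obtain ⟨a1, a2, a3, a4, a6, a7⟩ := side (le_rsup_left a b) va
  obtain ⟨b1, b2, b3, b4, b6, b7⟩ := side (le_rsup_right a b) vb
  refine ⟨?_, ?_, ?_, ?_, ?_, ?_, ?_⟩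
  · intro t ht
    rcases Finset.mem_union.mp ht with h1 | h1
    · exact a1 t h1
    · exact b1 t h1
  · intro t ht
    rcases Finset.mem_union.mp ht with h1 | h1
    · exact a2 t h1
    · exact b2 t h1
  · intro t ht
    rcases Finset.mem_union.mp ht with h1 | h1
    · exact a3 t h1
    · exact b3 t h1
  · intro x hx
    have hx' : (x : MvPolynomial (P ⊕ D') R) ∈ a.TB ∪ a.N ∨
        (x : MvPolynomial (P ⊕ D') R) ∈ b.TB ∪ b.N := by
      have : (x : MvPolynomial (P ⊕ D') R) ∈ (a.TB ∪ b.TB) ∪ (a.N ∪ b.N) := hx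
      simp only [Finset.mem_union] at this ⊢
      tauto
    rcases hx' with h1 | h1
    · exact a4 x h1
    · exact b4 x h1
  · intro hsurj
    show a.S ∪ b.S = ∅
    rw [va.2.2.2.2.1 hsurj, vb.2.2.2.2.1 hsurj, Finset.union_empty]
  · intro hsurj hnil x hx
    have hx' : (x : MvPolynomial (P ⊕ D') R) ∈ a.T' ∪ a.N ∨
        (x : MvPolynomial (P ⊕ D') R) ∈ b.T' ∪ b.N := by
      have : (x : MvPolynomial (P ⊕ D') R) ∈ (a.T' ∪ b.T') ∪ (a.N ∪ b.N) := hx
      simp only [Finset.mem_union] at this ⊢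
      tauto
    rcases hx' with h1 | h1
    · exact a6 hsurj hnil x h1
    · exact b6 hsurj hnil x h1
  · intro hint s hs
    have hs' : s ∈ a.S ∪ b.S := hs
    rcases Finset.mem_union.mp hs' with h1 | h1
    · exact a7 hint s h1
    · exact b7 hint s h1

/-- (DIR) -/
theorem directed_nonempty (f : B →ₐ[R] D) (i : D' →ₐ[R] D) (q₁ : P →ₐ[R] B) (q₂ : P →ₐ[R] D') :
    IsDirected (J f i q₁ q₂) (· ≤ ·) ∧ Nonempty (J f i q₁ q₂) := by
  refine ⟨⟨fun a b => ⟨⟨rsup a.1 b.1, valid_rsup a.2 b.2⟩, ?_, ?_⟩⟩, ?_⟩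
  · exact le_rsup_left a.1 b.1
  · exact le_rsup_right a.1 b.1
  · exact ⟨⟨⟨∅, ∅, ∅, ∅, ∅⟩, valid_basic ∅ ∅ (fun _ => rfl) (fun _ => rfl)⟩⟩

end Groth.Agent.H94.NilPair_DIR
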