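import Groth.Prelude.Def_W4bk4bump814p2PDiff
import Mathlib.FieldTheory.Perfect
import Mathlib.Algebra.CharP.Lemmas
import Mathlib.Data.Nat.Multiplicity
import Mathlib.Tactic

/-!
# The filtration `Σ^i` of Kähler differentials by `p^i`-th power differentials

Helper library for S12623–S12626: for a perfect field `K` of characteristic `p` and a `K`-algebra `A`,
`sigma K A p i` is the additive subgroup `G K A p i` generated by the `δ_j(x) = x^(p^j-1) dx`, `j < i`;
it is a `K`-submodule, stable under multiplication by `p^i`-th powers, and contains the additivity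
defect of `δ_i`.
-/

set_option autoImplicit false
universe u v

open W4bk4bump814p2

namespace Groth.Agent.H94.PDiff

variable (K : Type u) (A : Type v) [Field K] [CommRing A] [Algebra K A] (p : ℕ)

/-- The additive subgroup generated by the `δ_j(x)`, `j < i`. -/
noncomputable def G (i : ℕ) : AddSubgroup (Ω[A⁄K]) :=
  AddSubgroup.closure (⋃ j ∈ Finset.range i, Set.range (delta K A p j))

lemma delta_mem_G {i j : ℕ} (hj : j < i) (y : A) : delta K A p j y ∈ G K A p i := by
  apply AddSubgroup.subset_closure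
  exact Set.mem_iUnion₂.2 ⟨j, Finset.mem_range.2 hj, y, rfl⟩

lemma G_mono {i j : ℕ} (hij : i ≤ j) : G K A p i ≤ G K A p j := by
  apply AddSubgroup.closure_mono
  intro ω hω
  obtain ⟨k, hk, hω'⟩ := Set.mem_iUnion₂.1 hω
  exact Set.mem_iUnion₂.2 ⟨k, Finset.mem_range.2 (lt_of_lt_of_le (Finset.mem_range.1 hk) hij), hω'⟩

lemma delta_zero_arg (i : ℕ) : delta K A p i (0 : A) = 0 := by
  unfold delta
  rw [map_zero, smul_zero]

variable [Fact p.Prime] [CharP K p]

lemma natCast_p (K : Type u) (A : Type v) [Field K] [CommRing A] [Algebra K A] (p : ℕ)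
    [CharP K p] : ((p : ℕ) : A) = 0 := by
  have h : ((p : ℕ) : K) = 0 := CharP.cast_eq_zero K p
  have h2 : ((p : ℕ) : A) = algebraMap K A ((p : ℕ) : K) := (map_natCast (algebraMap K A) p).symm
  rw [h2, h, map_zero]

omit [Fact (Nat.Prime p)] in
lemma D_pow_p (w : A) : KaehlerDifferential.D K A (w ^ p) = 0 := by
  rw [Derivation.leibniz_pow, ← Nat.cast_smul_eq_nsmul A, natCast_p K A p, zero_smul]

lemma delta_mul_pow (j : ℕ) (w y : A) :
    delta K A p j (w ^ p * y) = (w ^ p) ^ (p ^ j) • delta K A p j y := by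
  unfold delta
  rw [Derivation.leibniz, D_pow_p K A p w, smul_zero, add_zero, smul_smul, smul_smul]
  congr 1
  have h1 : 1 ≤ p ^ j := Nat.one_le_pow _ _ (Fact.out : p.Prime).pos
  obtain ⟨c, hc⟩ : ∃ c, p ^ j = c + 1 := ⟨p ^ j - 1, by omega⟩
  rw [hc, Nat.add_sub_cancel]
  ring

lemma pow_smul_mem (i : ℕ) (x : A) {ω : Ω[A⁄K]} (hω : ω ∈ G K A p i) :
    (x ^ (p ^ i)) • ω ∈ G K A p i := by
  refine AddSubgroup.closure_induction (p := fun ω _ => (x ^ (p ^ i)) • ω ∈ G K A p i)
    ?_ ?_ ?_ ?_ hω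
  · intro ω h
    obtain ⟨j, hj, y, rfl⟩ := Set.mem_iUnion₂.1 h
    have hji : j < i := Finset.mem_range.1 hj
    obtain ⟨e, he⟩ : ∃ e, i = j + e + 1 := ⟨i - j - 1, by omega⟩
    have hexp : p ^ i = p ^ e * p * p ^ j := by rw [he]; ring
    have hx : x ^ (p ^ i) = ((x ^ (p ^ e)) ^ p) ^ (p ^ j) := by
      rw [hexp, pow_mul, pow_mul]
    rw [hx, ← delta_mul_pow]
    exact delta_mem_G K A p hji _
  · rw [smul_zero]
    exact zero_mem _
  · intro a b _ _ ha hb
    rw [smul_add]
    exact add_mem ha hb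
  · intro a _ ha
    rw [smul_neg]
    exact neg_mem ha

lemma K_smul_mem [PerfectField K] (i : ℕ) (c : K) {ω : Ω[A⁄K]} (hω : ω ∈ G K A p i) :
    c • ω ∈ G K A p i := by
  have : ExpChar K p := ExpChar.prime (Fact.out)
  obtain ⟨b, hb⟩ := (iterateFrobeniusEquiv K p i).surjective c
  rw [iterateFrobeniusEquiv_def] at hb
  rw [← hb, ← algebraMap_smul A (b ^ p ^ i) ω, map_pow]
  exact pow_smul_mem K A p i _ hω

lemma choose_cast (A : Type v) [CommRing A] (p : ℕ) [Fact p.Prime] (hpA : ((p : ℕ) : A) = 0)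
    (i m : ℕ) (hm : m < p ^ i) :
    (((p ^ i - 1).choose m : ℕ) : A) = (-1) ^ m := by
  have hp : p.Prime := Fact.out
  have hq : 1 ≤ p ^ i := Nat.one_le_pow _ _ hp.pos
  induction m with
  | zero => simp
  | succ m ih =>
    have ih' := ih (by omega)
    have hdvd : p ∣ (p ^ i).choose (m + 1) := hp.dvd_choose_pow (by omega) (by omega)
    have h0 : (((p ^ i).choose (m + 1) : ℕ) : A) = 0 := by
      obtain ⟨r, hr⟩ := hdvd
      rw [hr, Nat.cast_mul, hpA, zero_mul]
    have hpascal : (p ^ i).choose (m + 1) =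
        (p ^ i - 1).choose m + (p ^ i - 1).choose (m + 1) := by
      have h1 : p ^ i = (p ^ i - 1) + 1 := by omega
      conv_lhs => rw [h1]
      exact Nat.choose_succ_succ _ _
    rw [hpascal, Nat.cast_add, ih'] at h0
    rw [pow_succ]
    linear_combination h0

lemma neg_one_pow_pred (A : Type v) [CommRing A] (p : ℕ) [Fact p.Prime]
    (hpA : ((p : ℕ) : A) = 0) (i : ℕ) : ((-1 : A)) ^ (p ^ i - 1) = 1 := by
  have hp : p.Prime := Fact.out
  have hq : 1 ≤ p ^ i := Nat.one_le_pow _ _ hp.pos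
  have h := choose_cast A p hpA i (p ^ i - 1) (by omega)
  rw [Nat.choose_self, Nat.cast_one] at h
  exact h.symm

lemma delta_neg (i : ℕ) (x : A) : delta K A p i (-x) = - delta K A p i x := by
  unfold delta
  rw [map_neg, smul_neg, neg_pow, neg_one_pow_pred A p (natCast_p K A p) i, one_mul]

lemma lemmaB (x y : A) (c a b : ℕ) (h : ((a + 1 : ℕ) : A) + ((b + 1 : ℕ) : A) = 0) :
    ((a + 1 : ℕ) : A) • ((x ^ (c * (a + 1) + a) * y ^ ((c + 1) * (b + 1))) • KaehlerDifferential.D K A x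
      - (x ^ ((c + 1) * (a + 1)) * y ^ (c * (b + 1) + b)) • KaehlerDifferential.D K A y)
    = (x ^ (a + 1) * y ^ (b + 1)) ^ c • KaehlerDifferential.D K A (x ^ (a + 1) * y ^ (b + 1)) := by
  have hx' : KaehlerDifferential.D K A (x ^ (a + 1)) =
      ((a + 1 : ℕ) : A) • x ^ a • KaehlerDifferential.D K A x := by
    rw [Derivation.leibniz_pow, Nat.add_sub_cancel, Nat.cast_smul_eq_nsmul]
  have hy' : KaehlerDifferential.D K A (y ^ (b + 1)) =
      ((b + 1 : ℕ) : A) • y ^ b • KaehlerDifferential.D K A y := by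
    rw [Derivation.leibniz_pow, Nat.add_sub_cancel, Nat.cast_smul_eq_nsmul]
  have hb' : ((b + 1 : ℕ) : A) = -((a + 1 : ℕ) : A) := eq_neg_of_add_eq_zero_right h
  rw [Derivation.leibniz, hx', hy', hb']
  module

lemma T_mem [PerfectField K] (i m : ℕ) (hm : m + 1 < p ^ i) (x y : A) :
    (x ^ m * y ^ (p ^ i - 1 - m)) • KaehlerDifferential.D K A x
      - (x ^ (m + 1) * y ^ (p ^ i - 1 - (m + 1))) • KaehlerDifferential.D K A y ∈ G K A p i := by
  have hp : p.Prime := Fact.out
  obtain ⟨j, s', hs', hs⟩ := Nat.exists_eq_pow_mul_and_not_dvd (n := m + 1) (by omega) p hp.ne_one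
  have hs'pos : 1 ≤ s' := by
    rcases Nat.eq_zero_or_pos s' with h0 | h0
    · rw [h0, mul_zero] at hs; omega
    · exact h0
  have hpj : 1 ≤ p ^ j := Nat.one_le_pow _ _ hp.pos
  have hji : j < i := by
    have h1 : p ^ j ≤ m + 1 := by
      rw [hs]; exact Nat.le_mul_of_pos_right _ hs'pos
    exact (Nat.pow_lt_pow_iff_right hp.one_lt).1 (lt_of_le_of_lt h1 hm)
  obtain ⟨k, hk⟩ : ∃ k, i = j + (k + 1) := ⟨i - j - 1, by omega⟩
  have hpi : p ^ i = p ^ j * p ^ (k + 1) := by rw [hk, pow_add]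
  have hs'lt : s' < p ^ (k + 1) := by
    have h1 : p ^ j * s' < p ^ j * p ^ (k + 1) := by rw [← hs, ← hpi]; exact hm
    exact Nat.lt_of_mul_lt_mul_left h1
  obtain ⟨a, ha⟩ : ∃ a, s' = a + 1 := ⟨s' - 1, by omega⟩
  obtain ⟨b, hb⟩ : ∃ b, p ^ (k + 1) = (a + 1) + (b + 1) := ⟨p ^ (k + 1) - s' - 1, by omega⟩
  obtain ⟨c, hc⟩ : ∃ c, p ^ j = c + 1 := ⟨p ^ j - 1, by omega⟩
  subst ha
  have hab : ((a + 1 : ℕ) : A) + ((b + 1 : ℕ) : A) = 0 := by
    rw [← Nat.cast_add, ← hb, Nat.cast_pow, natCast_p K A p, zero_pow (Nat.succ_ne_zero k)]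
  have hB := lemmaB K A x y c a b hab
  -- the right-hand side of `hB` is `δ_j (x^(a+1) y^(b+1))`
  have hmem : ((a + 1 : ℕ) : A) • ((x ^ (c * (a + 1) + a) * y ^ ((c + 1) * (b + 1))) •
      KaehlerDifferential.D K A x
      - (x ^ ((c + 1) * (a + 1)) * y ^ (c * (b + 1) + b)) • KaehlerDifferential.D K A y)
      ∈ G K A p i := by
    rw [hB]
    have hd := delta_mem_G K A p hji (x ^ (a + 1) * y ^ (b + 1))
    unfold delta at hd
    rw [hc, Nat.add_sub_cancel] at hd
    exact hd
  have hne : ((a + 1 : ℕ) : K) ≠ 0 := by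
    intro h0
    exact hs' ((CharP.cast_eq_zero_iff K p (a + 1)).1 h0)
  have hT : (x ^ (c * (a + 1) + a) * y ^ ((c + 1) * (b + 1))) • KaehlerDifferential.D K A x
      - (x ^ ((c + 1) * (a + 1)) * y ^ (c * (b + 1) + b)) • KaehlerDifferential.D K A y
      ∈ G K A p i := by
    rw [Nat.cast_smul_eq_nsmul A, ← Nat.cast_smul_eq_nsmul K] at hmem
    have h2 := K_smul_mem K A p i (((a + 1 : ℕ) : K))⁻¹ hmem
    rwa [inv_smul_smul₀ hne] at h2
  -- exponent bookkeeping
  have hP : (c + 1) * (a + 1) = c * (a + 1) + (a + 1) := Nat.succ_mul c (a + 1)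
  have hQ : (c + 1) * (b + 1) = c * (b + 1) + (b + 1) := Nat.succ_mul c (b + 1)
  have hm1 : m + 1 = (c + 1) * (a + 1) := by rw [hs, hc]
  have hq : p ^ i = (c + 1) * (a + 1) + (c + 1) * (b + 1) := by
    rw [hpi, hb, hc, Nat.mul_add]
  have e1 : m = c * (a + 1) + a := by omega
  have e2 : p ^ i - 1 - m = (c + 1) * (b + 1) := by omega
  have e4 : p ^ i - 1 - (m + 1) = c * (b + 1) + b := by omega
  rw [e4, e2, hm1, e1]
  exact hT

lemma defect_mem [PerfectField K] (i : ℕ) (x y : A) :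
    delta K A p i (x + y) - delta K A p i x - delta K A p i y ∈ G K A p i := by
  have hp : p.Prime := Fact.out
  have hq : 1 ≤ p ^ i := Nat.one_le_pow _ _ hp.pos
  obtain ⟨n, hn⟩ : ∃ n, p ^ i - 1 = n := ⟨_, rfl⟩
  have hsum : (x + y) ^ (p ^ i - 1) =
      ∑ m ∈ Finset.range (n + 1), (-1) ^ m * (x ^ m * y ^ (p ^ i - 1 - m)) := by
    rw [add_pow, hn]
    apply Finset.sum_congr rfl
    intro m hm
    have hm' : m < p ^ i := by have := Finset.mem_range.1 hm; omega
    rw [← hn, choose_cast A p (natCast_p K A p) i m hm']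
    ring
  have hterm : ∀ m : ℕ, ((-1 : A) ^ m * (x ^ m * y ^ (p ^ i - 1 - m))) • KaehlerDifferential.D K A x
      + ((-1 : A) ^ (m + 1) * (x ^ (m + 1) * y ^ (p ^ i - 1 - (m + 1)))) • KaehlerDifferential.D K A y
      = (-1 : A) ^ m • ((x ^ m * y ^ (p ^ i - 1 - m)) • KaehlerDifferential.D K A x
        - (x ^ (m + 1) * y ^ (p ^ i - 1 - (m + 1))) • KaehlerDifferential.D K A y) := by
    intro m
    rw [pow_succ]
    module
  have key : delta K A p i (x + y) - delta K A p i x - delta K A p i y =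
      ∑ m ∈ Finset.range n, (-1 : A) ^ m •
        ((x ^ m * y ^ (p ^ i - 1 - m)) • KaehlerDifferential.D K A x
        - (x ^ (m + 1) * y ^ (p ^ i - 1 - (m + 1))) • KaehlerDifferential.D K A y) := by
    unfold delta
    rw [hsum, map_add, Finset.sum_smul]
    simp_rw [smul_add]
    rw [Finset.sum_add_distrib, Finset.sum_range_succ, Finset.sum_range_succ']
    have hlast : ((-1 : A) ^ n * (x ^ n * y ^ (p ^ i - 1 - n))) • KaehlerDifferential.D K A x
        = x ^ (p ^ i - 1) • KaehlerDifferential.D K A x := by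
      rw [hn, Nat.sub_self, pow_zero, mul_one, ← hn, neg_one_pow_pred A p (natCast_p K A p) i, one_mul]
    have hfirst : ((-1 : A) ^ 0 * (x ^ 0 * y ^ (p ^ i - 1 - 0))) • KaehlerDifferential.D K A y
        = y ^ (p ^ i - 1) • KaehlerDifferential.D K A y := by
      rw [pow_zero, pow_zero, one_mul, one_mul, Nat.sub_zero]
    rw [hlast, hfirst]
    simp_rw [← hterm]
    rw [Finset.sum_add_distrib]
    abel
  rw [key]
  apply sum_mem
  intro m hm
  have hm' : m + 1 < p ^ i := by have := Finset.mem_range.1 hm; omega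
  have hT := T_mem K A p i m hm' x y
  rcases neg_one_pow_eq_or A m with h1 | h1
  · rw [h1, one_smul]; exact hT
  · rw [h1, neg_smul, one_smul]; exact neg_mem hT

theorem sigma_eq [PerfectField K] (i : ℕ) :
    sigma K A p i = (G K A p i : Set (Ω[A⁄K])) := by
  induction i with
  | zero =>
    have h0 : (⋃ j ∈ Finset.range 0, Set.range (delta K A p j)) = (∅ : Set (Ω[A⁄K])) := by simp
    unfold G
    rw [h0, AddSubgroup.closure_empty, AddSubgroup.coe_bot]
    rfl
  | succ i ih =>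
    ext ω
    rw [mem_sigma_succ, ih]
    constructor
    · rintro ⟨x, hx⟩
      have h1 : ω = delta K A p i x + (ω - delta K A p i x) := by abel
      rw [h1]
      exact add_mem (delta_mem_G K A p (Nat.lt_succ_self i) x) (G_mono K A p (Nat.le_succ i) hx)
    · intro hω
      refine AddSubgroup.closure_induction
        (p := fun ω _ => ∃ x : A, ω - delta K A p i x ∈ (G K A p i : Set (Ω[A⁄K])))
        ?_ ?_ ?_ ?_ hω
      · intro ω h
        obtain ⟨j, hj, y, rfl⟩ := Set.mem_iUnion₂.1 h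
        have hji : j < i + 1 := Finset.mem_range.1 hj
        rcases Nat.lt_succ_iff_lt_or_eq.1 hji with hlt | heq
        · refine ⟨0, ?_⟩
          rw [delta_zero_arg, sub_zero]
          exact delta_mem_G K A p hlt y
        · refine ⟨y, ?_⟩
          rw [heq, sub_self]
          exact zero_mem _
      · refine ⟨0, ?_⟩
        rw [delta_zero_arg, sub_zero]
        exact zero_mem _
      · rintro a b _ _ ⟨x₁, h₁⟩ ⟨x₂, h₂⟩
        refine ⟨x₁ + x₂, ?_⟩
        have h3 : a + b - delta K A p i (x₁ + x₂) =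
            (a - delta K A p i x₁) + (b - delta K A p i x₂)
              - (delta K A p i (x₁ + x₂) - delta K A p i x₁ - delta K A p i x₂) := by abel
        rw [h3]
        exact sub_mem (add_mem h₁ h₂) (defect_mem K A p i x₁ x₂)
      · rintro a _ ⟨x, hx⟩
        refine ⟨-x, ?_⟩
        have h3 : -a - delta K A p i (-x) = -(a - delta K A p i x) := by
          rw [delta_neg]; abel
        rw [h3]
        exact neg_mem hx

end Groth.Agent.H94.PDiff
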