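import Mathlib
import Groth.Agent.S18737

universe v u
namespace Groth.Agent.H94.PairCoprod
open AlgebraicGeometry CategoryTheory Limits
open AlgebraicGeometry CategoryTheory Limits

section
variable {σ : Type v} [Small.{u} σ] (X : σ → Scheme.{u}) (I : ∀ i, (X i).IdealSheafData)

/-- the disjoint union of the closed subschemes, mapping to the disjoint union. -/
noncomputable def cmap : (∐ fun i => (I i).subscheme) ⟶ ∐ X :=
  Limits.Sigma.map (fun i => (I i).subschemeι)

lemma ι_cmap (j : σ) :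
    Sigma.ι (fun i => (I i).subscheme) j ≫ cmap X I = (I j).subschemeι ≫ Sigma.ι X j := by
  simp [cmap]

lemma preimage_range (j : σ) :
    (cmap X I) ⁻¹ᵁ (Sigma.ι X j).opensRange =
      (Sigma.ι (fun i => (I i).subscheme) j).opensRange := by
  ext z
  have hz : ∃ (k : σ) (v : (I k).subscheme), Sigma.ι (fun i => (I i).subscheme) k v = z :=
    (sigmaOpenCover (fun i => (I i).subscheme)).exists_eq z
  obtain ⟨k, v, rfl⟩ := hz
  have hc : (cmap X I) (Sigma.ι (fun i => (I i).subscheme) k v) =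
      Sigma.ι X k ((I k).subschemeι v) := by
    rw [← Scheme.Hom.comp_apply, ι_cmap, Scheme.Hom.comp_apply]
  constructor
  · rintro ⟨x, hx⟩
    have hx' : Sigma.ι X j x = Sigma.ι X k ((I k).subschemeι v) := hx.trans hc
    have := (sigmaι_eq_iff X _ _ _ _).mp hx'
    obtain ⟨rfl, _⟩ := Sigma.mk.inj_iff.mp this
    exact ⟨v, rfl⟩
  · rintro ⟨v', hv'⟩
    have := (sigmaι_eq_iff (fun i => (I i).subscheme) _ _ _ _).mp hv'
    obtain ⟨rfl, _⟩ := Sigma.mk.inj_iff.mp this
    exact ⟨(I j).subschemeι v, hc.symm⟩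

lemma isPullback_cmap (j : σ) :
    IsPullback (I j).subschemeι (Sigma.ι (fun i => (I i).subscheme) j) (Sigma.ι X j) (cmap X I) :=
  IsOpenImmersion.isPullback _ _ _ _ (ι_cmap X I j) (preimage_range X I j)


set_option backward.isDefEq.respectTransparency.types false in
instance quasiCompact_cmap : QuasiCompact (cmap X I) := by
  refine (IsZariskiLocalAtTarget.iff_of_openCover (P := @QuasiCompact)
    (sigmaOpenCover X)).mpr fun j => ?_
  have H := (isPullback_cmap X I j).flip
  have e : H.isoPullback.inv ≫ (I j).subschemeι = pullback.snd (cmap X I) (Sigma.ι X j) :=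
    H.isoPullback_inv_snd
  show QuasiCompact (pullback.snd (cmap X I) (Sigma.ι X j))
  rw [← e]
  infer_instance

/-- The glued ideal sheaf on the disjoint union. -/
noncomputable def glueIdeal : (∐ X).IdealSheafData := (cmap X I).ker

lemma comap_glueIdeal (j : σ) : (glueIdeal X I).comap (Sigma.ι X j) = I j := by
  refine Scheme.IdealSheafData.ext (funext fun U => ?_)
  rw [Scheme.IdealSheafData.ideal_comap_of_isOpenImmersion]
  have h := Scheme.ker_ideal_of_isPullback_of_isOpenImmersion (cmap X I)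
    (I j).subschemeι (Sigma.ι (fun i => (I i).subscheme) j) (Sigma.ι X j)
    (isPullback_cmap X I j) U
  rw [Scheme.IdealSheafData.ker_subschemeι] at h
  exact h.symm


lemma le_of_comap_sigmaι_le {J K : (∐ X).IdealSheafData}
    (h : ∀ j, J.comap (Sigma.ι X j) ≤ K.comap (Sigma.ι X j)) : J ≤ K := by
  refine Scheme.IdealSheafData.le_of_iSup_eq_top
    (ι := Σ j, (X j).affineOpens)
    (fun p => ⟨Sigma.ι X p.1 ''ᵁ p.2.1, p.2.2.image_of_isOpenImmersion _⟩) ?_ ?_
  · rw [eq_top_iff]
    intro s _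
    have hs : ∃ (k : σ) (v : X k), Sigma.ι X k v = s := (sigmaOpenCover X).exists_eq s
    obtain ⟨k, v, rfl⟩ := hs
    obtain ⟨_, ⟨V, hV, rfl⟩, hvV, -⟩ :=
      (X k).isBasis_affineOpens.exists_subset_of_mem_open (a := v) (by trivial) isOpen_univ
    refine TopologicalSpace.Opens.mem_iSup.mpr ⟨⟨k, ⟨V, hV⟩⟩, ?_⟩
    exact ⟨v, hvV, rfl⟩
  · rintro ⟨j, V⟩
    have h1 := h j V
    rw [Scheme.IdealSheafData.ideal_comap_of_isOpenImmersion,
      Scheme.IdealSheafData.ideal_comap_of_isOpenImmersion] at h1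
    refine (Ideal.comap_le_comap_iff_of_surjective _ ?_ _ _).mp h1
    exact (ConcreteCategory.bijective_of_isIso (Scheme.Hom.appIso (Sigma.ι X j) V.1).inv).2

end

section
variable {σ : Type v} [Small.{u} σ] (F : Discrete σ ⥤ ModPair.Pair.{u})

noncomputable def copair : ModPair.Pair.{u} where
  total := ∐ fun i => (F.obj ⟨i⟩).total
  mod := glueIdeal _ (fun i => (F.obj ⟨i⟩).mod)
  isEffCartier := by
    apply Groth.Agent.S18737.isEffCartier_of_openImm_cover
    intro y
    have hs : ∃ (k : σ) (v : (F.obj ⟨k⟩).total),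
        Sigma.ι (fun i => (F.obj ⟨i⟩).total) k v = y :=
      (sigmaOpenCover (fun i => (F.obj ⟨i⟩).total)).exists_eq y
    obtain ⟨k, v, rfl⟩ := hs
    refine ⟨_, Sigma.ι (fun i => (F.obj ⟨i⟩).total) k, inferInstance, ⟨v, rfl⟩, ?_⟩
    rw [comap_glueIdeal]
    exact (F.obj ⟨k⟩).isEffCartier

noncomputable def cocone : Cocone F where
  pt := copair F
  ι := Discrete.natTrans fun ⟨i⟩ =>
    ⟨Sigma.ι (fun i => (F.obj ⟨i⟩).total) i,
      le_of_eq (comap_glueIdeal _ (fun i => (F.obj ⟨i⟩).mod) i).symm⟩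

noncomputable def isColimit : IsColimit (cocone F) where
  desc s := ⟨Sigma.desc (fun i => (s.ι.app ⟨i⟩).hom), by
    show glueIdeal _ (fun i => (F.obj ⟨i⟩).mod) ≤ s.pt.mod.comap _
    apply le_of_comap_sigmaι_le
    intro j
    rw [comap_glueIdeal, ← Scheme.IdealSheafData.comap_comp, Sigma.ι_desc]
    exact (s.ι.app ⟨j⟩).cond⟩
  fac s := fun ⟨j⟩ => ModPair.Pair.Hom.ext (Sigma.ι_desc _ _)
  uniq s m hm := ModPair.Pair.Hom.ext (Sigma.hom_ext _ _ fun j => by
    rw [Sigma.ι_desc]
    exact congrArg ModPair.Pair.Hom.hom (hm ⟨j⟩))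


end

end Groth.Agent.H94.PairCoprod
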