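import Mathlib
import Groth.Prelude.Def_W4bk4grassmannianPl
import Groth.Agent.H74.Laplace

/-!
# Plücker coordinates: signed coordinates vs. minors, quadrics, reconstruction of a matrix
-/

set_option autoImplicit false

namespace Groth.Agent.H94.Plucker

open W4bk4grassmannian MvPolynomial

variable {d n : ℕ}

theorem card_image_eq_iff (a : Fin d → Fin n) :
    (Finset.univ.image a).card = d ↔ Function.Injective a := by
  constructor
  · intro h
    have h1 : (Finset.univ.image a).card = (Finset.univ : Finset (Fin d)).card := by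
      rw [h, Finset.card_univ, Fintype.card_fin]
    have h2 := Finset.card_image_iff.mp h1
    intro x y hxy
    exact h2 (Finset.mem_coe.mpr (Finset.mem_univ x)) (Finset.mem_coe.mpr (Finset.mem_univ y)) hxy
  · intro h
    rw [Finset.card_image_of_injective _ h, Finset.card_univ, Fintype.card_fin]

/-- The set of rows of an index. -/
def rowSet (θ : Idx d n) : Finset (Fin n) := Finset.univ.image θ.1

theorem rowSet_card (θ : Idx d n) : (rowSet θ).card = d :=
  (card_image_eq_iff θ.1).mpr θ.2.injective

theorem eq_orderEmb (θ : Idx d n) (S : Finset (Fin n)) (hS : S.card = d) (h : rowSet θ = S) :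
    θ.1 = ⇑(S.orderEmbOfFin hS) := by
  apply Finset.orderEmbOfFin_unique hS _ θ.2
  intro x
  rw [← h]
  exact Finset.mem_image_of_mem _ (Finset.mem_univ x)

theorem rowSet_inj {θ θ' : Idx d n} (h : rowSet θ = rowSet θ') : θ = θ' := by
  apply Subtype.ext
  rw [eq_orderEmb θ (rowSet θ') (rowSet_card θ') h,
    eq_orderEmb θ' (rowSet θ') (rowSet_card θ') rfl]

theorem rowSet_sortIdx (a : Fin d → Fin n) (h : (Finset.univ.image a).card = d) :
    rowSet (sortIdx d n a h) = Finset.univ.image a := by
  unfold rowSet sortIdx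
  exact Finset.image_orderEmbOfFin_univ _ h

theorem mem_rowSet {θ : Idx d n} {x : Fin n} : x ∈ rowSet θ ↔ ∃ l, θ.1 l = x := by
  unfold rowSet
  rw [Finset.mem_image]
  constructor
  · rintro ⟨l, -, hl⟩
    exact ⟨l, hl⟩
  · rintro ⟨l, hl⟩
    exact ⟨l, Finset.mem_univ _, hl⟩

section coord

variable (K : Type*) [CommRing K]

theorem coord_idx (θ : Idx d n) : coord K d n θ.1 = X θ := by
  have h : (Finset.univ.image θ.1).card = d := rowSet_card θ
  unfold coord
  rw [dif_pos h]
  have h0 : invCount d n θ.1 = 0 := by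
    unfold invCount
    rw [Finset.card_eq_zero, Finset.filter_eq_empty_iff]
    intro p _ hp
    exact absurd (θ.2 hp.1) (not_lt.mpr (le_of_lt hp.2))
  have h1 : sortIdx d n θ.1 h = θ :=
    rowSet_inj (θ := sortIdx d n θ.1 h) (θ' := θ) (rowSet_sortIdx θ.1 h)
  rw [h0, h1, pow_zero, one_mul]

theorem coord_not_inj (a : Fin d → Fin n) (h : ¬ Function.Injective a) : coord K d n a = 0 := by
  unfold coord
  rw [dif_neg (fun hc => h ((card_image_eq_iff a).mp hc))]

theorem coord_inj (a : Fin d → Fin n) (h : Function.Injective a) :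
    coord K d n a =
      (-1) ^ invCount d n a * X (sortIdx d n a ((card_image_eq_iff a).mpr h)) := by
  unfold coord
  rw [dif_pos ((card_image_eq_iff a).mpr h)]

end coord

theorem det_submatrix_sort {R : Type*} [CommRing R] (A : Matrix (Fin n) (Fin d) R)
    (a : Fin d → Fin n) (h : (Finset.univ.image a).card = d) :
    (A.submatrix a id).det =
      (-1) ^ invCount d n a * (A.submatrix (sortIdx d n a h).1 id).det := by
  have hinj : Function.Injective a := (card_image_eq_iff a).mp h
  obtain ⟨s, hs⟩ : ∃ s : Fin d → Fin n, s = (sortIdx d n a h).1 := ⟨_, rfl⟩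
  have hsmono : StrictMono s := by rw [hs]; exact (sortIdx d n a h).2
  have hsrange : ∀ l, ∃ t, s t = a l := by
    intro l
    have hmem : a l ∈ rowSet (sortIdx d n a h) := by
      rw [rowSet_sortIdx a h]
      exact Finset.mem_image_of_mem _ (Finset.mem_univ l)
    obtain ⟨t, ht⟩ := mem_rowSet.mp hmem
    exact ⟨t, by rw [hs]; exact ht⟩
  choose π hπ using hsrange
  have hπinj : Function.Injective π := by
    intro x y hxy
    apply hinj
    rw [← hπ x, ← hπ y, hxy]
  obtain ⟨σ, hσ⟩ : ∃ σ : Equiv.Perm (Fin d), ∀ l, σ l = π l :=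
    ⟨Equiv.ofBijective π ⟨hπinj, Finite.injective_iff_surjective.mp hπinj⟩, fun l => rfl⟩
  have hmat : A.submatrix a id = (A.submatrix s id).submatrix σ id := by
    apply Matrix.ext
    intro l c
    simp only [Matrix.submatrix_apply, id]
    rw [hσ l, hπ l]
  rw [hmat, Matrix.det_permute, ← hs]
  congr 1
  rw [Groth.Agent.H74.Laplace.sign_eq_neg_one_pow_card]
  have hcard : ((Equiv.Perm.finPairsLT d).filter (fun x => σ x.1 ≤ σ x.2)).card =
      invCount d n a := by
    unfold invCount
    apply Finset.card_bij (fun x _ => (x.2, x.1))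
    · intro x hx
      rw [Finset.mem_filter, Equiv.Perm.mem_finPairsLT] at hx
      rw [Finset.mem_filter]
      refine ⟨Finset.mem_univ _, hx.1, ?_⟩
      show a x.1 < a x.2
      rw [← hπ x.1, ← hπ x.2]
      apply hsmono
      rw [← hσ, ← hσ]
      exact lt_of_le_of_ne hx.2 (fun heq => (ne_of_gt hx.1) (σ.injective heq))
    · rintro ⟨x1, x2⟩ _ ⟨y1, y2⟩ _ hxy
      simp only [Prod.mk.injEq] at hxy
      obtain ⟨h1, h2⟩ := hxy
      subst h1
      subst h2
      rfl
    · intro p hp
      rw [Finset.mem_filter] at hp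
      refine ⟨⟨p.2, p.1⟩, ?_, rfl⟩
      rw [Finset.mem_filter, Equiv.Perm.mem_finPairsLT]
      refine ⟨hp.2.1, ?_⟩
      show σ p.2 ≤ σ p.1
      rw [hσ, hσ]
      apply le_of_lt
      apply hsmono.lt_iff_lt.mp
      rw [hπ, hπ]
      exact hp.2.2
  rw [hcard]
  simp

theorem eval_coord_minors {K : Type*} [CommRing K] (A : Matrix (Fin n) (Fin d) K)
    (a : Fin d → Fin n) :
    MvPolynomial.eval (fun θ : Idx d n => (A.submatrix θ.1 id).det) (coord K d n a) =
      (A.submatrix a id).det := by
  by_cases h : Function.Injective a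
  · rw [coord_inj K a h, det_submatrix_sort A a ((card_image_eq_iff a).mpr h)]
    simp only [map_mul, map_pow, map_neg, map_one, MvPolynomial.eval_X]
  · rw [coord_not_inj K a h, map_zero]
    have hex : ∃ x y, a x = a y ∧ x ≠ y := by
      by_contra hcon
      apply h
      intro x y hxy
      by_contra hne
      exact hcon ⟨x, y, hxy, hne⟩
    obtain ⟨x, y, hxy, hne⟩ := hex
    exact (Matrix.det_zero_of_row_eq hne (by
      funext j
      simp only [Matrix.submatrix_apply, hxy])).symm

theorem eval_coord_of_rowSet {K : Type*} [CommRing K] (q : Idx d n → K) (b : Fin d → Fin n)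
    (φ : Idx d n) (h : Finset.univ.image b = rowSet φ) :
    MvPolynomial.eval q (coord K d n b) = (-1) ^ invCount d n b * q φ := by
  have hcard : (Finset.univ.image b).card = d := by rw [h]; exact rowSet_card φ
  have hinj := (card_image_eq_iff b).mp hcard
  rw [coord_inj K b hinj]
  have h1 : sortIdx d n b ((card_image_eq_iff b).mpr hinj) = φ :=
    rowSet_inj (by rw [rowSet_sortIdx]; exact h)
  rw [h1]
  simp only [map_mul, map_pow, map_neg, map_one, MvPolynomial.eval_X]

theorem eval_coord_scale {K : Type*} [CommRing K] (q q' : Idx d n → K) (c : K)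
    (b : Fin d → Fin n)
    (h : ∀ φ : Idx d n, rowSet φ = Finset.univ.image b → q φ = c * q' φ) :
    MvPolynomial.eval q (coord K d n b) = c * MvPolynomial.eval q' (coord K d n b) := by
  by_cases hinj : Function.Injective b
  · have hcard := (card_image_eq_iff b).mpr hinj
    have hφ := rowSet_sortIdx b hcard
    rw [eval_coord_of_rowSet q b _ hφ.symm, eval_coord_of_rowSet q' b _ hφ.symm, h _ hφ]
    ring
  · rw [coord_not_inj K b hinj, map_zero, map_zero, mul_zero]

/-- The Plücker quadrics vanish at the minors of a matrix. -/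
theorem eval_quadric_minors {K : Type*} [CommRing K] {e : ℕ}
    (A : Matrix (Fin n) (Fin (e + 1)) K) (i' : Idx e n) (j' : Idx (e + 2) n) :
    MvPolynomial.eval (fun θ : Idx (e + 1) n => (A.submatrix θ.1 id).det) (quadric K i' j') = 0 := by
  unfold quadric
  rw [map_sum]
  simp only [map_mul, map_pow, map_neg, map_one, eval_coord_minors]
  obtain ⟨C, hC⟩ : ∃ C : Fin (e + 1) → K, ∀ x : Fin n,
      (A.submatrix (Fin.snoc i'.1 x : Fin (e + 1) → Fin n) id).det = ∑ c, A x c * C c := by
    refine ⟨fun c => (-1) ^ (e + c.val) * (A.submatrix i'.1 c.succAbove).det, ?_⟩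
    intro x
    rw [Matrix.det_succ_row _ (Fin.last e)]
    apply Finset.sum_congr rfl
    intro c _
    have h1 : (A.submatrix (Fin.snoc i'.1 x : Fin (e + 1) → Fin n) id) (Fin.last e) c = A x c := by
      simp only [Matrix.submatrix_apply, id, Fin.snoc_last]
    have h2 : (A.submatrix (Fin.snoc i'.1 x : Fin (e + 1) → Fin n) id).submatrix
        (Fin.last e).succAbove c.succAbove = A.submatrix i'.1 c.succAbove := by
      apply Matrix.ext
      intro l m
      simp only [Matrix.submatrix_apply, id, Fin.succAbove_last, Fin.snoc_castSucc]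
    rw [h1, h2]
    simp only [Fin.val_last]
    ring
  have hD : ∀ c : Fin (e + 1), ∑ h : Fin (e + 2), (-1 : K) ^ (h.val) * A (j'.1 h) c *
      (A.submatrix (j'.1 ∘ h.succAbove) id).det = 0 := by
    intro c
    obtain ⟨D, hDdef⟩ : ∃ D : Matrix (Fin (e + 2)) (Fin (e + 2)) K,
        D = Matrix.of (fun h l => Fin.cases (motive := fun _ => K) (A (j'.1 h) c)
          (fun l' => A (j'.1 h) l') l) := ⟨_, rfl⟩
    have hD0 : ∀ h, D h 0 = A (j'.1 h) c := by
      intro h
      rw [hDdef]
      simp
    have hDs : ∀ h (l : Fin (e + 1)), D h l.succ = A (j'.1 h) l := by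
      intro h l
      rw [hDdef]
      simp
    have hdet0 : D.det = 0 :=
      Matrix.det_zero_of_column_eq (Fin.succ_ne_zero c).symm (by
        intro k
        rw [hD0, hDs])
    rw [Matrix.det_succ_column_zero] at hdet0
    rw [← hdet0]
    apply Finset.sum_congr rfl
    intro h _
    rw [hD0]
    congr 2
    apply Matrix.ext
    intro l m
    simp only [Matrix.submatrix_apply, id, Function.comp]
    rw [hDs]
  have key : ∀ h : Fin (e + 2), (-1 : K) ^ (h.val + 1) *
      (A.submatrix (Fin.snoc i'.1 (j'.1 h) : Fin (e + 1) → Fin n) id).det *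
      (A.submatrix (j'.1 ∘ h.succAbove) id).det =
      ∑ c, -(C c * ((-1 : K) ^ (h.val) * A (j'.1 h) c *
        (A.submatrix (j'.1 ∘ h.succAbove) id).det)) := by
    intro h
    rw [hC, Finset.mul_sum, Finset.sum_mul]
    apply Finset.sum_congr rfl
    intro c _
    ring
  rw [Finset.sum_congr rfl (fun h _ => key h), Finset.sum_comm]
  apply Finset.sum_eq_zero
  intro c _
  rw [Finset.sum_neg_distrib, ← Finset.mul_sum, hD c, mul_zero, neg_zero]

section sets

variable {α : Type*} [DecidableEq α]

theorem image_comp_succAbove {m : ℕ} (f : Fin (m + 1) → α) (hf : Function.Injective f)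
    (h : Fin (m + 1)) :
    Finset.univ.image (f ∘ h.succAbove) = (Finset.univ.image f).erase (f h) := by
  ext z
  simp only [Finset.mem_image, Finset.mem_univ, true_and, Finset.mem_erase, Function.comp]
  constructor
  · rintro ⟨t, rfl⟩
    exact ⟨fun heq => Fin.succAbove_ne h t (hf heq), ⟨_, rfl⟩⟩
  · rintro ⟨hne, t, rfl⟩
    have hth : t ≠ h := fun heq => hne (by rw [heq])
    obtain ⟨t', ht'⟩ := Fin.exists_succAbove_eq hth
    exact ⟨t', by rw [ht']⟩

theorem image_snoc {m : ℕ} (f : Fin m → α) (y : α) :
    Finset.univ.image (Fin.snoc f y : Fin (m + 1) → α) = insert y (Finset.univ.image f) := by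
  ext z
  simp only [Finset.mem_image, Finset.mem_univ, true_and, Finset.mem_insert]
  constructor
  · rintro ⟨t, rfl⟩
    induction t using Fin.lastCases with
    | last => left; simp only [Fin.snoc_last]
    | cast t' => right; exact ⟨t', by simp only [Fin.snoc_castSucc]⟩
  · rintro (rfl | ⟨t', rfl⟩)
    · exact ⟨Fin.last m, by simp only [Fin.snoc_last]⟩
    · exact ⟨Fin.castSucc t', by simp only [Fin.snoc_castSucc]⟩

theorem image_update {m : ℕ} (f : Fin m → α) (hf : Function.Injective f) (l : Fin m) (x : α) :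
    Finset.univ.image (Function.update f l x) = insert x ((Finset.univ.image f).erase (f l)) := by
  ext z
  simp only [Finset.mem_image, Finset.mem_univ, true_and, Finset.mem_insert, Finset.mem_erase]
  constructor
  · rintro ⟨t, rfl⟩
    by_cases htl : t = l
    · left
      rw [htl, Function.update_self]
    · right
      rw [Function.update_of_ne htl]
      exact ⟨fun heq => htl (hf heq), ⟨t, rfl⟩⟩
  · rintro (rfl | ⟨hne, t, rfl⟩)
    · exact ⟨l, Function.update_self _ _ _⟩
    · have htl : t ≠ l := fun heq => hne (by rw [heq])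
      exact ⟨t, Function.update_of_ne htl _ _⟩

end sets

theorem det_update_one {R : Type*} [CommRing R] {m : ℕ} (l : Fin m) (v : Fin m → R) :
    ((1 : Matrix (Fin m) (Fin m) R).updateRow l v).det = v l := by
  rw [← Matrix.cramer_transpose_apply, Matrix.transpose_one, Matrix.cramer_one]
  rfl


theorem exists_unit_eval_coord {K : Type*} [Field K] (b : Fin d → Fin n) (φ : Idx d n)
    (h : Finset.univ.image b = rowSet φ) :
    ∃ ε : K, ε ≠ 0 ∧ ∀ q : Idx d n → K, MvPolynomial.eval q (coord K d n b) = ε * q φ :=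
  ⟨(-1) ^ invCount d n b, pow_ne_zero _ (neg_ne_zero.mpr one_ne_zero),
    fun q => eval_coord_of_rowSet q b φ h⟩

/-- A nonzero vector satisfying all Plücker quadrics is the vector of minors of a matrix. -/
theorem forward {K : Type*} [Field K] {e n : ℕ} (q : Idx (e + 1) n → K) (hq : q ≠ 0)
    (hquad : ∀ (i' : Idx e n) (j' : Idx (e + 2) n), MvPolynomial.eval q (quadric K i' j') = 0) :
    ∃ A : Matrix (Fin n) (Fin (e + 1)) K,
      ∀ θ : Idx (e + 1) n, q θ = (A.submatrix θ.1 id).det := by
  classical
  obtain ⟨θ0, hθ0⟩ : ∃ θ0, q θ0 ≠ 0 := by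
    by_contra hcon
    apply hq
    funext θ
    by_contra hne
    exact hcon ⟨θ, hne⟩
  obtain ⟨c, hc⟩ : ∃ c, c = q θ0 := ⟨_, rfl⟩
  have hc0 : c ≠ 0 := by rw [hc]; exact hθ0
  obtain ⟨A0, hA0⟩ : ∃ A0 : Matrix (Fin n) (Fin (e + 1)) K, ∀ x l, A0 x l =
      MvPolynomial.eval q (coord K (e + 1) n (Function.update θ0.1 l x)) / c :=
    ⟨Matrix.of fun x l =>
      MvPolynomial.eval q (coord K (e + 1) n (Function.update θ0.1 l x)) / c, fun x l => rfl⟩
  obtain ⟨q', hq'⟩ : ∃ q' : Idx (e + 1) n → K, q' = fun θ => (A0.submatrix θ.1 id).det :=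
    ⟨_, rfl⟩
  have hQ' : ∀ b, MvPolynomial.eval q' (coord K (e + 1) n b) = (A0.submatrix b id).det := by
    intro b
    rw [hq']
    exact eval_coord_minors A0 b
  have hAi : ∀ l' l, A0 (θ0.1 l') l = if l' = l then 1 else 0 := by
    intro l' l
    rw [hA0]
    by_cases hl : l' = l
    · subst hl
      rw [if_pos rfl, Function.update_eq_self, coord_idx, MvPolynomial.eval_X, ← hc, div_self hc0]
    · rw [if_neg hl, coord_not_inj, map_zero, zero_div]
      intro hinj
      apply hl
      apply hinj
      rw [Function.update_of_ne hl, Function.update_self]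
  have hA1 : A0.submatrix θ0.1 id = 1 := by
    apply Matrix.ext
    intro l' l
    rw [Matrix.submatrix_apply, id, hAi, Matrix.one_apply]
  have hq'θ0 : q' θ0 = 1 := by
    rw [hq']
    show (A0.submatrix θ0.1 id).det = 1
    rw [hA1, Matrix.det_one]
  have hAiii : ∀ l x, (A0.submatrix (Function.update θ0.1 l x) id).det = A0 x l := by
    intro l x
    have hm : A0.submatrix (Function.update θ0.1 l x) id =
        (1 : Matrix (Fin (e + 1)) (Fin (e + 1)) K).updateRow l (A0 x) := by
      apply Matrix.ext
      intro l' m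
      rw [Matrix.submatrix_apply, id]
      by_cases hl : l' = l
      · rw [hl, Function.update_self, Matrix.updateRow_self]
      · rw [Function.update_of_ne hl, Matrix.updateRow_ne hl, hAi, Matrix.one_apply]
    rw [hm, det_update_one]
  have hL1 : ∀ l x, MvPolynomial.eval q (coord K (e + 1) n (Function.update θ0.1 l x)) =
      c * MvPolynomial.eval q' (coord K (e + 1) n (Function.update θ0.1 l x)) := by
    intro l x
    rw [hQ', hAiii, hA0]
    field_simp
  have hS0inj : Function.Injective θ0.1 := θ0.2.injective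
  have hL1' : ∀ (φ : Idx (e + 1) n) (l : Fin (e + 1)) (x : Fin n),
      rowSet φ = Finset.univ.image (Function.update θ0.1 l x) → q φ = c * q' φ := by
    intro φ l x hφ
    have h1 := hL1 l x
    rw [eval_coord_of_rowSet q _ φ hφ.symm, eval_coord_of_rowSet q' _ φ hφ.symm] at h1
    have hu : ((-1 : K) ^ invCount (e + 1) n (Function.update θ0.1 l x)) ≠ 0 :=
      pow_ne_zero _ (neg_ne_zero.mpr one_ne_zero)
    apply mul_left_cancel₀ hu
    rw [h1]
    ring
  have hmain : ∀ k (θ : Idx (e + 1) n), (rowSet θ \ rowSet θ0).card = k → q θ = c * q' θ := by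
    intro k
    induction k with
    | zero =>
      intro θ hk
      have hsub : rowSet θ ⊆ rowSet θ0 :=
        Finset.sdiff_eq_empty_iff_subset.mp (Finset.card_eq_zero.mp hk)
      have heq : rowSet θ = rowSet θ0 :=
        Finset.eq_of_subset_of_card_le hsub (by rw [rowSet_card, rowSet_card])
      have hθ : θ = θ0 := rowSet_inj heq
      rw [hθ, hq'θ0, mul_one, hc]
    | succ k ih =>
      intro θ hk
      have hne : (rowSet θ \ rowSet θ0).Nonempty := by
        rw [← Finset.card_pos, hk]
        exact Nat.succ_pos k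
      obtain ⟨x, hx⟩ := hne
      have hx' := hx
      rw [Finset.mem_sdiff] at hx'
      obtain ⟨hxθ, hxθ0⟩ := hx'
      obtain ⟨p, hp⟩ := mem_rowSet.mp hxθ
      obtain ⟨i', hi'⟩ : ∃ i' : Idx e n, i'.1 = θ.1 ∘ p.succAbove :=
        ⟨⟨θ.1 ∘ p.succAbove, θ.2.comp (Fin.strictMono_succAbove p)⟩, rfl⟩
      have hcardJ : (insert x (rowSet θ0)).card = e + 2 := by
        rw [Finset.card_insert_of_notMem hxθ0, rowSet_card]
      obtain ⟨j', hj'⟩ : ∃ j' : Idx (e + 2) n, rowSet j' = insert x (rowSet θ0) :=
        ⟨⟨fun t => (insert x (rowSet θ0)).orderEmbOfFin hcardJ t,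
          (Finset.orderEmbOfFin _ hcardJ).strictMono⟩,
          Finset.image_orderEmbOfFin_univ _ hcardJ⟩
      have hxj : x ∈ rowSet j' := by
        rw [hj']
        exact Finset.mem_insert_self _ _
      obtain ⟨h0, hh0⟩ := mem_rowSet.mp hxj
      have E := hquad i' j'
      have E' : MvPolynomial.eval q' (quadric K i' j') = 0 := by
        rw [hq']
        exact eval_quadric_minors A0 i' j'
      unfold quadric at E E'
      rw [map_sum] at E E'
      simp only [map_mul, map_pow, map_neg, map_one] at E E'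
      rw [← Finset.add_sum_erase _ _ (Finset.mem_univ h0)] at E E'
      have himg_i' : Finset.univ.image i'.1 = (rowSet θ).erase x := by
        rw [hi', image_comp_succAbove θ.1 θ.2.injective p, hp]
        rfl
      have hterm : ∀ h ∈ Finset.univ.erase h0,
          (-1 : K) ^ (h.val + 1) *
            MvPolynomial.eval q (coord K (e + 1) n (Fin.snoc i'.1 (j'.1 h))) *
            MvPolynomial.eval q (coord K (e + 1) n (j'.1 ∘ h.succAbove)) =
          c * c * ((-1 : K) ^ (h.val + 1) *
            MvPolynomial.eval q' (coord K (e + 1) n (Fin.snoc i'.1 (j'.1 h))) *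
            MvPolynomial.eval q' (coord K (e + 1) n (j'.1 ∘ h.succAbove))) := by
        intro h hh
        have hhne : h ≠ h0 := Finset.ne_of_mem_erase hh
        have hyne : j'.1 h ≠ x := by
          rw [← hh0]
          exact fun heq => hhne (j'.2.injective heq)
        have hyS0 : j'.1 h ∈ rowSet θ0 := by
          have hmem : j'.1 h ∈ rowSet j' := mem_rowSet.mpr ⟨h, rfl⟩
          rw [hj', Finset.mem_insert] at hmem
          exact hmem.resolve_left hyne
        obtain ⟨l, hl⟩ := mem_rowSet.mp hyS0
        have h2 : MvPolynomial.eval q (coord K (e + 1) n (j'.1 ∘ h.succAbove)) =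
            c * MvPolynomial.eval q' (coord K (e + 1) n (j'.1 ∘ h.succAbove)) := by
          apply eval_coord_scale
          intro φ hφ
          apply hL1' φ l x
          rw [hφ, image_comp_succAbove j'.1 j'.2.injective h, image_update θ0.1 hS0inj l x, hl]
          show (rowSet j').erase (j'.1 h) = insert x ((rowSet θ0).erase (j'.1 h))
          rw [hj', Finset.erase_insert_of_ne hyne.symm]
        have h1 : MvPolynomial.eval q (coord K (e + 1) n (Fin.snoc i'.1 (j'.1 h))) =
            c * MvPolynomial.eval q' (coord K (e + 1) n (Fin.snoc i'.1 (j'.1 h))) := by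
          apply eval_coord_scale
          intro φ hφ
          apply ih φ
          rw [hφ, image_snoc, himg_i', Finset.insert_sdiff_of_mem _ hyS0,
            Finset.erase_sdiff_comm, Finset.card_erase_of_mem hx, hk]
          rfl
        rw [h1, h2]
        ring
      have himg1 : Finset.univ.image (Fin.snoc i'.1 (j'.1 h0) : Fin (e + 1) → Fin n) =
          rowSet θ := by
        rw [hh0, image_snoc, himg_i', Finset.insert_erase hxθ]
      have himg2 : Finset.univ.image (j'.1 ∘ h0.succAbove) = rowSet θ0 := by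
        rw [image_comp_succAbove j'.1 j'.2.injective h0, hh0]
        show (rowSet j').erase x = rowSet θ0
        rw [hj', Finset.erase_insert hxθ0]
      obtain ⟨ε, hε0, hε⟩ := exists_unit_eval_coord (K := K) _ θ himg1
      obtain ⟨ε', hε'0, hε'⟩ := exists_unit_eval_coord (K := K) _ θ0 himg2
      rw [hε q, hε' q, Finset.sum_congr rfl hterm, ← Finset.mul_sum, ← hc] at E
      rw [hε q', hε' q', hq'θ0] at E'
      have key : ((-1 : K) ^ (h0.val + 1) * ε * ε' * c) * (q θ - c * q' θ) = 0 := by
        linear_combination E - c * c * E'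
      have hne0 : ((-1 : K) ^ (h0.val + 1) * ε * ε' * c) ≠ 0 :=
        mul_ne_zero (mul_ne_zero (mul_ne_zero
          (pow_ne_zero _ (neg_ne_zero.mpr one_ne_zero)) hε0) hε'0) hc0
      exact sub_eq_zero.mp ((mul_eq_zero.mp key).resolve_left hne0)
  obtain ⟨v, hv⟩ : ∃ v : Fin (e + 1) → K, v = fun l => if l = 0 then c else 1 := ⟨_, rfl⟩
  refine ⟨Matrix.of fun x l => v l * A0 x l, ?_⟩
  intro θ
  have h1 : (Matrix.of fun x l => v l * A0 x l).submatrix θ.1 id =
      Matrix.of fun i j => v j * (A0.submatrix θ.1 id) i j := by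
    apply Matrix.ext
    intro i j
    rfl
  have h2 : ∏ i, v i = c := by
    rw [hv]
    simp
  rw [h1, Matrix.det_mul_row, h2]
  have h3 := hmain _ θ rfl
  rw [hq'] at h3
  exact h3

end Groth.Agent.H94.Plucker
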