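import Mathlib
import Groth.Prelude.Def_AlgSp4
import Groth.Prelude.Def_AlgSpDec
import Groth.Agent.S10649
import Groth.Agent.H51.Proper
import Groth.Agent.H52.ChartNbhd
import Groth.Agent.H52.ChartOpen
import Groth.Agent.H50.AtMor
import Groth.Agent.H50.OpenSub
import Groth.Agent.H50.Descent
import Groth.Agent.H52.EtLocalInst
set_option autoImplicit false
universe u
open CategoryTheory CategoryTheory.Limits AlgebraicGeometry Topology
open AlgSp
namespace Groth.Agent.H94.QfNbhd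
open Groth.Agent.H50

variable {S : Scheme.{u}}

theorem main {X Y : AlgSp.Space S} (f : X ⟶ Y) (y : AlgSp.Points Y.obj)
    (hf : AlgSp.IsProperMor f.hom)
    (hq : ∀ x : AlgSp.Points X.obj, AlgSp.Points.map f.hom x = y →
      AlgSp.HasAtMor (fun U _ h u => ∃ W : U.Opens, u ∈ W ∧ LocallyQuasiFinite (W.ι ≫ h) ∧ LocallyOfFiniteType (W.ι ≫ h)) f.hom x) :
    ∃ (V : AlgSp.Space S) (j : V ⟶ Y), AlgSp.RepWith @IsOpenImmersion j.hom ∧
      y ∈ Set.range (AlgSp.Points.map j.hom) ∧
        ∀ (P : AlgSp.Space S) (fst : P ⟶ X) (snd : P ⟶ V), IsPullback fst.hom snd.hom f.hom j.hom →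
          AlgSp.IsFiniteMor snd.hom := by
  -- the quasi-finite locus
  let Q : Set (Points X.obj) := {x | AlgSp.HasAtMor (fun U V h u => ∃ W : U.Opens, u ∈ W ∧
    (LocallyQuasiFinite (W.ι ≫ h) ∧ LocallyOfFiniteType (W.ι ≫ h))) f.hom x}
  have hQo : IsOpen Q := Groth.Agent.H52.isOpen_setOf_hasAtMor_nbhd
    (fun U V h W => LocallyQuasiFinite (W.ι ≫ h) ∧ LocallyOfFiniteType (W.ι ≫ h)) f.hom
  have hcl : IsClosedMap (Points.map f.hom) :=
    hf.2.2 Y.property (𝟙 _) (𝟙 _) f.hom (IsPullback.of_horiz_isIso ⟨by simp⟩)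
  have hCcl : IsClosed (Points.map f.hom '' Qᶜ) := hcl _ hQo.isClosed_compl
  let O : Set (Points Y.obj) := (Points.map f.hom '' Qᶜ)ᶜ
  have hO : IsOpen O := hCcl.isOpen_compl
  have hyO : y ∈ O := by
    rintro ⟨x, hxQ, hxy⟩
    exact hxQ (hq x hxy)
  refine ⟨⟨openSub Y.obj O, isAlgSpace_openSub hO Y.property⟩,
    ObjectProperty.homMk (openSubι Y.obj O), repWith_isOpenImmersion_openSubι hO, ?_, ?_⟩
  · change y ∈ Set.range (Points.map (openSubι Y.obj O))
    rw [range_map_openSubι Y.obj O]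
    exact hyO
  intro P fst snd sq
  have instO1 := AlgSp.repWith_isStableUnderBaseChange (S := S) @IsOpenImmersion
  have hprop : IsProperMor snd.hom :=
    Groth.Agent.H51.isProperMor_of_isPullback f
      (ObjectProperty.homMk (openSubι Y.obj O) : (⟨openSub Y.obj O, isAlgSpace_openSub hO Y.property⟩ : Space S) ⟶ Y)
      fst snd sq hf
  have hfsto : RepWith @IsOpenImmersion fst.hom :=
    MorphismProperty.of_isPullback sq.flip (repWith_isOpenImmersion_openSubι hO)
  have hPQ : ∀ p : Points P.obj, Points.map fst.hom p ∈ Q := by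
    intro p
    by_contra hnot
    have h1 : Points.map f.hom (Points.map fst.hom p) ∈ Points.map f.hom '' Qᶜ := ⟨_, hnot, rfl⟩
    have h2 : Points.map f.hom (Points.map fst.hom p) ∈ O := by
      rw [← Points.map_comp, sq.w, Points.map_comp]
      have : Points.map (openSubι Y.obj O) (Points.map snd.hom p) ∈
          Set.range (Points.map (openSubι Y.obj O)) := ⟨_, rfl⟩
      rwa [range_map_openSubι] at this
    exact h2 h1
  have hloc1 : LocP (@LocallyQuasiFinite ⊓ @LocallyOfFiniteType) (fst.hom ≫ f.hom) := by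
    refine locP_of_forall_hasAtMor_nbhd Groth.Agent.H52.etLocal_lqf _ (fun p => ?_)
    refine Groth.Agent.H52.hasAtMor_comp_of_isOpenImmersion ?_ fst.hom hfsto f.hom p (hPQ p)
    intro U' U V ι hι h w ⟨W, hwW, hW1, hW2⟩
    refine ⟨ι ⁻¹ᵁ W, hwW, ?_⟩
    have e : (ι ⁻¹ᵁ W).ι ≫ ι ≫ h = (ι ∣_ W) ≫ W.ι ≫ h := by
      rw [← Category.assoc, ← morphismRestrict_ι, Category.assoc]
    rw [e]
    exact ⟨inferInstance, inferInstance⟩
  have hloc2 : LocP (@LocallyQuasiFinite ⊓ @LocallyOfFiniteType) snd.hom := by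
    rw [sq.w] at hloc1
    exact locP_of_comp (P := @LocallyQuasiFinite ⊓ @LocallyOfFiniteType) (Q := ⊤)
      (P' := @LocallyQuasiFinite ⊓ @LocallyOfFiniteType) goodProp_lqf.desc
      (fun A B C k l hkl _ => by
        have h1 : LocallyQuasiFinite (k ≫ l) := hkl.1
        have h2 : LocallyOfFiniteType (k ≫ l) := hkl.2
        exact ⟨LocallyQuasiFinite.of_comp k l, locallyOfFiniteType_of_comp k l⟩)
      Y.property.atlas hloc1 (fun _ _ _ _ _ _ _ _ => trivial)
  have htfae := (Groth.Agent.S10649.result snd).out 1 0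
  exact htfae.1 ⟨hprop, hloc2⟩

end Groth.Agent.H94.QfNbhd
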