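import Mathlib
import Groth.Prelude.Def_AlgSp4
import Groth.Prelude.Def_AlgSpDec
import Groth.Agent.H94.QfNbhd
import Groth.Agent.H52.QfCodimOne2
import Groth.Agent.H52.QfTrdeg
set_option autoImplicit false
universe u
open CategoryTheory CategoryTheory.Limits AlgebraicGeometry Topology
open AlgSp
namespace Groth.Agent.H94.QfNbhd2
open Groth.Agent.H50 Groth.Agent.H52

variable {S : Scheme.{u}}

theorem hasAtMor_lqf_of_codim_le_one_of_trdeg {X Y : Sp S} (hX : IsAlgSpace X) (hY : IsAlgSpace Y)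
    (f : X ⟶ Y) (hf : LocP @LocallyOfFiniteType f) (hYn : IsLocNoethSp Y) (x : Points X)
    (hy : HasAt (fun U u => ringKrullDim ↥(U.presheaf.stalk u) ≤ 1) Y (Points.map f x))
    (H : ∀ x' : Points X, HasAt (fun U u => ringKrullDim ↥(U.presheaf.stalk u) = 0) X x' →
      Points.map f x' ⤳ Points.map f x → HasAtMor (fun _ _ h u => Dual3.resTrdeg h u = 0) f x') :
    HasAtMor (fun U _ h u => ∃ W : U.Opens, u ∈ W ∧ LocallyQuasiFinite (W.ι ≫ h) ∧
      LocallyOfFiniteType (W.ι ≫ h)) f x := by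
  obtain ⟨U, V, a, b, h, u, ha, hb, comm, rfl⟩ := exists_chart_diagram_at hX hY f x
  have hlft : LocallyOfFiniteType h.left := hf a b h ha hb comm
  have hVn : IsLocallyNoetherian V.left := isLocallyNoetherian_chart hYn b hb
  have hUn : IsLocallyNoetherian U.left := LocallyOfFiniteType.isLocallyNoetherian h.left
  have hv : ringKrullDim ↥(V.left.presheaf.stalk (h.left u)) ≤ 1 := by
    obtain ⟨V', b', v', hb', hv', hd⟩ := hy
    rw [ringKrullDim_stalk_eq_of_charts b b' hb hb' (h.left u) v'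
      (by rw [hv', Points.map_ofPt, comm, ofPt_yon_map_comp])]
    exact hd
  obtain ⟨N, huN, hN⟩ := Groth.Agent.H71.DimFun.exists_open_generic_specializes U.left u
  have ha' : RepWith @Etale ((yon S).map (Over.homMk (U := Over.mk (N.ι ≫ U.hom)) (V := U) N.ι rfl) ≫ a) :=
    repWith_etale_opens_ι_comp a ha N
  obtain ⟨ι', hι'⟩ : ∃ ι' : Over.mk (N.ι ≫ U.hom) ⟶ U, ι' = Over.homMk N.ι rfl := ⟨_, rfl⟩
  rw [← hι'] at ha'
  have hι'l : ι'.left = N.ι := by rw [hι']; rfl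
  have comm' : ((yon S).map ι' ≫ a) ≫ f = (yon S).map (ι' ≫ h) ≫ b := by
    rw [Category.assoc, comm, Functor.map_comp, Category.assoc]
  have hcl : (ι' ≫ h).left = N.ι ≫ h.left := by rw [Over.comp_left, hι'l]
  haveI hlft' : LocallyOfFiniteType (ι' ≫ h).left := by rw [hcl]; infer_instance
  have hgen : ∀ Z ∈ irreducibleComponents (↥N), ∀ η : ↥N, IsGenericPoint η Z →
      (N.ι ≫ h.left).QuasiFiniteAt η := by
    intro Z hZ η hη
    have hηgenN : ∀ ξ : ↥N, ξ ⤳ η → ξ = η := by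
      intro ξ hξ
      have hcl' : closure ({η} : Set ↥N) ∈ irreducibleComponents (↥N) := by
        rw [hη.def]; exact hZ
      have h2 : closure ({ξ} : Set ↥N) ≤ closure ({η} : Set ↥N) :=
        hcl'.2 isIrreducible_singleton.closure (specializes_iff_closure_subset.mp hξ)
      exact (hξ.antisymm (specializes_iff_closure_subset.mpr h2)).eq
    have hηgenU : ∀ ξ : ↥U.left, ξ ⤳ (N.ι η) → ξ = N.ι η := by
      intro ξ hξ
      have hξN : ξ ∈ N := hξ.mem_open N.2 η.2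
      have h3 : (⟨ξ, hξN⟩ : ↥N) ⤳ η :=
        (N.ι.isOpenEmbedding.isInducing.specializes_iff).1 hξ
      rw [← hηgenN _ h3]
      rfl
    have hspec : N.ι η ⤳ u := hN (N.ι η) η.2 hηgenU
    have hx0 : HasAt (fun U u => ringKrullDim ↥(U.presheaf.stalk u) = 0) X (Points.ofPt a (N.ι η)) :=
      ⟨U, a, N.ι η, ha, rfl, (ringKrullDim_stalk_eq_zero_iff _).2 hηgenU⟩
    have hsp : Points.map f (Points.ofPt a (N.ι η)) ⤳ Points.map f (Points.ofPt a u) :=
      (hspec.map (Points.continuous_ofPt a)).map (Points.continuous_map f)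
    have ht := H _ hx0 hsp
    have hr := Groth.Agent.H25.TrdegCharts.resTrdeg_eq_of_hasAtMor f _ 0 ht ((yon S).map ι' ≫ a) b
      (ι' ≫ h) ha' hb comm' η (by rw [ofPt_yon_map_comp, hι'l])
    rw [hcl] at hr
    exact quasiFiniteAt_of_resTrdeg_eq_zero (N.ι ≫ h.left) η hηgenN hr
  have hq0 : (N.ι ≫ h.left).QuasiFiniteAt (⟨u, huN⟩ : ↥N) :=
    Groth.Agent.S1608.result (N.ι ≫ h.left) (h.left u) hv hgen ⟨u, huN⟩ rfl
  have hq : (ι' ≫ h).left.QuasiFiniteAt (⟨u, huN⟩ : ↥N) := by rw [hcl]; exact hq0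
  have hfin := hasAtMor_lqf_of_quasiFiniteAt f ((yon S).map ι' ≫ a) b (ι' ≫ h) ha' hb comm' ⟨u, huN⟩ hq
  have hpt : Points.ofPt ((yon S).map ι' ≫ a) (⟨u, huN⟩ : ↥N) = Points.ofPt a u := by
    rw [ofPt_yon_map_comp, hι'l]; rfl
  rwa [hpt] at hfin


theorem main {X Y : AlgSp.Space S} (f : X ⟶ Y)
    (hf : AlgSp.IsProperMor f.hom) (hY : AlgSp.IsLocNoethSp Y.obj) (y : AlgSp.Points Y.obj)
    (hy : AlgSp.HasAt (fun U u => ringKrullDim ↥(U.presheaf.stalk u) ≤ 1) Y.obj y)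
    (h : ∀ x : AlgSp.Points X.obj, AlgSp.HasAt (fun U u => ringKrullDim ↥(U.presheaf.stalk u) = 0) X.obj x → AlgSp.Points.map f.hom x ⤳ y →
      AlgSp.HasAtMor (fun _ _ h u => Dual3.resTrdeg h u = 0) f.hom x) :
    ∃ (Y' : AlgSp.Space S) (j : Y' ⟶ Y), AlgSp.RepWith @IsOpenImmersion j.hom ∧
      y ∈ Set.range (AlgSp.Points.map j.hom) ∧
      ∀ (P : AlgSp.Space S) (fst : P ⟶ Y') (snd : P ⟶ X), IsPullback fst.hom snd.hom j.hom f.hom →
        AlgSp.IsFiniteMor fst.hom := by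
  obtain ⟨V, j, hj, hyV, hfin⟩ := Groth.Agent.H94.QfNbhd.main f y hf (fun x hx =>
    hasAtMor_lqf_of_codim_le_one_of_trdeg X.property Y.property f.hom hf.2.1.1 hY x
      (by rw [hx]; exact hy) (fun x' hx' hsp => h x' hx' (by rw [← hx]; exact hsp)))
  exact ⟨V, j, hj, hyV, fun P fst snd sq => hfin P snd fst sq.flip⟩

end Groth.Agent.H94.QfNbhd2
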