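import Mathlib
import Groth.Prelude.Def_AlgSp4
import Groth.Prelude.Def_AlgSpDec
import Groth.Agent.H94.QfNbhd
import Groth.Agent.H52.FibreCond
import Groth.Agent.H52.FieldCharts
import Groth.Agent.H52.FQDecent
import Groth.Agent.H52.FQMor
import Groth.Agent.H52.Points
import Groth.Agent.H52.FibProd
set_option autoImplicit false
universe u
open CategoryTheory CategoryTheory.Limits AlgebraicGeometry Topology
open AlgSp
namespace Groth.Agent.H94.QfNbhd3
open Groth.Agent.H50 Groth.Agent.H52

variable {S : Scheme.{u}}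

theorem main {X Y : AlgSp.Space S}
    (f : X ⟶ Y) (hf : AlgSp.IsProperMor f.hom) (y : AlgSp.FieldPt Y.obj)
    (Xy : AlgSp.Sp S) (fst : Xy ⟶ X.obj) (snd : Xy ⟶ (AlgSp.yon S).obj y.pt)
    (hsq : IsPullback fst snd f.hom y.toHom) (hfin : Finite (AlgSp.Points Xy)) :
    ∃ (V : AlgSp.Space S) (j : V ⟶ Y), AlgSp.RepWith @IsOpenImmersion j.hom ∧
      AlgSp.Points.mk y ∈ Set.range (AlgSp.Points.map j.hom) ∧
        ∀ (P : AlgSp.Space S) (fst' : P ⟶ X) (snd' : P ⟶ V), IsPullback fst'.hom snd'.hom f.hom j.hom →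
          AlgSp.IsFiniteMor snd'.hom := by
  have hXy : IsAlgSpace Xy :=
    isAlgSpace_of_isPullback hsq Y.property.diag X.property (IsAlgSpace.yon_obj _)
  have hsndp : IsProperMor snd :=
    Groth.Agent.H51.isProperMor_of_isPullback (X' := ⟨Xy, hXy⟩) (Y' := ⟨(yon S).obj y.pt, IsAlgSpace.yon_obj _⟩)
      f (ObjectProperty.homMk y.toHom) (ObjectProperty.homMk fst) (ObjectProperty.homMk snd) hsq hf
  have hlft : LocP @LocallyOfFiniteType snd := hsndp.2.1.1
  have hK : FieldCharts y.K Xy := FC.of_lft y.str snd hlft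
  have hqs : IsQuasiSeparatedSp Xy := by
    haveI : IsAffine y.pt.left := inferInstanceAs (IsAffine (Spec (CommRingCat.of y.K)))
    refine isQuasiSeparatedSp_of_quasiSeparated_over_affine snd ?_
    exact repWith_mono (fun _ _ g hg => by have := hg; infer_instance) hsndp.1
  have hd : IsDecent Xy := isDecent_of_isQuasiSeparatedSp hXy hqs
  haveI := hfin
  have hdisc : DiscreteTopology (Points Xy) := FC.discreteTopology_points_of_finite_of_decent hXy hK hd
  refine Groth.Agent.H94.QfNbhd.main f (Points.mk y) hf (fun x hx => ?_)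
  obtain ⟨x', hx'1, -⟩ := Groth.Agent.H52.exists_point_of_isPullback hsq x
    (Points.ofScheme y.pt (IsLocalRing.closedPoint y.K : PrimeSpectrum y.K))
    (by rw [hx, ← Points.ofPt_eq_map_ofScheme, Points.ofPt_toHom])
  rw [← hx'1]
  refine (lqfAt_baseChange_iff X.property Y.property (IsAlgSpace.yon_obj _) hXy f.hom hf.2.1.1
    y.toHom fst snd hsq x').1 ?_
  exact (lqfAt_field_iff_isOpen_singleton y.str hXy snd hlft x').2 (isOpen_discrete _)

end Groth.Agent.H94.QfNbhd3
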