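import Mathlib
import Groth.Prelude.Def_AlgSp4
import Groth.Prelude.Def_AlgSpDec
import Groth.Agent.H94.QfNbhd
import Groth.Agent.S10649
import Groth.Agent.H52.FibreCond
import Groth.Agent.H52.QfGeneric
import Groth.Agent.H52.Points
import Groth.Agent.H52.FibProd
import Groth.Agent.H51.OpenIso
set_option autoImplicit false
universe u
open CategoryTheory CategoryTheory.Limits AlgebraicGeometry Topology
open AlgSp
namespace Groth.Agent.H94.QfNbhd4
open Groth.Agent.H50 Groth.Agent.H52

variable {S : Scheme.{u}}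

theorem main {X Y : AlgSp.Space S}
    (hXi : AlgSp.IsIntegralSp X.obj) (hYi : AlgSp.IsIntegralSp Y.obj) (f : X ⟶ Y) (hp : AlgSp.IsProperMor f.hom)
    (hd : AlgSp.IsDominantMor f.hom)
    (x : AlgSp.Points X.obj) (hx : IsGenericPoint x (Set.univ : Set (AlgSp.Points X.obj)))
    (y : AlgSp.Points Y.obj) (hy : IsGenericPoint y (Set.univ : Set (AlgSp.Points Y.obj))) :
    (∃ (V : AlgSp.Space S) (j : V ⟶ Y), AlgSp.RepWith @IsOpenImmersion j.hom ∧ Nonempty (AlgSp.Points V.obj) ∧
      ∀ (P : AlgSp.Space S) (fst : P ⟶ V) (snd : P ⟶ X), IsPullback fst.hom snd.hom j.hom f.hom →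
        AlgSp.IsFiniteMor fst.hom) ↔ (∀ x' : AlgSp.Points X.obj, AlgSp.Points.map f.hom x' = y → x' = x) := by
  have hiff := hasAtMor_lqf_generic_iff X.property Y.property hXi.2.1 hYi.2.1 f.hom hp.2.1.1 hd x hx y hy
  have hT0Y : T0Space (Points Y.obj) := t0Space_of_isDecent Y.property hYi.2.1
  have hfx : Points.map f.hom x = y := by
    have h1 : IsGenericPoint (Points.map f.hom x) (closure (Points.map f.hom '' Set.univ)) :=
      hx.image (Points.continuous_map f.hom)
    rw [Set.image_univ, hd.closure_range] at h1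
    exact h1.eq hy
  constructor
  · rintro ⟨V, j, hj, ⟨v⟩, hfin⟩
    refine hiff.1 ?_
    have hopen : IsOpen (Set.range (Points.map j.hom)) :=
      Groth.Agent.H51.isOpen_range_of_repWith_isOpenImmersion V.property Y.property j.hom hj
    have hyV : y ∈ Set.range (Points.map j.hom) := by
      rw [hy.mem_open_set_iff hopen]
      exact ⟨Points.map j.hom v, trivial, ⟨v, rfl⟩⟩
    obtain ⟨v', hv'⟩ := hyV
    have sq := IsPullback.of_hasPullback j.hom f.hom
    have hPalg : IsAlgSpace (pullback j.hom f.hom) :=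
      isAlgSpace_of_isPullback sq Y.property.diag V.property X.property
    obtain ⟨p, hp1, hp2⟩ := Groth.Agent.H52.exists_point_of_isPullback sq v' x (by rw [hv', hfx])
    have hfinP : IsFiniteMor (pullback.fst j.hom f.hom) :=
      hfin ⟨pullback j.hom f.hom, hPalg⟩ (ObjectProperty.homMk (pullback.fst j.hom f.hom))
        (ObjectProperty.homMk (pullback.snd j.hom f.hom)) sq
    have htfae := (Groth.Agent.S10649.result (X := ⟨pullback j.hom f.hom, hPalg⟩) (Y := V)
      (ObjectProperty.homMk (pullback.fst j.hom f.hom))).out 0 1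
    have hlqf : LocP (@LocallyQuasiFinite ⊓ @LocallyOfFiniteType) (pullback.fst j.hom f.hom) :=
      (htfae.1 hfinP).2
    have h1 := lqfAt_of_locP hPalg V.property (pullback.fst j.hom f.hom) hlqf p
    have h2 := (lqfAt_baseChange_iff X.property Y.property V.property hPalg f.hom hp.2.1.1 j.hom
      (pullback.snd j.hom f.hom) (pullback.fst j.hom f.hom) sq.flip p).1 h1
    rwa [hp2] at h2
  · intro uniq
    have hq : ∀ x' : Points X.obj, Points.map f.hom x' = y → LqfAt f.hom x' := by
      intro x' hx'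
      rw [uniq x' hx']
      exact hiff.2 uniq
    obtain ⟨V, j, hj, ⟨v, hv⟩, hfin⟩ := Groth.Agent.H94.QfNbhd.main f y hp hq
    exact ⟨V, j, hj, ⟨v⟩, fun P fst snd sq => hfin P snd fst sq.flip⟩

end Groth.Agent.H94.QfNbhd4
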