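import Mathlib
import Groth.Prelude.Def_AlgSp4
import Groth.Prelude.Def_AlgSpDec
import Groth.Agent.H94.QfNbhd
import Groth.Agent.S9964
import Groth.Agent.S10281
import Groth.Agent.S10613
import Groth.Agent.H52.FibreCond
import Groth.Agent.H52.FieldCharts
import Groth.Agent.H52.FieldPts
import Groth.Agent.H52.FQMor
import Groth.Agent.H52.Points
import Groth.Agent.H52.FibProd
import Groth.Agent.H52.QC
import Groth.Agent.H52.LocPBC
import Groth.Agent.H52.EtLocalInst
import Groth.Agent.H50.MonoPts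
import Groth.Agent.H51.ClosedSub
set_option autoImplicit false
universe u
open CategoryTheory CategoryTheory.Limits AlgebraicGeometry Topology
open AlgSp
namespace Groth.Agent.H94.QfNbhd5
open Groth.Agent.H50 Groth.Agent.H52

variable {S : Scheme.{u}}

/-- every point of `Spec κ` maps to the point defined by `κ`. -/
theorem map_toHom_eq {B : Sp S} (κ : FieldPt B) (y : Points ((yon S).obj κ.pt)) :
    Points.map κ.toHom y = Points.mk κ := by
  haveI := subsingleton_points_spec_field κ.str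
  have e : y = Points.ofScheme κ.pt (IsLocalRing.closedPoint κ.K : PrimeSpectrum κ.K) :=
    Subsingleton.elim _ _
  rw [e, ← Points.ofPt_eq_map_ofScheme, Points.ofPt_toHom]

/-- a separated morphism locally of finite type is quasi-finite at the points over `b` when a fibre over a field point
representing `b` has finitely many points. -/
theorem lqfAt_of_finite_fibre {Z B : AlgSp.Space S} (φ : Z ⟶ B) (hφsep : IsSeparatedMor φ.hom)
    (hφlft : LocP @LocallyOfFiniteType φ.hom) (κ : FieldPt B.obj) (Zκ : Sp S) (fst : Zκ ⟶ Z.obj)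
    (snd : Zκ ⟶ (yon S).obj κ.pt) (sq : IsPullback fst snd φ.hom κ.toHom) [Finite (Points Zκ)]
    (z : Points Z.obj) (hz : Points.map φ.hom z = Points.mk κ) : LqfAt φ.hom z := by
  have hZκ : IsAlgSpace Zκ :=
    isAlgSpace_of_isPullback sq B.property.diag Z.property (IsAlgSpace.yon_obj κ.pt)
  have hsndlft : LocP @LocallyOfFiniteType snd :=
    locP_baseChange etLocal_lft Z.property B.property (IsAlgSpace.yon_obj κ.pt) sq hφlft
  have hqcΔ : RepWith @QuasiCompact (pullback.diagonal snd) :=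
    repWith_quasiCompact_diagonal_baseChange sq
      (repWith_mono (fun _ _ g (hg : IsClosedImmersion g) => (inferInstance : QuasiCompact g)) hφsep)
  have hdec : IsDecent Zκ := isDecent_of_quasiSeparated_over_scheme hZκ snd hqcΔ
  have hK : FieldCharts κ.K Zκ := FC.of_lft κ.str snd hsndlft
  haveI hdisc : DiscreteTopology (Points Zκ) := FC.discreteTopology_points_of_finite_of_decent hZκ hK hdec
  obtain ⟨zκ, hz1, -⟩ := Groth.Agent.H50.exists_point_of_isPullback sq z
    (Points.ofScheme κ.pt (IsLocalRing.closedPoint κ.K : PrimeSpectrum κ.K))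
    (by rw [hz, map_toHom_eq])
  have h1 : LqfAt snd zκ :=
    (lqfAt_field_iff_isOpen_singleton κ.str hZκ snd hsndlft zκ).2 (isOpen_discrete _)
  have h2 := (lqfAt_baseChange_iff Z.property B.property (IsAlgSpace.yon_obj κ.pt) hZκ φ.hom hφlft
    κ.toHom fst snd sq zκ).1 h1
  rwa [hz1] at h2


theorem main {X Y B : AlgSp.Space S} (h : X ⟶ Y) (f : X ⟶ B) (g : Y ⟶ B) (hc : h ≫ g = f)
    (b : AlgSp.Points B.obj) (k : AlgSp.FieldPt B.obj) (hk : AlgSp.Points.mk k = b)
    (hf : AlgSp.IsProperMor f.hom) (hg1 : AlgSp.IsSeparatedMor g.hom) (hg2 : AlgSp.LocP @LocallyOfFiniteType g.hom)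
    (h3 : (∀ (Yk : AlgSp.Sp S) (gY : Yk ⟶ Y.obj) (sY : Yk ⟶ (AlgSp.yon S).obj k.pt),
            IsPullback gY sY g.hom k.toHom →
            ∀ (Xk : AlgSp.Sp S) (gX : Xk ⟶ X.obj) (hk' : Xk ⟶ Yk), IsPullback gX hk' h.hom gY →
              (Set.range (AlgSp.Points.map hk')).Finite) ∨
          ((AlgSp.Points.map h.hom '' (AlgSp.Points.map f.hom ⁻¹' {b})).Finite ∧ AlgSp.IsDecent B.obj)) :
    ∃ (B' : AlgSp.Space S) (j : B' ⟶ B), AlgSp.RepWith @IsOpenImmersion j.hom ∧
      b ∈ Set.range (AlgSp.Points.map j.hom) ∧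
        ∀ (YB : AlgSp.Space S) (gY : YB ⟶ Y) (sY : YB ⟶ B'), IsPullback gY.hom sY.hom g.hom j.hom →
          ∀ (XB : AlgSp.Space S) (gX : XB ⟶ X) (hB : XB ⟶ YB), IsPullback gX.hom hB.hom h.hom gY.hom →
            ∃ (Z : AlgSp.Space S) (i : Z ⟶ YB) (e : XB ⟶ Z), AlgSp.RepWith @IsClosedImmersion i.hom ∧
              AlgSp.IsFiniteMor (i ≫ sY).hom ∧ e ≫ i = hB := by
  obtain ⟨Z₀, i₀, hZ₀⟩ := Groth.Agent.S9964.result h
  obtain ⟨hi₀cl, ⟨h'0, hfac0⟩, -⟩ := id hZ₀
  obtain ⟨h', hh'⟩ : ∃ h' : X ⟶ Z₀, h'.hom = h'0 := ⟨ObjectProperty.homMk h'0, rfl⟩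
  have fac : h' ≫ i₀ = h := by
    apply ObjectProperty.hom_ext
    show h'.hom ≫ i₀.hom = h.hom
    rw [hh']; exact hfac0
  have fac0 : h'.hom ≫ i₀.hom = h.hom := congrArg (fun m => m.hom) fac
  obtain ⟨hprop, hsurj⟩ := Groth.Agent.S10281.result h f g hc hf hg1 hg2 i₀ hZ₀ h' fac
  have hφ : (i₀ ≫ g).hom = i₀.hom ≫ g.hom := rfl
  have hcomm0 : h.hom ≫ g.hom = f.hom := congrArg (fun m => m.hom) hc
  haveI hi₀mono : Mono i₀.hom := Groth.Agent.H51.mono_of_closedImmersion hi₀cl
  -- finite fibre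
  have key : ∃ κ : FieldPt B.obj, Points.mk κ = b ∧ Finite (Points (pullback (i₀ ≫ g).hom κ.toHom)) := by
    rcases h3 with ha | ⟨hbfin, hdec⟩
    · refine ⟨k, hk, ?_⟩
      have sqY := IsPullback.of_hasPullback g.hom k.toHom
      have sqX := IsPullback.of_hasPullback h.hom (pullback.fst g.hom k.toHom)
      have hfinr := ha _ _ _ sqY _ _ _ sqX
      have sqZ := IsPullback.of_hasPullback (i₀ ≫ g).hom k.toHom
      -- ι : Zk ⟶ Yk
      have wι : (pullback.fst (i₀ ≫ g).hom k.toHom ≫ i₀.hom) ≫ g.hom =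
          pullback.snd (i₀ ≫ g).hom k.toHom ≫ k.toHom := by
        rw [Category.assoc, ← hφ]; exact sqZ.w
      obtain ⟨ι, hι1, hι2⟩ : ∃ ι : pullback (i₀ ≫ g).hom k.toHom ⟶ pullback g.hom k.toHom,
          ι ≫ pullback.fst g.hom k.toHom = pullback.fst (i₀ ≫ g).hom k.toHom ≫ i₀.hom ∧
          ι ≫ pullback.snd g.hom k.toHom = pullback.snd (i₀ ≫ g).hom k.toHom :=
        ⟨pullback.lift _ _ wι, pullback.lift_fst _ _ _, pullback.lift_snd _ _ _⟩
      haveI : Mono ι := by
        refine ⟨fun {T} a c hac => ?_⟩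
        apply pullback.hom_ext
        · rw [← cancel_mono i₀.hom, Category.assoc, Category.assoc, ← hι1, ← Category.assoc,
            ← Category.assoc, hac]
        · rw [← hι2, ← Category.assoc, ← Category.assoc, hac]
      have hιinj : Function.Injective (Points.map ι) := Groth.Agent.H50.injective_map_of_mono ι
      -- σ : Xk ⟶ Zk
      have wσ : (pullback.fst h.hom (pullback.fst g.hom k.toHom) ≫ h'.hom) ≫ (i₀ ≫ g).hom =
          (pullback.snd h.hom (pullback.fst g.hom k.toHom) ≫ pullback.snd g.hom k.toHom) ≫ k.toHom := by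
        rw [hφ, Category.assoc, ← Category.assoc h'.hom, fac0, ← Category.assoc, sqX.w, Category.assoc,
          sqY.w, Category.assoc]
      obtain ⟨σ, hσ1, hσ2⟩ : ∃ σ : pullback h.hom (pullback.fst g.hom k.toHom) ⟶
          pullback (i₀ ≫ g).hom k.toHom,
          σ ≫ pullback.fst (i₀ ≫ g).hom k.toHom =
            pullback.fst h.hom (pullback.fst g.hom k.toHom) ≫ h'.hom ∧
          σ ≫ pullback.snd (i₀ ≫ g).hom k.toHom =
            pullback.snd h.hom (pullback.fst g.hom k.toHom) ≫ pullback.snd g.hom k.toHom :=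
        ⟨pullback.lift _ _ wσ, pullback.lift_fst _ _ _, pullback.lift_snd _ _ _⟩
      have hσι : σ ≫ ι = pullback.snd h.hom (pullback.fst g.hom k.toHom) := by
        apply pullback.hom_ext
        · rw [Category.assoc, hι1, ← Category.assoc, hσ1, Category.assoc, fac0, sqX.w]
        · rw [Category.assoc, hι2, hσ2]
      have big : IsPullback (σ ≫ pullback.snd (i₀ ≫ g).hom k.toHom)
          (pullback.fst h.hom (pullback.fst g.hom k.toHom)) k.toHom (h'.hom ≫ (i₀ ≫ g).hom) := by
        have e1 := sqX.flip.paste_horiz sqY.flip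
        rw [hσ2, hφ, ← Category.assoc, fac0]
        exact e1
      have sqσ : IsPullback σ (pullback.fst h.hom (pullback.fst g.hom k.toHom))
          (pullback.fst (i₀ ≫ g).hom k.toHom) h'.hom :=
        IsPullback.of_right big hσ1 sqZ.flip
      have hσsurj : Function.Surjective (Points.map σ) :=
        Groth.Agent.H52.surjective_map_snd_of_isPullback sqσ.flip hsurj
      have hrange : ∀ z : Points (pullback (i₀ ≫ g).hom k.toHom), Points.map ι z ∈
          Set.range (Points.map (pullback.snd h.hom (pullback.fst g.hom k.toHom))) := by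
        intro z
        obtain ⟨x, rfl⟩ := hσsurj z
        exact ⟨x, by rw [← hσι, Points.map_comp]⟩
      haveI := hfinr.to_subtype
      exact Finite.of_injective (fun z => (⟨Points.map ι z, hrange z⟩ :
        Set.range (Points.map (pullback.snd h.hom (pullback.fst g.hom k.toHom)))))
        (fun z z' hzz => hιinj (congrArg Subtype.val hzz))
    · obtain ⟨κ, hκ, hmono, -⟩ := hdec b
      refine ⟨κ, hκ, ?_⟩
      haveI := hmono
      have sqZ := IsPullback.of_hasPullback (i₀ ≫ g).hom κ.toHom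
      haveI : Mono (pullback.fst (i₀ ≫ g).hom κ.toHom) := inferInstance
      have hinj1 : Function.Injective (Points.map (pullback.fst (i₀ ≫ g).hom κ.toHom)) :=
        Groth.Agent.H50.injective_map_of_mono _
      have hinj2 : Function.Injective (Points.map i₀.hom) := Groth.Agent.H50.injective_map_of_mono _
      have hrange : ∀ z : Points (pullback (i₀ ≫ g).hom κ.toHom),
          Points.map i₀.hom (Points.map (pullback.fst (i₀ ≫ g).hom κ.toHom) z) ∈
            Points.map h.hom '' (Points.map f.hom ⁻¹' {b}) := by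
        intro z
        obtain ⟨x, hx⟩ := hsurj (Points.map (pullback.fst (i₀ ≫ g).hom κ.toHom) z)
        refine ⟨x, ?_, ?_⟩
        · show Points.map f.hom x = b
          rw [← hcomm0, ← fac0, Points.map_comp, Points.map_comp, hx, ← Points.map_comp, ← hφ,
            ← Points.map_comp, sqZ.w, Points.map_comp, map_toHom_eq, hκ]
        · rw [← fac0, Points.map_comp, hx]
      haveI := hbfin.to_subtype
      exact Finite.of_injective (fun z => (⟨_, hrange z⟩ :
        (Points.map h.hom '' (Points.map f.hom ⁻¹' {b}) : Set (Points Y.obj))))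
        (fun z z' hzz => hinj1 (hinj2 (congrArg Subtype.val hzz)))
  obtain ⟨κ, hκ, hfinκ⟩ := key
  have hq : ∀ z : Points Z₀.obj, Points.map (i₀ ≫ g).hom z = b → LqfAt (i₀ ≫ g).hom z := by
    intro z hz
    exact lqfAt_of_finite_fibre (i₀ ≫ g) hprop.1 hprop.2.1.1 κ _ _ _
      (IsPullback.of_hasPullback (i₀ ≫ g).hom κ.toHom) z (by rw [hz, hκ])
  obtain ⟨V, j, hj, hbV, hfin⟩ := Groth.Agent.H94.QfNbhd.main (i₀ ≫ g) b hprop hq
  refine ⟨V, j, hj, hbV, ?_⟩
  intro YB gY sY sqY XB gX hB sqX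
  have sqZ := IsPullback.of_hasPullback i₀.hom gY.hom
  have hZalg : IsAlgSpace (pullback i₀.hom gY.hom) :=
    isAlgSpace_of_isPullback sqZ Y.property.diag Z₀.property YB.property
  have hicl : RepWith @IsClosedImmersion (pullback.snd i₀.hom gY.hom) :=
    Groth.Agent.H50.repWith_snd_of_isPullback sqZ hi₀cl
  have wcond : (gX.hom ≫ h'.hom) ≫ i₀.hom = hB.hom ≫ gY.hom := by
    rw [Category.assoc, fac0]; exact sqX.w
  refine ⟨⟨pullback i₀.hom gY.hom, hZalg⟩, ObjectProperty.homMk (pullback.snd i₀.hom gY.hom),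
    ObjectProperty.homMk (pullback.lift (gX.hom ≫ h'.hom) hB.hom wcond), hicl, ?_, ?_⟩
  · have e1 := (sqZ.flip.paste_horiz sqY.flip).flip
    exact hfin ⟨pullback i₀.hom gY.hom, hZalg⟩ (ObjectProperty.homMk (pullback.fst i₀.hom gY.hom))
      (ObjectProperty.homMk (pullback.snd i₀.hom gY.hom) ≫ sY) e1
  · apply ObjectProperty.hom_ext
    exact pullback.lift_snd _ _ _

end Groth.Agent.H94.QfNbhd5
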