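import Mathlib
import Groth.Prelude

/-! (LINE) for helper65's S18571 squad: two `K`-points of an open of affine space are joined by
an open of the affine line. -/

set_option autoImplicit false
universe u
open CategoryTheory CategoryTheory.Limits AlgebraicGeometry

namespace Groth.Agent.H94.RR_LINE

section alg
variable {k K : Type u} [Field k] [Field K] [Algebra k K] {n : ℕ}

/-- the line through `u` (at `0`) and `v` (at `1`). -/
noncomputable def ell (u v : Fin n → K) : MvPolynomial (Fin n) k →ₐ[k] Polynomial K :=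
  MvPolynomial.aeval (fun i => Polynomial.C (u i) + Polynomial.X * Polynomial.C (v i - u i))

theorem eval0_ell (φ : MvPolynomial (Fin n) k →+* K)
    (hφ : φ.comp (algebraMap k (MvPolynomial (Fin n) k)) = algebraMap k K) (v : Fin n → K) :
    (Polynomial.evalRingHom (0 : K)).comp
        (ell (k := k) (fun i => φ (MvPolynomial.X i)) v).toRingHom = φ := by
  apply MvPolynomial.ringHom_ext
  · intro c
    have h1 : (ell (k := k) (fun i => φ (MvPolynomial.X i)) v) (MvPolynomial.C c) =
        algebraMap k (Polynomial K) c := by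
      rw [← MvPolynomial.algebraMap_eq]
      exact AlgHom.commutes _ c
    have h2 : φ (MvPolynomial.C c) = algebraMap k K c := by
      rw [← MvPolynomial.algebraMap_eq]
      exact congrArg (fun g : k →+* K => g c) hφ
    simp only [RingHom.comp_apply, AlgHom.toRingHom_eq_coe, RingHom.coe_coe, h1, h2]
    rw [IsScalarTower.algebraMap_apply k K (Polynomial K), Polynomial.algebraMap_apply,
      Polynomial.coe_evalRingHom, Polynomial.eval_C, Algebra.algebraMap_self_apply]
  · intro i
    simp [ell]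

theorem eval1_ell (φ : MvPolynomial (Fin n) k →+* K)
    (hφ : φ.comp (algebraMap k (MvPolynomial (Fin n) k)) = algebraMap k K) (u : Fin n → K) :
    (Polynomial.evalRingHom (1 : K)).comp
        (ell (k := k) u (fun i => φ (MvPolynomial.X i))).toRingHom = φ := by
  apply MvPolynomial.ringHom_ext
  · intro c
    have h1 : (ell (k := k) u (fun i => φ (MvPolynomial.X i))) (MvPolynomial.C c) =
        algebraMap k (Polynomial K) c := by
      rw [← MvPolynomial.algebraMap_eq]
      exact AlgHom.commutes _ c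
    have h2 : φ (MvPolynomial.C c) = algebraMap k K c := by
      rw [← MvPolynomial.algebraMap_eq]
      exact congrArg (fun g : k →+* K => g c) hφ
    simp only [RingHom.comp_apply, AlgHom.toRingHom_eq_coe, RingHom.coe_coe, h1, h2]
    rw [IsScalarTower.algebraMap_apply k K (Polynomial K), Polynomial.algebraMap_apply,
      Polynomial.coe_evalRingHom, Polynomial.eval_C, Algebra.algebraMap_self_apply]
  · intro i
    simp [ell]

theorem eval_comp_algebraMap (t : K) :
    (Polynomial.evalRingHom t).comp (algebraMap K (Polynomial K)) = RingHom.id K := by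
  apply RingHom.ext
  intro c
  simp [Polynomial.algebraMap_apply]

end alg

/-- (LINE) -/
theorem exists_line {k K : Type u} [Field k] [Field K] [Algebra k K] (n : ℕ)
    (V : (Spec (CommRingCat.of (MvPolynomial (Fin n) k))).Opens)
    (α β : Spec (CommRingCat.of K) ⟶ (V : Scheme.{u}))
    (hα : α ≫ V.ι ≫ Spec.map (CommRingCat.ofHom (algebraMap k (MvPolynomial (Fin n) k))) =
      Spec.map (CommRingCat.ofHom (algebraMap k K)))
    (hβ : β ≫ V.ι ≫ Spec.map (CommRingCat.ofHom (algebraMap k (MvPolynomial (Fin n) k))) =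
      Spec.map (CommRingCat.ofHom (algebraMap k K))) :
    ∃ (W : (Spec (CommRingCat.of (Polynomial K))).Opens) (h : (W : Scheme.{u}) ⟶ (V : Scheme.{u}))
      (a b : Spec (CommRingCat.of K) ⟶ (W : Scheme.{u})),
      h ≫ V.ι ≫ Spec.map (CommRingCat.ofHom (algebraMap k (MvPolynomial (Fin n) k))) =
        W.ι ≫ Spec.map (CommRingCat.ofHom (algebraMap K (Polynomial K))) ≫
          Spec.map (CommRingCat.ofHom (algebraMap k K)) ∧
      a ≫ W.ι ≫ Spec.map (CommRingCat.ofHom (algebraMap K (Polynomial K))) = 𝟙 _ ∧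
      b ≫ W.ι ≫ Spec.map (CommRingCat.ofHom (algebraMap K (Polynomial K))) = 𝟙 _ ∧
      a ≫ h = α ∧ b ≫ h = β := by
  -- the ring maps of the two points
  obtain ⟨φA, hφA⟩ : ∃ φA : MvPolynomial (Fin n) k →+* K,
      Spec.map (CommRingCat.ofHom φA) = α ≫ V.ι :=
    ⟨(Spec.preimage (α ≫ V.ι)).hom, by
      rw [CommRingCat.ofHom_hom]; exact Spec.map_preimage _⟩
  obtain ⟨φB, hφB⟩ : ∃ φB : MvPolynomial (Fin n) k →+* K,
      Spec.map (CommRingCat.ofHom φB) = β ≫ V.ι :=
    ⟨(Spec.preimage (β ≫ V.ι)).hom, by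
      rw [CommRingCat.ofHom_hom]; exact Spec.map_preimage _⟩
  have hA : φA.comp (algebraMap k (MvPolynomial (Fin n) k)) = algebraMap k K := by
    have h1 : Spec.map (CommRingCat.ofHom (φA.comp (algebraMap k (MvPolynomial (Fin n) k)))) =
        Spec.map (CommRingCat.ofHom (algebraMap k K)) := by
      rw [CommRingCat.ofHom_comp, Spec.map_comp, hφA, Category.assoc]
      exact hα
    have h2 := Spec.map_injective h1
    exact congrArg CommRingCat.Hom.hom h2
  have hB : φB.comp (algebraMap k (MvPolynomial (Fin n) k)) = algebraMap k K := by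
    have h1 : Spec.map (CommRingCat.ofHom (φB.comp (algebraMap k (MvPolynomial (Fin n) k)))) =
        Spec.map (CommRingCat.ofHom (algebraMap k K)) := by
      rw [CommRingCat.ofHom_comp, Spec.map_comp, hφB, Category.assoc]
      exact hβ
    have h2 := Spec.map_injective h1
    exact congrArg CommRingCat.Hom.hom h2
  -- the line
  obtain ⟨ℓ, hℓ⟩ : ∃ ℓ : MvPolynomial (Fin n) k →ₐ[k] Polynomial K,
      ℓ = ell (k := k) (fun i => φA (MvPolynomial.X i)) (fun i => φB (MvPolynomial.X i)) :=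
    ⟨_, rfl⟩
  have h0 : (Polynomial.evalRingHom (0 : K)).comp ℓ.toRingHom = φA := by
    rw [hℓ]; exact eval0_ell φA hA _
  have h1 : (Polynomial.evalRingHom (1 : K)).comp ℓ.toRingHom = φB := by
    rw [hℓ]; exact eval1_ell φB hB _
  obtain ⟨L, hL⟩ : ∃ L : Spec (CommRingCat.of (Polynomial K)) ⟶
      Spec (CommRingCat.of (MvPolynomial (Fin n) k)),
      L = Spec.map (CommRingCat.ofHom ℓ.toRingHom) := ⟨_, rfl⟩
  obtain ⟨z0, hz0⟩ : ∃ z0 : Spec (CommRingCat.of K) ⟶ Spec (CommRingCat.of (Polynomial K)),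
      z0 = Spec.map (CommRingCat.ofHom (Polynomial.evalRingHom (0 : K))) := ⟨_, rfl⟩
  obtain ⟨z1, hz1⟩ : ∃ z1 : Spec (CommRingCat.of K) ⟶ Spec (CommRingCat.of (Polynomial K)),
      z1 = Spec.map (CommRingCat.ofHom (Polynomial.evalRingHom (1 : K))) := ⟨_, rfl⟩
  have hz0L : z0 ≫ L = α ≫ V.ι := by
    rw [hz0, hL, ← Spec.map_comp, ← CommRingCat.ofHom_comp, h0, hφA]
  have hz1L : z1 ≫ L = β ≫ V.ι := by
    rw [hz1, hL, ← Spec.map_comp, ← CommRingCat.ofHom_comp, h1, hφB]
  have hz0s : z0 ≫ Spec.map (CommRingCat.ofHom (algebraMap K (Polynomial K))) = 𝟙 _ := by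
    rw [hz0, ← Spec.map_comp, ← CommRingCat.ofHom_comp, eval_comp_algebraMap]
    exact Spec.map_id _
  have hz1s : z1 ≫ Spec.map (CommRingCat.ofHom (algebraMap K (Polynomial K))) = 𝟙 _ := by
    rw [hz1, ← Spec.map_comp, ← CommRingCat.ofHom_comp, eval_comp_algebraMap]
    exact Spec.map_id _
  -- the open and the restricted map
  refine ⟨L ⁻¹ᵁ V, L.resLE V (L ⁻¹ᵁ V) le_rfl, ?_⟩
  have hr0 : Set.range z0 ⊆ Set.range (L ⁻¹ᵁ V).ι := by
    rintro _ ⟨x, rfl⟩
    rw [Scheme.Opens.range_ι]
    show L (z0 x) ∈ V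
    have : L (z0 x) = (z0 ≫ L) x := rfl
    rw [this, hz0L]
    exact (α x).2
  have hr1 : Set.range z1 ⊆ Set.range (L ⁻¹ᵁ V).ι := by
    rintro _ ⟨x, rfl⟩
    rw [Scheme.Opens.range_ι]
    show L (z1 x) ∈ V
    have : L (z1 x) = (z1 ≫ L) x := rfl
    rw [this, hz1L]
    exact (β x).2
  refine ⟨IsOpenImmersion.lift (L ⁻¹ᵁ V).ι z0 hr0, IsOpenImmersion.lift (L ⁻¹ᵁ V).ι z1 hr1,
    ?_, ?_, ?_, ?_, ?_⟩
  · rw [Scheme.Hom.resLE_comp_ι_assoc, hL, ← Spec.map_comp, ← Spec.map_comp,
      ← CommRingCat.ofHom_comp, ← CommRingCat.ofHom_comp]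
    congr 3
    apply RingHom.ext
    intro c
    simp only [RingHom.comp_apply, AlgHom.toRingHom_eq_coe, RingHom.coe_coe]
    rw [AlgHom.commutes, IsScalarTower.algebraMap_apply k K (Polynomial K)]
  · rw [IsOpenImmersion.lift_fac_assoc]
    exact hz0s
  · rw [IsOpenImmersion.lift_fac_assoc]
    exact hz1s
  · rw [← cancel_mono V.ι, Category.assoc, Scheme.Hom.resLE_comp_ι, IsOpenImmersion.lift_fac_assoc,
      hz0L]
  · rw [← cancel_mono V.ι, Category.assoc, Scheme.Hom.resLE_comp_ι, IsOpenImmersion.lift_fac_assoc,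
      hz1L]

end Groth.Agent.H94.RR_LINE
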