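import Mathlib.LinearAlgebra.RootSystem.Defs
import Mathlib.LinearAlgebra.QuadraticForm.Basic
import Mathlib.LinearAlgebra.Projection
import Mathlib.Tactic

/-!
# Quadratic forms invariant under root reflections (helper94)

Elementary identities relating invariance of a quadratic form under a coroot reflection
`y ↦ y - ⟨α, y⟩ α^∨` to the values of its polar form against the coroot.
-/

namespace Groth.Agent.H94.RootQ

variable {ι R M N : Type*} [CommRing R] [AddCommGroup M] [Module R M] [AddCommGroup N] [Module R N]

theorem quad_sub_smul (Q : QuadraticMap R N R) (y a : N) (c : R) :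
    Q (y - c • a) = Q y + c * c * Q a - c * QuadraticMap.polar Q y a := by
  have h1 : y - c • a = y + (-c) • a := by rw [neg_smul, sub_eq_add_neg]
  have h2 : Q (y + (-c) • a) = Q y + Q ((-c) • a) + QuadraticMap.polar Q y ((-c) • a) := by
    simp only [QuadraticMap.polar]; ring
  rw [h1, h2, QuadraticMap.map_smul, QuadraticMap.polar_smul_right, smul_eq_mul, smul_eq_mul]
  ring

theorem quad_add (Q : QuadraticMap R N R) (y z : N) :
    Q (y + z) = Q y + Q z + QuadraticMap.polar Q y z := by
  simp only [QuadraticMap.polar]; ring

theorem polar_self' (Q : QuadraticMap R N R) (a : N) : QuadraticMap.polar Q a a = 2 * Q a := by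
  rw [QuadraticMap.polar_self]
  simp [two_mul]

theorem polar_sub_smul (Q : QuadraticMap R N R) (z d a : N) (c : R) :
    QuadraticMap.polar Q z (d - c • a) =
      QuadraticMap.polar Q z d - c * QuadraticMap.polar Q z a := by
  rw [QuadraticMap.polar_sub_right, QuadraticMap.polar_smul_right, smul_eq_mul]

/-- invariance under the reflection at `y` and at `y + α^∨` pins down the polar form at `α^∨` -/
theorem polar_coroot (P : RootPairing ι R M N) [IsDomain R] [CharZero R] (Q : QuadraticMap R N R)
    (i : ι) (y : N) (h1 : Q (P.coreflection i y) = Q y)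
    (h2 : Q (P.coreflection i (y + P.coroot i)) = Q (y + P.coroot i)) :
    QuadraticMap.polar Q y (P.coroot i) = P.root' i y * Q (P.coroot i) := by
  have hr : P.root' i (P.coroot i) = 2 := P.root_coroot_two i
  rw [P.coreflection_apply, quad_sub_smul] at h1 h2
  rw [map_add (P.root' i), hr, QuadraticMap.polar_add_left, polar_self'] at h2
  have e1 : P.root' i y * (P.root' i y * Q (P.coroot i) - QuadraticMap.polar Q y (P.coroot i)) = 0 := by
    linear_combination h1
  have e2 : (P.root' i y + 2) *
      (P.root' i y * Q (P.coroot i) - QuadraticMap.polar Q y (P.coroot i)) = 0 := by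
    linear_combination h2
  have e3 : (2 : R) * (P.root' i y * Q (P.coroot i) - QuadraticMap.polar Q y (P.coroot i)) = 0 := by
    linear_combination e2 - e1
  have e4 : P.root' i y * Q (P.coroot i) - QuadraticMap.polar Q y (P.coroot i) = 0 := by
    rcases mul_eq_zero.mp e3 with h | h
    · exact absurd h two_ne_zero
    · exact h
  linear_combination -e4

/-- conversely the polar identity gives invariance -/
theorem invariant_of_polar (P : RootPairing ι R M N) (Q : QuadraticMap R N R) (i : ι) (y : N)
    (h : QuadraticMap.polar Q y (P.coroot i) = P.root' i y * Q (P.coroot i)) :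
    Q (P.coreflection i y) = Q y := by
  rw [P.coreflection_apply, quad_sub_smul, h]
  ring

end Groth.Agent.H94.RootQ
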