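import Mathlib.LinearAlgebra.Matrix.PosDef
import Mathlib.Data.Nat.Choose.Vandermonde
import Mathlib.Data.Nat.Dist
import Mathlib.Algebra.BigOperators.Fin
import Mathlib.Data.Real.Basic
import Mathlib.Data.Real.Star
import Mathlib.Tactic.Ring
import Mathlib.Tactic.Linarith

set_option autoImplicit false

namespace Groth.Agent.H94

open Finset

/-- Vandermonde-type convolution. -/
theorem vand (n d K : ℕ) (hK : n < K) :
    ∑ a ∈ range K, n.choose (d + a) * n.choose a = (2 * n).choose (n + d) := by
  have h1 : ∑ a ∈ range K, n.choose (d + a) * n.choose a =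
      ∑ a ∈ range (n + 1), n.choose (d + a) * n.choose a := by
    symm
    apply Finset.sum_subset (Finset.range_subset_range.mpr hK)
    intro a _ ha
    rw [Finset.mem_range, not_lt] at ha
    rw [Nat.choose_eq_zero_of_lt (show n < a by omega), mul_zero]
  rw [h1, two_mul, Nat.add_choose_eq, Finset.Nat.sum_antidiagonal_eq_sum_range_succ_mk]
  have h2 : (n + d).succ = d + (n + 1) := by omega
  rw [h2]
  simp only
  rw [Finset.sum_range_add (fun x => n.choose x * n.choose (n + d - x)) d (n + 1)]
  have h3 : ∑ x ∈ range d, n.choose x * n.choose (n + d - x) = 0 := by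
    apply Finset.sum_eq_zero
    intro x hx
    rw [Finset.mem_range] at hx
    rw [Nat.choose_eq_zero_of_lt (show n < n + d - x by omega), mul_zero]
  rw [h3, zero_add]
  apply Finset.sum_congr rfl
  intro a ha
  rw [Finset.mem_range] at ha
  have h4 : n + d - (d + a) = n - a := by omega
  rw [h4, Nat.choose_symm (show a ≤ n by omega)]

/-- entries of the factor matrix -/
noncomputable def W (n i k : ℕ) : ℝ :=
  if i ≤ k then (-1 : ℝ) ^ (k - i) * (n.choose (k - i) : ℝ) else 0

theorem W_self (n i : ℕ) : W n i i = 1 := by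
  simp [W]

theorem W_of_lt (n i k : ℕ) (h : k < i) : W n i k = 0 := by
  simp [W, Nat.not_le.mpr h]

theorem gram (n i j N : ℕ) (hij : i ≤ j) (hN : j + n < N) :
    ∑ k ∈ range N, W n i k * W n j k =
      (-1 : ℝ) ^ (i + j) * ((2 * n).choose (n + (j - i)) : ℝ) := by
  have hN' : N = j + (N - j) := by omega
  rw [hN', Finset.sum_range_add]
  have h1 : ∑ k ∈ range j, W n i k * W n j k = 0 := by
    apply Finset.sum_eq_zero
    intro k hk
    rw [Finset.mem_range] at hk
    rw [W_of_lt n j k hk, mul_zero]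
  rw [h1, zero_add]
  have h2 : ∀ a ∈ range (N - j), W n i (j + a) * W n j (j + a) =
      (-1 : ℝ) ^ (i + j) * ((n.choose ((j - i) + a) * n.choose a : ℕ) : ℝ) := by
    intro a _
    have e1 : j + a - i = (j - i) + a := by omega
    have e2 : j + a - j = a := by omega
    simp only [W, if_pos (show i ≤ j + a by omega), if_pos (show j ≤ j + a by omega), e1, e2]
    have e3 : (-1 : ℝ) ^ (i + j) = (-1 : ℝ) ^ (j - i) := by
      have : i + j = (j - i) + 2 * i := by omega
      rw [this, pow_add, pow_mul]
      norm_num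
    rw [e3]
    push_cast
    rw [pow_add]
    have e4 : ((-1 : ℝ) ^ a) * ((-1 : ℝ) ^ a) = 1 := by
      rw [← pow_add, ← two_mul, pow_mul]; norm_num
    calc (-1 : ℝ) ^ (j - i) * (-1) ^ a * (n.choose (j - i + a) : ℝ) * ((-1) ^ a * (n.choose a : ℝ))
        = (-1 : ℝ) ^ (j - i) * (((-1 : ℝ) ^ a) * ((-1 : ℝ) ^ a)) *
            ((n.choose (j - i + a) : ℝ) * (n.choose a : ℝ)) := by ring
      _ = (-1 : ℝ) ^ (j - i) * ((n.choose (j - i + a) : ℝ) * (n.choose a : ℝ)) := by
          rw [e4, mul_one]
  rw [Finset.sum_congr rfl h2, ← Finset.mul_sum, ← Nat.cast_sum, vand n (j - i) (N - j) (by omega)]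

end Groth.Agent.H94
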