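import Mathlib

set_option autoImplicit false
universe u

namespace Groth.Agent.H94.ValTest

/-- A prime maximal among those avoiding powers of `s`. -/
theorem exists_prime_maximal_avoiding {V : Type u} [CommRing V] (s : V) (hs : ¬ IsNilpotent s) :
    ∃ p : Ideal V, p.IsPrime ∧ s ∉ p ∧ ∀ Q : Ideal V, Q.IsPrime → p < Q → s ∈ Q := by
  have hdisj : Disjoint ((⊥ : Ideal V) : Set V) (Submonoid.powers s : Set V) := by
    rw [Set.disjoint_left]
    rintro x hx ⟨n, rfl⟩
    exact hs ⟨n, by simpa using hx⟩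
  have ⟨p, _, hp⟩ := zorn_le_nonempty₀ {p : Ideal V | Disjoint (p : Set V) (Submonoid.powers s : Set V)}
    (fun c hc hc' x hx ↦ ?_) ⊥ hdisj
  · have hpr : p.IsPrime :=
      Ideal.isPrime_of_maximally_disjoint _ _ hp.1 (fun _ ↦ hp.not_prop_of_gt)
    refine ⟨p, hpr, ?_, ?_⟩
    · intro h
      exact Set.disjoint_left.1 hp.1 h (Submonoid.mem_powers s)
    · intro Q hQ hpQ
      have := hp.not_prop_of_gt hpQ
      rw [Set.mem_setOf_eq, Set.not_disjoint_iff] at this
      obtain ⟨y, hyQ, ⟨n, rfl⟩⟩ := this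
      exact hQ.mem_of_pow_mem n hyQ
  · cases isEmpty_or_nonempty c
    · exact ⟨⊥, hdisj, fun J hJ ↦ isEmptyElim (⟨J, hJ⟩ : c)⟩
    refine ⟨sSup c, Set.disjoint_left.mpr fun x hx ↦ ?_, fun _ ↦ le_sSup⟩
    have ⟨p, hp⟩ := (Submodule.mem_iSup_of_directed _ hc'.directed).mp (sSup_eq_iSup' c ▸ hx)
    exact Set.disjoint_left.mp (hc p.2) hp

theorem valuationRing_quotient {V : Type u} [CommRing V] [IsDomain V] [ValuationRing V]
    (p : Ideal V) [p.IsPrime] : ValuationRing (V ⧸ p) := by
  refine { cond' := ?_ }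
  intro a b
  obtain ⟨a', rfl⟩ := Ideal.Quotient.mk_surjective a
  obtain ⟨b', rfl⟩ := Ideal.Quotient.mk_surjective b
  obtain ⟨c, h | h⟩ := ValuationRing.cond a' b'
  · exact ⟨Ideal.Quotient.mk p c, Or.inl (by rw [← map_mul, h])⟩
  · exact ⟨Ideal.Quotient.mk p c, Or.inr (by rw [← map_mul, h])⟩

/-- Test valuation rings for a non-nilpotent element of a local ring. -/
theorem exists_valuationRing_test {O : Type u} [CommRing O] [IsLocalRing O] (i : O)
    (hi : ¬ IsNilpotent i) :
    ∃ (R : Type u) (_ : CommRing R) (_ : IsDomain R) (_ : ValuationRing R) (φ : O →+* R),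
      IsLocalHom φ ∧ φ i ≠ 0 ∧ ∀ P : Ideal R, P.IsPrime → (φ i ∉ P ↔ P = ⊥) := by
  -- a prime of O avoiding i
  obtain ⟨q, hq, hiq, -⟩ := exists_prime_maximal_avoiding i hi
  let K := FractionRing (O ⧸ q)
  let f : O →+* K := (algebraMap (O ⧸ q) K).comp (Ideal.Quotient.mk q)
  have hfi : f i ≠ 0 := by
    intro h
    have h1 : (Ideal.Quotient.mk q) i = 0 :=
      (IsFractionRing.injective (O ⧸ q) K) (by rw [map_zero]; exact h)
    exact hiq (Ideal.Quotient.eq_zero_iff_mem.1 h1)
  obtain ⟨A, hA, hloc⟩ := IsLocalRing.exists_factor_valuationRing f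
  let g : O →+* A := f.codRestrict A.toSubring hA
  have hgi : g i ≠ 0 := by
    intro h
    apply hfi
    have := congrArg Subtype.val h
    exact this
  have hgn : ¬ IsNilpotent (g i) := by
    rw [isNilpotent_iff_eq_zero]
    exact hgi
  obtain ⟨p, hp, hsp, hmax⟩ := exists_prime_maximal_avoiding (g i) hgn
  haveI := hp
  haveI : ValuationRing (A ⧸ p) := valuationRing_quotient p
  haveI : IsLocalHom (Ideal.Quotient.mk p) :=
    IsLocalHom.of_surjective _ Ideal.Quotient.mk_surjective
  haveI : IsLocalHom g := hloc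
  refine ⟨A ⧸ p, inferInstance, inferInstance, inferInstance,
    (Ideal.Quotient.mk p).comp g, RingHom.isLocalHom_comp _ _, ?_, ?_⟩
  · intro h
    exact hsp (Ideal.Quotient.eq_zero_iff_mem.1 h)
  · intro P hP
    constructor
    · intro hiP
      by_contra hne
      have h1 : p < P.comap (Ideal.Quotient.mk p) := by
        refine lt_of_le_of_ne ?_ ?_
        · intro z hz
          rw [Ideal.mem_comap, Ideal.Quotient.eq_zero_iff_mem.2 hz]
          exact P.zero_mem
        · intro heq
          apply hne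
          rw [eq_bot_iff]
          intro z hz
          obtain ⟨z', rfl⟩ := Ideal.Quotient.mk_surjective z
          have : z' ∈ P.comap (Ideal.Quotient.mk p) := hz
          rw [← heq] at this
          rw [Ideal.mem_bot, Ideal.Quotient.eq_zero_iff_mem]
          exact this
      have h2 := hmax _ (Ideal.IsPrime.comap _) h1
      exact hiP h2
    · rintro rfl hmem
      rw [Ideal.mem_bot] at hmem
      exact hsp (Ideal.Quotient.eq_zero_iff_mem.1 hmem)

end Groth.Agent.H94.ValTest
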