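import Mathlib
import Groth.Prelude.Def_BlowUp2
import Groth.Agent.H9.ComapIdeal
import Groth.Agent.H94.EffCartierDense
import Groth.Agent.H94.ValTest
import Groth.Prelude.Def_W4c6modpairsegaMP

set_option autoImplicit false
universe u
open CategoryTheory CategoryTheory.Limits AlgebraicGeometry TopologicalSpace

namespace Groth.Agent.H94.ValTestSch
open Groth.Agent.H94.EffCartierDense

variable {X : Scheme.{u}}

/-- The test morphism `Spec R ⟶ X` attached to `ψ : Γ(X, V) →+* R`. -/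
noncomputable def testMap (V : X.affineOpens) (R : Type u) [CommRing R] (ψ : Γ(X, V.1) →+* R) :
    Spec (CommRingCat.of R) ⟶ X :=
  Spec.map (CommRingCat.ofHom ψ) ≫ V.2.fromSpec

theorem top_le_preimage (V : X.affineOpens) (R : Type u) [CommRing R] (ψ : Γ(X, V.1) →+* R) :
    (⊤ : (Spec (CommRingCat.of R)).Opens) ≤ (testMap V R ψ) ⁻¹ᵁ V.1 := by
  intro y _
  show (testMap V R ψ) y ∈ V.1
  have h : (testMap V R ψ) y ∈ Set.range V.2.fromSpec := ⟨(Spec.map (CommRingCat.ofHom ψ)) y, rfl⟩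
  rw [V.2.range_fromSpec] at h
  exact h

theorem appLE_testMap (V : X.affineOpens) (R : Type u) [CommRing R] (ψ : Γ(X, V.1) →+* R) :
    (testMap V R ψ).appLE V.1 ⊤ (top_le_preimage V R ψ) =
      CommRingCat.ofHom ψ ≫ (Scheme.ΓSpecIso (CommRingCat.of R)).inv := by
  apply Spec.map_injective
  haveI : IsOpenImmersion V.2.fromSpec := V.2.isOpenImmersion_fromSpec
  rw [← cancel_mono V.2.fromSpec,
    IsAffineOpen.SpecMap_appLE_fromSpec (testMap V R ψ) V.2 (isAffineOpen_top _)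
      (top_le_preimage V R ψ), IsAffineOpen.fromSpec_top, Scheme.isoSpec_Spec_inv, Spec.map_comp,
    Category.assoc]
  rfl

theorem comap_testMap_ideal (I : X.IdealSheafData) (V : X.affineOpens) (t : Γ(X, V.1))
    (hIt : I.ideal V = Ideal.span {t}) (R : Type u) [CommRing R] (ψ : Γ(X, V.1) →+* R) :
    (I.comap (testMap V R ψ)).ideal ⟨⊤, isAffineOpen_top _⟩ =
      Ideal.span {(Scheme.ΓSpecIso (CommRingCat.of R)).inv.hom (ψ t)} := by
  rw [Groth.Agent.H9.comap_ideal (testMap V R ψ) I V ⟨⊤, isAffineOpen_top _⟩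
    (top_le_preimage V R ψ), hIt, Ideal.map_span, Set.image_singleton, appLE_testMap]
  rfl


theorem isEffCartier_comap_testMap (I : X.IdealSheafData) (V : X.affineOpens) (t : Γ(X, V.1))
    (hIt : I.ideal V = Ideal.span {t}) (R : Type u) [CommRing R] [IsDomain R]
    (ψ : Γ(X, V.1) →+* R) (h : ψ t ≠ 0) :
    BlowUp.IsEffCartierIdeal (I.comap (testMap V R ψ)) := by
  intro y
  refine ⟨⟨⊤, isAffineOpen_top _⟩, trivial, _, ?_, comap_testMap_ideal I V t hIt R ψ⟩
  rw [mem_nonZeroDivisors_iff_right]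
  intro z hz
  have h1 := congrArg (Scheme.ΓSpecIso (CommRingCat.of R)).hom.hom hz
  rw [map_mul, map_zero] at h1
  have h2 : (Scheme.ΓSpecIso (CommRingCat.of R)).hom.hom
      ((Scheme.ΓSpecIso (CommRingCat.of R)).inv.hom (ψ t)) = ψ t :=
    Iso.inv_hom_id_apply (Scheme.ΓSpecIso (CommRingCat.of R)) (ψ t)
  rw [h2] at h1
  have h3 : (Scheme.ΓSpecIso (CommRingCat.of R)).hom.hom z = 0 :=
    (mul_eq_zero.1 h1).resolve_right h
  have h4 := congrArg (Scheme.ΓSpecIso (CommRingCat.of R)).inv.hom h3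
  rw [map_zero] at h4
  rw [← h4]
  exact (Iso.hom_inv_id_apply (Scheme.ΓSpecIso (CommRingCat.of R)) z).symm

theorem mem_interior_comap_testMap_iff (I : X.IdealSheafData) (V : X.affineOpens) (t : Γ(X, V.1))
    (hIt : I.ideal V = Ideal.span {t}) (R : Type u) [CommRing R] (ψ : Γ(X, V.1) →+* R)
    (y : Spec (CommRingCat.of R)) :
    y ∈ ModPair.interior (I.comap (testMap V R ψ)) ↔ ψ t ∉ y.asIdeal := by
  have h := compl_inf_eq_basicOpen (I.comap (testMap V R ψ)) ⟨⊤, isAffineOpen_top _⟩ _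
    (comap_testMap_ideal I V t hIt R ψ)
  have h' : (Spec (CommRingCat.of R)).basicOpen
      ((Scheme.ΓSpecIso (CommRingCat.of R)).inv.hom (ψ t)) = PrimeSpectrum.basicOpen (ψ t) :=
    basicOpen_eq_of_affine (R := CommRingCat.of R) (ψ t)
  rw [h'] at h
  have h1 : y ∈ ModPair.interior (I.comap (testMap V R ψ)) ↔
      y ∈ (I.comap (testMap V R ψ)).support.compl ⊓ (⊤ : (Spec (CommRingCat.of R)).Opens) :=
    ⟨fun hy => ⟨hy, trivial⟩, fun hy => hy.1⟩
  rw [h1, h]
  exact PrimeSpectrum.mem_basicOpen _ _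

theorem germ_mem_nonZeroDivisors (V : X.affineOpens) (t : Γ(X, V.1))
    (ht : t ∈ nonZeroDivisors Γ(X, V.1)) (x : X) (hx : x ∈ V.1) :
    X.presheaf.germ V.1 x hx t ∈ nonZeroDivisors (X.presheaf.stalk x) := by
  letI := X.presheaf.algebra_section_stalk ⟨x, hx⟩
  haveI := V.2.isLocalization_stalk ⟨x, hx⟩
  exact IsLocalization.map_nonZeroDivisors_le (V.2.primeIdealOf ⟨x, hx⟩).asIdeal.primeCompl _
    (Submonoid.mem_map_of_mem _ ht)

theorem germ_not_isNilpotent (V : X.affineOpens) (t : Γ(X, V.1))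
    (ht : t ∈ nonZeroDivisors Γ(X, V.1)) (x : X) (hx : x ∈ V.1) :
    ¬ IsNilpotent (X.presheaf.germ V.1 x hx t) := by
  rintro ⟨n, hn⟩
  have := pow_mem (germ_mem_nonZeroDivisors V t ht x hx) n
  rw [hn] at this
  exact zero_notMem_nonZeroDivisors this

/-- unit-ness of the pulled back generator -/
theorem isUnit_of_comap_testMap_eq_top (I : X.IdealSheafData) (V : X.affineOpens) (t : Γ(X, V.1))
    (hIt : I.ideal V = Ideal.span {t}) (R : Type u) [CommRing R] (ψ : Γ(X, V.1) →+* R)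
    (h : I.comap (testMap V R ψ) = ⊤) : IsUnit (ψ t) := by
  have h1 := comap_testMap_ideal I V t hIt R ψ
  rw [h] at h1
  have h2 : Ideal.span {(Scheme.ΓSpecIso (CommRingCat.of R)).inv.hom (ψ t)} = ⊤ := h1.symm
  rw [Ideal.span_singleton_eq_top] at h2
  have h3 := h2.map (Scheme.ΓSpecIso (CommRingCat.of R)).hom.hom
  have h4 : (Scheme.ΓSpecIso (CommRingCat.of R)).hom.hom
      ((Scheme.ΓSpecIso (CommRingCat.of R)).inv.hom (ψ t)) = ψ t :=
    Iso.inv_hom_id_apply (Scheme.ΓSpecIso (CommRingCat.of R)) (ψ t)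
  rw [h4] at h3
  exact h3

end Groth.Agent.H94.ValTestSch
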